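import Cfsg.Agent.H22.DihBlock

/-!
# From a dihedral defect group to the data of a maximal pair
-/

set_option autoImplicit false
set_option linter.unusedSectionVars false
set_option linter.style.haveILetI false

open Cfsg

namespace H22.DihBlock

universe u

variable {G : Type u} [Group G] [Fintype G] {M : Ideal AlgInt} [M.IsPrime]
  [CharP (H20.k M) 2] [IsAlgClosed (H20.k M)] {B : Set (IrrCharacter G)}

theorem exists_dih (hM : IsPModular 2 M) (hB : IsPBlock M B) {D : Subgroup G}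
    (hD : IsDefectGroup 2 M B D) {n : ℕ} (hn : 3 ≤ n)
    (hdih : Nonempty (D ≃* DihedralGroup (2 ^ (n - 1)))) :
    ∃ (f0 : MonoidAlgebra (H20.k M) G) (r s : G), H12.DihPairs.Dih M B D f0 r s (n - 1) := by
  classical
  haveI : Fact (Nat.Prime 2) := ⟨Nat.prime_two⟩
  have hcid := H23.cidem_eB (M := M) hB
  have hC : Subgroup.centralizer ((⊥ : Subgroup G) : Set G) = ⊤ := by
    ext g
    simp [Subgroup.mem_centralizer_iff]
  have hpair : H23.IsPair 2 (⊥ : Subgroup G) (H23.eB M B) := by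
    refine ⟨IsPGroup.of_bot, ?_⟩
    rw [hC]
    exact H23.isBlk_eB hB
  have hin : H23.InBlk (H23.eB M B) (⊥ : Subgroup G) (H23.eB M B) := by
    show _ * H23.Br ⊥ _ = _
    rw [H23.Br_eq_self (hcid.supp.mono hC.ge), hcid.idem]
  obtain ⟨R, e, hmax, -⟩ := H23.exists_max 2 hcid hpair hin
  obtain ⟨g, hg⟩ := H20.defectGroup_conj hM hB (H23.isDefectGroup_of_isMax hB hmax) hD
  have hmax' := hmax.cj' hcid.fix g
  rw [show H23.cjS g R = D from hg] at hmax'
  obtain ⟨φ⟩ := hdih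
  set N := 2 ^ (n - 1) with hN
  haveI : NeZero N := ⟨by positivity⟩
  let r₀ : D := φ.symm (DihedralGroup.r (1 : ZMod N))
  let s₀ : D := φ.symm (DihedralGroup.sr (0 : ZMod N))
  have hord : orderOf (r₀ : G) = N := by
    rw [Subgroup.orderOf_coe, MulEquiv.orderOf_eq, DihedralGroup.orderOf_r_one]
  have hz : ∀ d : D, (d : G) ∈ Subgroup.zpowers (r₀ : G) ↔ ∃ i : ZMod N, φ d = DihedralGroup.r i := by
    intro d
    constructor
    · rintro ⟨k, hk⟩
      refine ⟨(k : ZMod N), ?_⟩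
      have h1 : d = r₀ ^ k := Subtype.ext (by rw [Subgroup.coe_zpow]; exact hk.symm)
      rw [h1, map_zpow, MulEquiv.apply_symm_apply, DihedralGroup.r_one_zpow]
    · rintro ⟨i, hi⟩
      refine ⟨(i.val : ℤ), ?_⟩
      have h1 : r₀ ^ (i.val : ℤ) = d := φ.injective (by
        rw [map_zpow, MulEquiv.apply_symm_apply, DihedralGroup.r_one_zpow, hi]; simp)
      show (r₀ : G) ^ (i.val : ℤ) = (d : G)
      rw [← h1, Subgroup.coe_zpow]
  refine ⟨_, (r₀ : G), (s₀ : G),
    ⟨hM, hB, hmax', by omega, hord, r₀.2, s₀.2, ?_, ?_, ?_, ?_⟩⟩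
  · have h : s₀ * s₀ = 1 := φ.injective (by
      rw [map_mul, map_one, MulEquiv.apply_symm_apply, DihedralGroup.sr_mul_self])
    exact congrArg Subtype.val h
  · intro hs
    obtain ⟨i, hi⟩ := (hz s₀).1 hs
    rw [MulEquiv.apply_symm_apply] at hi
    exact DihedralGroup.noConfusion rfl (heq_of_eq hi)
  · have h : s₀ * r₀ * s₀⁻¹ = r₀⁻¹ := φ.injective (by
      rw [map_mul, map_mul, map_inv, map_inv, MulEquiv.apply_symm_apply, MulEquiv.apply_symm_apply]
      simp)
    exact congrArg Subtype.val h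
  · intro d hd
    rcases hφ : φ ⟨d, hd⟩ with i | i
    · exact Or.inl ((hz ⟨d, hd⟩).2 ⟨i, hφ⟩)
    · refine Or.inr ((hz (s₀ * ⟨d, hd⟩)).2 ⟨i, ?_⟩)
      rw [map_mul, hφ, MulEquiv.apply_symm_apply]
      simp

end H22.DihBlock
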