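import Mathlib

/-!
# The arithmetic of the columns of a block with dihedral defect group

An integral vector of squared norm four and one of squared norm `4 q`, odd at the same places and
nowhere zero, on at least `q + 1` places.
-/

set_option autoImplicit false
set_option linter.unusedSectionVars false

open Finset

namespace H22.DihCount

theorem odd_sq_dichotomy {a : ℤ} (h : ¬ (2 : ℤ) ∣ a) : a ^ 2 = 1 ∨ 9 ≤ a ^ 2 := by
  rcases lt_trichotomy a 0 with h1 | h1 | h1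
  · by_cases h2 : a = -1
    · left; rw [h2]; norm_num
    · right; have : a ≤ -3 := by omega
      nlinarith
  · exact absurd (h1 ▸ dvd_zero _) h
  · by_cases h2 : a = 1
    · left; rw [h2]; norm_num
    · right; have : 3 ≤ a := by omega
      nlinarith

theorem count {ι : Type*} [DecidableEq ι] (s H : Finset ι) (hH : H ⊆ s) (hne : H.Nonempty)
    (x a : ι → ℤ) (hx : ∀ i ∈ H, ¬ (2 : ℤ) ∣ x i) (hx4 : ∑ i ∈ s, x i ^ 2 = 4)
    (ha : ∀ i ∈ H, ¬ (2 : ℤ) ∣ a i) (hae : ∀ i ∈ s, i ∉ H → (2 : ℤ) ∣ a i)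
    (hanz : ∀ i ∈ s, i ∉ H → a i ≠ 0) {q : ℕ} (hasum : ∑ i ∈ s, a i ^ 2 = 4 * (q : ℤ))
    (hcard : q + 1 ≤ s.card) :
    H.card = 4 ∧ (∀ i ∈ H, x i ^ 2 = 1) ∧ (∀ i ∈ s, i ∉ H → x i = 0) ∧
      (∀ i ∈ s, i ∉ H → a i ^ 2 = 4) ∧
      ((s.card = q + 3 ∧ ∀ i ∈ H, a i ^ 2 = 1) ∨
        (s.card = q + 1 ∧ ∃ P ∈ H, a P ^ 2 = 9 ∧ ∀ i ∈ H, i ≠ P → a i ^ 2 = 1)) := by
  classical
  have hx1 : ∀ i ∈ H, 1 ≤ x i ^ 2 := fun i hi => by
    rcases odd_sq_dichotomy (hx i hi) with h | h <;> omega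
  have hsplit : ∀ f : ι → ℤ, ∑ i ∈ s, f i = ∑ i ∈ H, f i + ∑ i ∈ s \ H, f i := fun f => by
    rw [add_comm, sum_sdiff hH]
  have hxoff : 0 ≤ ∑ i ∈ s \ H, x i ^ 2 := sum_nonneg fun i _ => sq_nonneg _
  have hxH : (H.card : ℤ) ≤ ∑ i ∈ H, x i ^ 2 := by
    rw [card_eq_sum_ones]; push_cast
    exact sum_le_sum hx1
  have hx4' : ∑ i ∈ H, x i ^ 2 + ∑ i ∈ s \ H, x i ^ 2 = 4 := by rw [← hsplit]; exact hx4
  have hasplit : ∑ i ∈ H, a i ^ 2 + ∑ i ∈ s \ H, a i ^ 2 = 4 * (q : ℤ) := by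
    rw [← hsplit]; exact hasum
  -- odd squares are one modulo eight
  have hmod : ∀ i ∈ H, ∃ k : ℤ, a i ^ 2 = 1 + 8 * k := fun i hi => by
    obtain ⟨m, hm⟩ := Int.odd_iff.2 (Int.two_dvd_ne_zero.1 (ha i hi))
    obtain ⟨k, hk⟩ : (2 : ℤ) ∣ m * (m + 1) := (Int.even_mul_succ_self m).two_dvd
    refine ⟨k, ?_⟩
    rw [hm]
    linear_combination 4 * hk
  choose! k hk using hmod
  have hk0 : ∀ i ∈ H, 0 ≤ k i := fun i hi => by
    have := hk i hi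
    nlinarith [sq_nonneg (a i)]
  set b : ι → ℤ := fun i => a i / 2
  have hb : ∀ i ∈ s \ H, a i ^ 2 = 4 * b i ^ 2 ∧ 1 ≤ b i ^ 2 := fun i hi => by
    obtain ⟨his, hiH⟩ := mem_sdiff.1 hi
    obtain ⟨m, hm⟩ := hae i his hiH
    have hbm : b i = m := by simp [b, hm]
    have hm0 : m ≠ 0 := fun h => hanz i his hiH (by rw [hm, h, mul_zero])
    refine ⟨by rw [hbm, hm]; ring, ?_⟩
    rw [hbm]
    nlinarith [Int.one_le_abs hm0, sq_abs m]
  have hAH : ∑ i ∈ H, a i ^ 2 = (H.card : ℤ) + 8 * ∑ i ∈ H, k i := by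
    rw [sum_congr rfl hk, sum_add_distrib, mul_sum, card_eq_sum_ones]
    push_cast
    rfl
  have hAoff : ∑ i ∈ s \ H, a i ^ 2 = 4 * ∑ i ∈ s \ H, b i ^ 2 := by
    rw [mul_sum]; exact sum_congr rfl fun i hi => (hb i hi).1
  have hpos : 0 < H.card := card_pos.2 hne
  have hH4 : H.card = 4 := by omega
  have hKnn : 0 ≤ ∑ i ∈ H, k i := sum_nonneg hk0
  have hcardsplit : (s \ H).card + H.card = s.card := card_sdiff_add_card_eq_card hH
  have hxeq : ∀ i ∈ H, x i ^ 2 = 1 := by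
    have h1 : ∑ i ∈ H, x i ^ 2 = ∑ _i ∈ H, (1 : ℤ) := by
      rw [sum_const, nsmul_one]; omega
    exact fun i hi => ((sum_eq_sum_iff_of_le hx1).1 h1.symm i hi).symm
  have hx0 : ∀ i ∈ s, i ∉ H → x i = 0 := fun i hi hiH => by
    have h0 : ∑ i ∈ s \ H, x i ^ 2 = 0 := by omega
    exact pow_eq_zero_iff two_ne_zero |>.1
      ((sum_eq_zero_iff_of_nonneg fun i _ => sq_nonneg _).1 h0 i (mem_sdiff.2 ⟨hi, hiH⟩))
  -- the deficit
  set E := ∑ i ∈ s \ H, (b i ^ 2 - 1) with hE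
  have hEnn : ∀ i ∈ s \ H, 0 ≤ b i ^ 2 - 1 := fun i hi => by linarith [(hb i hi).2]
  have hEeq : ∑ i ∈ s \ H, b i ^ 2 = E + ((s \ H).card : ℤ) := by
    rw [hE, sum_sub_distrib, sum_const, nsmul_one]; ring
  have hEnn' : 0 ≤ E := sum_nonneg hEnn
  have hb1 : ∀ i ∈ s \ H, b i ^ 2 = 1 := fun i hi => by
    have h1 : b i ^ 2 - 1 ≤ E := single_le_sum hEnn hi
    have h2 : E ≤ 2 := by omega
    have h3 : b i ^ 2 ≤ 3 := by omega
    have h4 : b i ≤ 1 := by nlinarith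
    have h5 : -1 ≤ b i := by nlinarith
    have h6 := (hb i hi).2
    rcases (show b i = 1 ∨ b i = -1 ∨ b i = 0 by omega) with h | h | h
    · rw [h]; norm_num
    · rw [h]; norm_num
    · rw [h] at h6; norm_num at h6
  have hE0 : E = 0 := sum_eq_zero fun i hi => by rw [hb1 i hi]; ring
  refine ⟨hH4, hxeq, hx0, fun i hi hiH => ?_, ?_⟩
  · rw [(hb i (mem_sdiff.2 ⟨hi, hiH⟩)).1, hb1 i (mem_sdiff.2 ⟨hi, hiH⟩), mul_one]
  rcases (show ∑ i ∈ H, k i = 0 ∨ ∑ i ∈ H, k i = 1 by omega) with hK | hK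
  · exact Or.inl ⟨by omega, fun i hi => by
      rw [hk i hi, (sum_eq_zero_iff_of_nonneg hk0).1 hK i hi]; ring⟩
  · obtain ⟨P, hP, hP1⟩ : ∃ P ∈ H, k P ≠ 0 := by
      by_contra h
      push Not at h
      rw [sum_eq_zero h] at hK
      exact one_ne_zero hK.symm
    have hrest := add_sum_erase H k hP
    have hrnn : 0 ≤ ∑ i ∈ H.erase P, k i := sum_nonneg fun i hi => hk0 i (mem_of_mem_erase hi)
    have hkP := hk0 P hP
    refine Or.inr ⟨by omega, P, hP, by rw [hk P hP, show k P = 1 by omega]; ring, fun i hi hiP => ?_⟩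
    have h0 : ∑ i ∈ H.erase P, k i = 0 := by omega
    rw [hk i hi, (sum_eq_zero_iff_of_nonneg fun j hj => hk0 j (mem_of_mem_erase hj)).1 h0 i
      (mem_erase.2 ⟨hiP, hi⟩)]
    ring

end H22.DihCount
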