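import Cfsg.Agent.H22.DihSetup
import Cfsg.Agent.H19.CentralPrime
import Cfsg.Agent.H19.AbelianNilpotent
import Cfsg.Agent.H20.KleinDefect

/-!
# A 2-block with quaternion defect group and a central involution

The members trivial at the central involution are the members of a block of the quotient with
dihedral (or Klein four) defect group.
-/

set_option autoImplicit false
set_option linter.unusedSectionVars false
set_option linter.style.haveILetI false

open Cfsg Finset
open scoped ComplexConjugate

namespace H22.QuatQuot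

universe u

variable {K : Type u} [Group K] [Fintype K] {p : ℕ} [hp : Fact p.Prime] {M : Ideal AlgInt}
  [hMp : M.IsPrime] {b : Set (IrrCharacter K)} {z : K}

theorem subgroupMap_ker {G : Type u} [Group G] (N H : Subgroup G) [N.Normal] :
    ((QuotientGroup.mk' N).subgroupMap H).ker = N.subgroupOf H := by
  ext d
  rw [MonoidHom.mem_ker, Subgroup.mem_subgroupOf, ← QuotientGroup.eq_one_iff (d : G)]
  exact ⟨fun h => congrArg Subtype.val h, fun h => Subtype.ext h⟩

/-- The members trivial at `z` are those of a block of the quotient with the image defect group. -/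
theorem exists_quotient_eq (hM : IsPModular p M) (hb : IsPBlock M b) (hz : z ∈ Subgroup.center K)
    (hzp : orderOf z = p) {D : Subgroup K} (hD : IsDefectGroup p M b D) [(Subgroup.zpowers z).Normal]
    [Fintype (K ⧸ Subgroup.zpowers z)] :
    ∃ Bbar : Set (IrrCharacter (K ⧸ Subgroup.zpowers z)), IsPBlock M Bbar ∧
      IsDefectGroup p M Bbar (D.map (QuotientGroup.mk' (Subgroup.zpowers z))) ∧
      (H19.CentralPrime.triv b z).card = Nat.card Bbar := by
  classical
  set Z := Subgroup.zpowers z with hZdef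
  have hZc : Z ≤ Subgroup.center K := Subgroup.zpowers_le.2 hz
  have hZcard : Nat.card Z = p := by rw [hZdef, Nat.card_zpowers, hzp]
  have hZp : IsPGroup p Z := IsPGroup.of_card (n := 1) (by rw [hZcard, pow_one])
  obtain ⟨Bbar, hBb, hsub, hdef⟩ := H21.exists_quotient_block Z hM hZp hb
  refine ⟨Bbar, hBb, (hdef _).2 ⟨D, hD, rfl⟩, ?_⟩
  obtain ⟨θb, hθb, hθe⟩ := H22.exists_height_zero (p := p) (H20.block_nonempty hBb)
  set θ := H21.inflate Z θb with hθdef
  have hθ : θ ∈ b := hsub θb hθb
  have hθh : blockHeight p b (θ : K → ℂ) = 0 := by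
    have hdD : p * Nat.card (D.map (QuotientGroup.mk' Z)) = Nat.card D := by
      have hZD : Z ≤ D := H20.normal_le_defectGroup hM hb hZp hD
      have h1 := Subgroup.card_mul_index ((QuotientGroup.mk' Z).subgroupMap D).ker
      rw [Subgroup.index_ker, MonoidHom.range_eq_top.2 ((QuotientGroup.mk' Z).subgroupMap_surjective D),
        Nat.card_congr Subgroup.topEquiv.toEquiv, show ((QuotientGroup.mk' Z).subgroupMap D).ker =
          Z.subgroupOf D from subgroupMap_ker Z D,
        Nat.card_congr (Subgroup.subgroupOfEquivOfLe hZD).toEquiv, hZcard] at h1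
      exact h1
    rw [H20.card_defectGroup hM hb hD,
      H20.card_defectGroup hM hBb ((hdef _).2 ⟨D, hD, rfl⟩), ← pow_succ'] at hdD
    have hd := Nat.pow_right_injective hp.out.two_le hdD
    have h1 := H22.blockDefect_add_blockExp (p := p) hθb
    have h2 := H22.blockDefect_add_blockExp (p := p) hθ
    have h3 := H22.blockHeight_add_blockExp (p := p) hθ
    have h6 := Subgroup.card_mul_index Z
    rw [Subgroup.index_eq_card Z, hZcard] at h6
    have h7 : (Nat.card K).factorization p = 1 + (Nat.card (K ⧸ Z)).factorization p := by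
      rw [← h6, Nat.factorization_mul hp.out.ne_zero Nat.card_pos.ne', Finsupp.add_apply,
        hp.out.factorization_self]
    rw [show charDegree (θ : K → ℂ) = charDegree (θb : K ⧸ Z → ℂ) from rfl, hθe] at h3
    omega
  obtain ⟨zm, hzm, hmat⟩ := H22.exists_isDeltaMatrix (p := p) hM hb
  have htriv : ∀ φ ∈ Bbar, H21.inflate Z φ ∈ H19.CentralPrime.triv b z := fun φ hφ =>
    H19.CentralPrime.mem_triv.2 ⟨hsub φ hφ, by
      rw [H21.inflate_apply, H21.inflate_apply, (QuotientGroup.eq_one_iff z).2
        (Subgroup.mem_zpowers z), QuotientGroup.mk_one]⟩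
  have hinj : ∀ φ ψ : IrrCharacter (K ⧸ Z), H21.inflate Z φ = H21.inflate Z ψ → φ = ψ := by
    intro φ ψ h
    refine Subtype.ext (funext fun q => ?_)
    obtain ⟨g, rfl⟩ := QuotientGroup.mk_surjective q
    have h1 := congrFun (congrArg Subtype.val h) g
    rwa [H21.inflate_apply, H21.inflate_apply] at h1
  -- every member trivial at `z` comes from `Bbar`
  have key : ∀ η ∈ H19.CentralPrime.triv b z, ∃ φ ∈ Bbar, H21.inflate Z φ = η := by
    intro η hη
    obtain ⟨hηb, hηz⟩ := H19.CentralPrime.mem_triv.1 hη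
    obtain ⟨φ, hφ⟩ := H21.exists_deflate (N := Z) η (by
      intro w hw
      obtain ⟨j, rfl⟩ := (Submonoid.mem_powers_iff _ _).1
        ((mem_powers_iff_mem_zpowers (x := z)).2 hw)
      have h := H19.MajorBound.irr_pow_central hz η j 1
      rw [mul_one, (H19.CentralPrime.eps_eq_one_iff hz η).2 hηz, one_pow, one_mul] at h
      exact h)
    refine ⟨φ, ?_, hφ⟩
    by_contra hφB
    have hzero : H22.Delta p θb φ = 0 := by
      have hmem := H22.Sub.regSpan_le_irrSpan hM hBb
        (Submodule.subset_span ⟨θb, hθb, rfl⟩ :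
          pRegularPart p (θb : K ⧸ Z → ℂ) ∈ H22.Sub.regSpan p Bbar)
      rw [H22.Delta, ← H22.Sub.blockPart_of_mem_irrSpan hmem, H22.Sub.blockPart_eq_smul_sum,
        H12.classInner_sum_left]
      refine sum_eq_zero fun ψ hψ => ?_
      rw [H12.classInner_smul_left, H12.classInner_irr_ne (fun h =>
        hφB (by rw [← h]; exact H22.mem_blockFinset.1 hψ)), mul_zero]
    have hq : ∑ g : K, pRegularPart p (θ : K → ℂ) g * conj ((η : K → ℂ) g) =
        ∑ q : K ⧸ Z, pRegularPart p (θb : K ⧸ Z → ℂ) q * conj ((φ : K ⧸ Z → ℂ) q) := by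
      rw [← H19.CentralPrime.sum_regular_quotient Z hZc hZp _ (fun q hq => by
        rw [H22.pRegularPart_of_dvd _ hq, zero_mul])]
      refine sum_congr rfl fun g _ => ?_
      by_cases hg : p ∣ orderOf g
      · rw [if_pos hg, H22.pRegularPart_of_dvd _ hg, zero_mul]
      · rw [if_neg hg, H22.pRegularPart_of_not_dvd _ hg,
          H22.pRegularPart_of_not_dvd _ (H85.not_dvd_orderOf_mk Z hg), ← hφ]
        rfl
    have hzero' : H22.Delta p θ η = 0 := by
      rw [H22.Delta, H12.classInner_def, hq]
      rw [H22.Delta, H12.classInner_def, mul_eq_zero] at hzero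
      rw [hzero.resolve_left (inv_ne_zero (H12.card_ne_zero' (G := K ⧸ Z))), mul_zero]
    have hz0 : zm θ η = 0 := by
      have h := hzm θ hθ η
      rw [hzero', mul_zero] at h
      exact_mod_cast h
    exact hmat.exact_zero η hηb θ hθ hθh (by
      rw [hmat.symm η hηb θ hθ, hz0]; exact dvd_zero _)
  rw [← Nat.card_eq_finsetCard]
  exact (Nat.card_eq_of_bijective
    (fun φ : Bbar => (⟨H21.inflate Z φ.1, htriv φ.1 φ.2⟩ : H19.CentralPrime.triv b z))
    ⟨fun φ ψ h => Subtype.ext (hinj _ _ (congrArg Subtype.val h)), fun η => by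
      obtain ⟨φ, hφ, he⟩ := key η.1 η.2
      exact ⟨⟨φ, hφ⟩, Subtype.ext he⟩⟩).symm

/-- The map of the quaternion group onto the dihedral group. -/
noncomputable def toDih (n : ℕ) : QuaternionGroup n →* DihedralGroup n :=
  let c : ZMod (2 * n) →+* ZMod n := ZMod.castHom (dvd_mul_left n 2) (ZMod n)
  MonoidHom.mk' (fun x => match x with
    | QuaternionGroup.a i => DihedralGroup.r (c i)
    | QuaternionGroup.xa i => DihedralGroup.sr (c i)) (by
    rintro (i | i) (j | j) <;>
      simp only [QuaternionGroup.a_mul_a, QuaternionGroup.a_mul_xa, QuaternionGroup.xa_mul_a,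
        QuaternionGroup.xa_mul_xa, DihedralGroup.r_mul_r, DihedralGroup.r_mul_sr,
        DihedralGroup.sr_mul_r, DihedralGroup.sr_mul_sr, map_add, map_sub, map_natCast,
        ZMod.natCast_self, zero_add])

theorem toDih_surjective (n : ℕ) : Function.Surjective (toDih n) := by
  rintro (i | i) <;> obtain ⟨j, hj⟩ := ZMod.castHom_surjective (dvd_mul_left n 2) i
  · exact ⟨QuaternionGroup.a j, congrArg DihedralGroup.r hj⟩
  · exact ⟨QuaternionGroup.xa j, congrArg DihedralGroup.sr hj⟩

theorem toDih_eq_one {n : ℕ} [NeZero n] {x : QuaternionGroup n} (hx : x * x = 1) :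
    toDih n x = 1 := by
  rcases x with i | i
  · rw [QuaternionGroup.a_mul_a, QuaternionGroup.one_def, QuaternionGroup.a.injEq,
      ← ZMod.natCast_zmod_val i, ← Nat.cast_add, ZMod.natCast_eq_zero_iff, ← two_mul] at hx
    show DihedralGroup.r (ZMod.castHom (dvd_mul_left n 2) (ZMod n) i) = _
    rw [DihedralGroup.one_def, DihedralGroup.r.injEq, ← ZMod.natCast_zmod_val i, map_natCast,
      ZMod.natCast_eq_zero_iff]
    exact Nat.dvd_of_mul_dvd_mul_left two_pos hx
  · exfalso
    have h4 := QuaternionGroup.orderOf_xa i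
    have h2 := Nat.le_of_dvd two_pos (orderOf_dvd_of_pow_eq_one ((pow_two _).trans hx))
    omega

/-- The quotient of a quaternion group by its involution. -/
theorem nonempty_map_equiv {D : Subgroup K} {n : ℕ} [NeZero n] (e : D ≃* QuaternionGroup n)
    (hz2 : orderOf z = 2) (hzD : z ∈ D) [(Subgroup.zpowers z).Normal] :
    Nonempty (D.map (QuotientGroup.mk' (Subgroup.zpowers z)) ≃* DihedralGroup n) := by
  classical
  set Z := Subgroup.zpowers z
  haveI : Fintype D := Fintype.ofFinite _
  set ψ := (toDih n).comp e.toMonoidHom with hψ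
  have hψs : Function.Surjective ψ := (toDih_surjective n).comp e.surjective
  have hle : Z.subgroupOf D ≤ ψ.ker := by
    rintro ⟨d, hd⟩ hdZ
    obtain ⟨k, rfl⟩ := Subgroup.mem_zpowers_iff.1 (Subgroup.mem_subgroupOf.1 hdZ)
    rw [MonoidHom.mem_ker, show (⟨z ^ k, hd⟩ : D) = ⟨z, hzD⟩ ^ k from Subtype.ext (by simp),
      map_zpow, hψ, MonoidHom.comp_apply, toDih_eq_one, one_zpow]
    rw [← map_mul, ← map_one e.toMonoidHom]
    congr 1
    apply Subtype.ext
    show z * z = 1
    rw [← pow_two, ← hz2, pow_orderOf_eq_one]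
  have hker : Z.subgroupOf D = ψ.ker := by
    refine Subgroup.eq_of_le_of_card_ge hle ?_
    have hk : Nat.card ψ.ker * (2 * n) = 4 * n := by
      have h1 := Subgroup.card_mul_index ψ.ker
      rw [Subgroup.index_ker, MonoidHom.range_eq_top.2 hψs,
        Nat.card_congr Subgroup.topEquiv.toEquiv, DihedralGroup.nat_card,
        Nat.card_congr e.toEquiv] at h1
      rw [h1, Nat.card_eq_fintype_card, QuaternionGroup.card]
    rw [Nat.card_congr (Subgroup.subgroupOfEquivOfLe (Subgroup.zpowers_le.2 hzD)).toEquiv,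
      Nat.card_zpowers, hz2]
    have := NeZero.pos n
    nlinarith
  let f := (QuotientGroup.mk' Z).subgroupMap D
  have hfk : f.ker = Z.subgroupOf D := subgroupMap_ker Z D
  exact ⟨((QuotientGroup.quotientKerEquivOfSurjective f
    ((QuotientGroup.mk' Z).subgroupMap_surjective D)).symm.trans
    (QuotientGroup.quotientMulEquivOfEq (hfk.trans hker))).trans
    (QuotientGroup.quotientKerEquivOfSurjective ψ hψs)⟩

/-- **The number of members trivial at the central involution.** -/
theorem card_triv {K : Type u} [Group K] [Fintype K] {M : Ideal AlgInt} [M.IsPrime]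
    [CharP (H20.k M) 2] [IsAlgClosed (H20.k M)] (hM : IsPModular 2 M) {b : Set (IrrCharacter K)}
    (hb : IsPBlock M b) {D : Subgroup K} (hD : IsDefectGroup 2 M b D) {a : ℕ} (ha : 1 ≤ a)
    (e : D ≃* QuaternionGroup (2 ^ a)) {z : K} (hz : z ∈ Subgroup.center K) (hz2 : orderOf z = 2) :
    (H19.CentralPrime.triv b z).card = 2 ^ (a - 1) + 3 := by
  classical
  haveI : Fact (Nat.Prime 2) := ⟨Nat.prime_two⟩
  haveI : (Subgroup.zpowers z).Normal := ⟨fun w hw g => by
    rw [Subgroup.mem_center_iff.1 (Subgroup.zpowers_le.2 hz hw) g, mul_inv_cancel_right]; exact hw⟩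
  haveI : Fintype (K ⧸ Subgroup.zpowers z) := Fintype.ofFinite _
  have hzD : z ∈ D := H20.normal_le_defectGroup hM hb
    (IsPGroup.of_card (n := 1) (by rw [Nat.card_zpowers, hz2, pow_one])) hD (Subgroup.mem_zpowers z)
  obtain ⟨Bbar, hBb, hDb, hcard⟩ := exists_quotient_eq hM hb hz hz2 hD
  obtain ⟨φ⟩ := nonempty_map_equiv e hz2 hzD
  rw [hcard]
  rcases Nat.lt_or_ge a 2 with ha2 | ha2
  · obtain rfl : a = 1 := by omega
    have hV : IsKleinFour (D.map (QuotientGroup.mk' (Subgroup.zpowers z))) :=
      ⟨by rw [Nat.card_congr φ.toEquiv]; exact IsKleinFour.card_four (G := DihedralGroup 2),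
       (Monoid.exponent_eq_of_mulEquiv φ).trans (IsKleinFour.exponent_two (G := DihedralGroup 2))⟩
    obtain ⟨c, hc⟩ := H19.AbelianNilpotent.exists_root hM hBb hDb (H20.Klein.klein_comm hV)
    exact (H20.Klein.main hM hBb hDb hV hc
      (T := H23.stab _ (H23.eG M _ c))
      (fun g => H19.AbelianLocal.mem_stab_iff hc.1 g) rfl).2.1
  · obtain ⟨f0, r, s, h⟩ := H22.DihBlock.exists_dih hM hBb hDb (n := a + 1) (by omega)
      ⟨by rwa [Nat.add_sub_cancel]⟩
    rw [Nat.add_sub_cancel] at h
    exact (H22.DihBlock.invariants h).1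

end H22.QuatQuot
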