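import Mathlib
import Cfsg.Agent.H24.DefectZero
import Cfsg.Agent.H20.Defect
import Cfsg.Agent.H12.Products

/-!
Sums of a defect zero character over the cosets of a Sylow `p`-subgroup `U`.

For an element `g` let `qn g` be the order of `U ∩ g U g⁻¹`.  If `χ` has defect zero, then
`∑ u ∈ U, χ (u g)` is `qn g` times a local integer `zval g`.  If the residues of `zval` are constant on
the double cosets with `qn g = 1` for every character of defect zero, there is at most one of them.
-/

set_option autoImplicit false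
set_option linter.unusedSectionVars false

open Cfsg Finset
open scoped ComplexConjugate

namespace H22.TauSum

universe u

variable {G : Type u} [Group G] [Fintype G]

/-- The sum of `f` over `U g`. -/
noncomputable def tau (U : Subgroup G) (f : G → ℂ) (g : G) : ℂ :=
  haveI := Fintype.ofFinite U
  ∑ u : U, f (u * g)

/-- The order of `U ∩ g U g⁻¹`. -/
noncomputable def qn (U : Subgroup G) (g : G) : ℕ := Nat.card {w : U // g⁻¹ * (w : G) * g ∈ U}

/-- The normalised sum. -/
noncomputable def zval (U : Subgroup G) (f : G → ℂ) (g : G) : ℂ := tau U f g / (qn U g : ℂ)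

theorem qn_pos (U : Subgroup G) (g : G) : 0 < qn U g := by
  haveI : Nonempty {w : U // g⁻¹ * (w : G) * g ∈ U} := ⟨⟨1, by simp⟩⟩
  exact Nat.card_pos

theorem tau_eq_sum (U : Subgroup G) [Fintype U] (f : G → ℂ) (g : G) :
    tau U f g = ∑ u : U, f (u * g) := by
  unfold tau
  exact sum_congr (by ext; simp) fun _ _ => rfl

theorem tau_eq_mul_zval (U : Subgroup G) (f : G → ℂ) (g : G) :
    tau U f g = (qn U g : ℂ) * zval U f g := by
  rw [zval, mul_div_cancel₀ _ (Nat.cast_ne_zero.2 (qn_pos U g).ne')]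

theorem tau_mul_left (U : Subgroup G) (f : G → ℂ) (g : G) {u : G} (hu : u ∈ U) :
    tau U f (u * g) = tau U f g := by
  haveI := Fintype.ofFinite U
  rw [tau_eq_sum, tau_eq_sum]
  exact Fintype.sum_equiv (Equiv.mulRight (⟨u, hu⟩ : U)) _ _ fun w => by
    simp [mul_assoc]

theorem tau_mul_right (U : Subgroup G) {f : G → ℂ} (hf : IsClassFunction G f) (g : G) {u : G}
    (hu : u ∈ U) : tau U f (g * u) = tau U f g := by
  haveI := Fintype.ofFinite U
  rw [tau_eq_sum, tau_eq_sum]
  refine Fintype.sum_equiv (Equiv.mulLeft (⟨u, hu⟩ : U)) _ _ fun w => ?_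
  rw [← hf ((w : G) * (g * u)) u]
  simp [mul_assoc]

theorem qn_mul_left (U : Subgroup G) (g : G) {u : G} (hu : u ∈ U) : qn U (u * g) = qn U g := by
  refine Nat.card_congr
    { toFun := fun w => ⟨⟨u⁻¹ * w.1 * u, mul_mem (mul_mem (inv_mem hu) w.1.2) hu⟩, ?_⟩
      invFun := fun w => ⟨⟨u * w.1 * u⁻¹, mul_mem (mul_mem hu w.1.2) (inv_mem hu)⟩, ?_⟩
      left_inv := fun w => by ext; simp [mul_assoc]
      right_inv := fun w => by ext; simp [mul_assoc] }
  · simpa [mul_assoc] using w.2
  · simpa [mul_assoc] using w.2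

theorem qn_mul_right (U : Subgroup G) (g : G) {u : G} (hu : u ∈ U) : qn U (g * u) = qn U g := by
  refine Nat.card_congr (Equiv.subtypeEquivRight fun w => ?_)
  rw [show (g * u)⁻¹ * (w : G) * (g * u) = u⁻¹ * (g⁻¹ * (w : G) * g) * u by group]
  refine ⟨fun h => ?_, fun h => mul_mem (mul_mem (inv_mem hu) h) hu⟩
  simpa [mul_assoc] using mul_mem (mul_mem hu h) (inv_mem hu)

theorem qn_inv (U : Subgroup G) (g : G) : qn U g⁻¹ = qn U g := by
  refine Nat.card_congr
    { toFun := fun w => ⟨⟨g * w.1 * g⁻¹, ?_⟩, ?_⟩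
      invFun := fun w => ⟨⟨g⁻¹ * w.1 * g, w.2⟩, ?_⟩
      left_inv := fun w => by ext; simp [mul_assoc]
      right_inv := fun w => by ext; simp [mul_assoc] }
  · simpa using w.2
  · simp [mul_assoc]
  · simp [mul_assoc]

/-- `φ` summed over pairs in `U g U` is divisible by `qn g`. -/
theorem sum_pairs (U : Subgroup G) [Fintype U] (g : G) :
    ∃ S : Finset G, S.card * qn U g = Nat.card U * Nat.card U ∧
      (∀ x, x ∈ S ↔ ∃ u ∈ U, ∃ v ∈ U, x = u * g * v) ∧
      ∀ φ : G → ℂ, ∑ u : U, ∑ v : U, φ ((u : G) * g * v) = (qn U g : ℂ) * ∑ x ∈ S, φ x := by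
  classical
  let F : U × U → G := fun w => (w.1 : G) * g * w.2
  refine ⟨univ.image F, ?_, fun x => ?_, fun φ => ?_⟩
  case refine_2 =>
    constructor
    · intro hx
      obtain ⟨w, -, rfl⟩ := mem_image.1 hx
      exact ⟨_, w.1.2, _, w.2.2, rfl⟩
    · rintro ⟨u, hu, v, hv, rfl⟩
      exact mem_image.2 ⟨(⟨u, hu⟩, ⟨v, hv⟩), mem_univ _, rfl⟩
  all_goals
    have hfib : ∀ x ∈ univ.image F, (univ.filter fun w => F w = x).card = qn U g := by
      intro x hx
      obtain ⟨⟨u₀, v₀⟩, -, rfl⟩ := mem_image.1 hx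
      rw [← Nat.card_eq_finsetCard]
      refine Nat.card_congr
        { toFun := fun w => ⟨u₀⁻¹ * w.1.1, ?_⟩
          invFun := fun w => ⟨(u₀ * w.1, ⟨g⁻¹ * (w.1 : G)⁻¹ * g,
            by simpa [mul_assoc] using inv_mem w.2⟩ * v₀), ?_⟩
          left_inv := fun w => ?_
          right_inv := fun w => ?_ }
      · have hw : (w.1.1 : G) * g * w.1.2 = u₀ * g * v₀ := (mem_filter.1 w.2).2
        have : g⁻¹ * ((u₀ : G)⁻¹ * w.1.1) * g = v₀ * (w.1.2 : G)⁻¹ := by
          calc g⁻¹ * ((u₀ : G)⁻¹ * w.1.1) * g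
              = g⁻¹ * (u₀ : G)⁻¹ * ((w.1.1 : G) * g * w.1.2) * (w.1.2 : G)⁻¹ := by group
            _ = v₀ * (w.1.2 : G)⁻¹ := by rw [hw]; group
        simp only [Subgroup.coe_mul, Subgroup.coe_inv]
        rw [this]
        exact mul_mem v₀.2 (inv_mem w.1.2.2)
      · refine mem_filter.2 ⟨mem_univ _, ?_⟩
        simp only [F, Subgroup.coe_mul]
        group
      · have hw : (w.1.1 : G) * g * w.1.2 = u₀ * g * v₀ := (mem_filter.1 w.2).2
        refine Subtype.ext (Prod.ext (by simp) (Subtype.ext ?_))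
        calc g⁻¹ * ((u₀ : G)⁻¹ * w.1.1)⁻¹ * g * v₀
            = g⁻¹ * (w.1.1 : G)⁻¹ * ((u₀ : G) * g * v₀) := by group
          _ = w.1.2 := by rw [← hw]; group
      · exact Subtype.ext (by simp)
  · have h := card_eq_sum_card_fiberwise (f := F) (s := univ) (t := univ.image F)
      (fun w hw => mem_image_of_mem F hw)
    rw [sum_congr rfl hfib, sum_const, smul_eq_mul, card_univ, Fintype.card_prod] at h
    rw [← h, Nat.card_eq_fintype_card]
  · rw [← Fintype.sum_prod_type' (f := fun u v : U => φ ((u : G) * g * v))]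
    rw [← sum_fiberwise_of_maps_to (g := F) (t := univ.image F)
      (fun w hw => mem_image_of_mem F hw), mul_sum]
    refine sum_congr rfl fun x hx => ?_
    rw [sum_congr rfl (g := fun _ => φ x) fun w hw => by rw [← (mem_filter.1 hw).2],
      sum_const, hfib x hx, nsmul_eq_mul]

/-! ### Defect zero -/

/-- `χ` has defect zero. -/
def DefZero (p : ℕ) (χ : IrrCharacter G) : Prop :=
  (charDegree (χ : G → ℂ)).factorization p = (Nat.card G).factorization p

variable {p : ℕ} {M : Ideal AlgInt} [M.IsPrime]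

theorem memRing_degree_div (hM : IsPModular p M) {χ : IrrCharacter G} (h : DefZero p χ) :
    MemLocalRing M ((χ : G → ℂ) 1 / (Nat.card G : ℂ)) := by
  obtain ⟨m, hm⟩ := H12.irr_degree_dvd_card χ
  have hd : H12.degree (χ : G → ℂ) ≠ 0 := (H12.irr_degree_pos χ).ne'
  have hm0 : m ≠ 0 := fun h0 => Nat.card_pos.ne' (by rw [hm, h0, mul_zero])
  have hmp : ¬ p ∣ m := by
    intro hpm
    have h2 : 0 < m.factorization p := hM.1.factorization_pos_of_dvd hm0 hpm
    have h1 : (charDegree (χ : G → ℂ)).factorization p = (Nat.card G).factorization p := h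
    rw [hm, Nat.factorization_mul hd hm0, Finsupp.add_apply] at h1
    have : charDegree (χ : G → ℂ) = H12.degree (χ : G → ℂ) := rfl
    rw [this] at h1
    omega
  rw [H12.irr_apply_one, hm, Nat.cast_mul, div_mul_cancel_left₀ (Nat.cast_ne_zero.2 hd)]
  exact H20.inv_natCast_memRing hM hmp

theorem exists_preimage (hM : IsPModular p M) {χ : IrrCharacter G} (h : DefZero p χ) :
    ∃ a : G → ℂ, (∀ x, MemLocalRing M (a x)) ∧
      ∀ x, (χ : G → ℂ) x = ∑ h : G, a (h⁻¹ * x * h) := by
  classical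
  let r : G → G := fun x => (ConjClasses.mk x).out
  have hr : ∀ x, IsConj (r x) x := fun x =>
    ConjClasses.mk_eq_mk_iff_isConj.1 (Quotient.out_eq (ConjClasses.mk x))
  let C : G → ℂ := fun x => (Nat.card (Subgroup.centralizer ({x} : Set G)) : ℂ)
  refine ⟨fun x => if r x = x then (χ : G → ℂ) x / C x else 0, fun x => ?_, fun x => ?_⟩
  · dsimp only
    split_ifs
    · have e : (χ : G → ℂ) x / C x =
          centralChar (χ : G → ℂ) x * ((χ : G → ℂ) 1 / (Nat.card G : ℂ)) := by
        have h1 : ((Subgroup.centralizer ({x} : Set G)).index : ℂ) * C x = (Nat.card G : ℂ) := by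
          rw [← Nat.cast_mul, Subgroup.index_mul_card]
        have hi : ((Subgroup.centralizer ({x} : Set G)).index : ℂ) ≠ 0 :=
          Nat.cast_ne_zero.2 Subgroup.index_ne_zero_of_finite
        have hC : C x ≠ 0 := Nat.cast_ne_zero.2 Nat.card_pos.ne'
        have h1' := H12.irr_apply_one_ne_zero χ
        rw [centralChar, ← h1]
        field_simp
      rw [e]
      exact H20.memRing_mul (H20.memRing_centralChar χ x) (memRing_degree_div hM h)
    · exact H20.memRing_of_memIdeal H20.memIdeal_zero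
  · have hrx : ∀ y, IsConj y x → r y = r x := fun y hy => by
      show (ConjClasses.mk y).out = (ConjClasses.mk x).out
      rw [ConjClasses.mk_eq_mk_iff_isConj.2 hy]
    have key : ∀ k : G, (if r (k⁻¹ * x * k) = k⁻¹ * x * k then
        (χ : G → ℂ) (k⁻¹ * x * k) / C (k⁻¹ * x * k) else 0) =
        if k⁻¹ * x * k = r x then (χ : G → ℂ) x / C x else 0 := by
      intro k
      have hc : IsConj (k⁻¹ * x * k) x := isConj_iff.2 ⟨k, by group⟩
      rw [hrx _ hc]
      have e1 : (χ : G → ℂ) (k⁻¹ * x * k) = (χ : G → ℂ) x := by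
        simpa using H12.irr_isClassFunction χ x k⁻¹
      have e2 : C (k⁻¹ * x * k) = C x := by
        simpa [C, inv_inv] using congrArg (Nat.cast : ℕ → ℂ) (H20.card_centralizer_conj k⁻¹ x)
      rw [e1, e2]
      exact if_congr eq_comm rfl rfl
    simp only [key]
    rw [sum_ite, sum_const_zero, add_zero, sum_const, nsmul_eq_mul]
    have hcard : (univ.filter fun k : G => k⁻¹ * x * k = r x).card =
        Nat.card (Subgroup.centralizer ({x} : Set G)) := by
      obtain ⟨k₀, hk₀⟩ := isConj_iff.1 (hr x).symm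
      rw [← Nat.card_eq_finsetCard]
      refine Nat.card_congr
        { toFun := fun k => ⟨k.1 * k₀, ?_⟩
          invFun := fun c => ⟨c.1 * k₀⁻¹, ?_⟩
          left_inv := fun k => by ext; simp
          right_inv := fun c => by ext; simp }
      · have hk := ((mem_filter.1 k.2).2).trans hk₀.symm
        refine Subgroup.mem_centralizer_singleton_iff.2 ?_
        calc k.1 * k₀ * x = k.1 * (k₀ * x * k₀⁻¹) * k₀ := by group
          _ = k.1 * (k.1⁻¹ * x * k.1) * k₀ := by rw [hk]
          _ = x * (k.1 * k₀) := by group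
      · refine mem_filter.2 ⟨mem_univ _, ?_⟩
        have hc := Subgroup.mem_centralizer_singleton_iff.1 c.2
        rw [← hk₀, mul_inv_rev, inv_inv]
        calc k₀ * (c : G)⁻¹ * x * ((c : G) * k₀⁻¹)
            = k₀ * ((c : G)⁻¹ * (x * c)) * k₀⁻¹ := by group
          _ = k₀ * x * k₀⁻¹ := by rw [← hc]; group
    rw [hcard, mul_div_cancel₀]
    exact Nat.cast_ne_zero.2 Nat.card_pos.ne'

theorem memRing_zval (hM : IsPModular p M) (U : Subgroup G) {χ : IrrCharacter G}
    (h : DefZero p χ) (g : G) : MemLocalRing M (zval U (χ : G → ℂ) g) := by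
  classical
  haveI := Fintype.ofFinite U
  obtain ⟨a, ha, hχ⟩ := exists_preimage hM h
  obtain ⟨S, -, -, hsum⟩ := sum_pairs U g
  haveI : Fintype (G ⧸ U) := Fintype.ofFinite _
  have e : tau U (χ : G → ℂ) g =
      (qn U g : ℂ) * ∑ r : G ⧸ U, ∑ x ∈ S, a (r.out * x * r.out⁻¹) := by
    rw [tau_eq_sum, mul_sum]
    simp only [hχ]
    have h1 : ∀ u : U, ∑ k : G, a (k⁻¹ * ((u : G) * g) * k) =
        ∑ r : G ⧸ U, ∑ v : U, a (r.out * ((v : G) * ((u : G) * g) * (v : G)⁻¹) * r.out⁻¹) := by
      intro u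
      rw [← Fintype.sum_prod_type']
      have hv : ∀ k : G, (QuotientGroup.mk k : G ⧸ U).out⁻¹ * k ∈ U := fun k =>
        QuotientGroup.eq.1 (QuotientGroup.out_eq' _)
      have hmk : ∀ (r : G ⧸ U) (v : U), (QuotientGroup.mk (r.out * v) : G ⧸ U) = r := fun r v => by
        rw [QuotientGroup.mk_mul_of_mem _ v.2, QuotientGroup.out_eq']
      let e : (G ⧸ U) × U ≃ G :=
        { toFun := fun w => w.1.out * w.2
          invFun := fun k => (QuotientGroup.mk k, ⟨_, hv k⟩)
          left_inv := fun w => Prod.ext (hmk w.1 w.2) (Subtype.ext (by simp [hmk]))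
          right_inv := fun k => by simp }
      refine (Fintype.sum_equiv (e.trans (Equiv.inv G)) _ _ fun w => ?_).symm
      simp [e, mul_assoc]
    simp only [h1]
    rw [sum_comm]
    refine sum_congr rfl fun r _ => ?_
    rw [← hsum (fun x => a (r.out * x * r.out⁻¹)), sum_comm]
    conv_rhs => rw [sum_comm]
    refine Fintype.sum_equiv (Equiv.inv U) _ _ fun v => ?_
    refine Fintype.sum_equiv (Equiv.mulLeft v) _ _ fun u => ?_
    simp [mul_assoc]
  rw [zval, e, mul_div_cancel_left₀ _ (Nat.cast_ne_zero.2 (qn_pos U g).ne')]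
  exact H20.memRing_sum _ _ fun r _ => H20.memRing_sum _ _ fun x _ => ha _

theorem zval_mul_left (U : Subgroup G) (f : G → ℂ) (g : G) {u : G} (hu : u ∈ U) :
    zval U f (u * g) = zval U f g := by
  rw [zval, zval, tau_mul_left U f g hu, qn_mul_left U g hu]

theorem zval_mul_right (U : Subgroup G) {f : G → ℂ} (hf : IsClassFunction G f) (g : G) {u : G}
    (hu : u ∈ U) : zval U f (g * u) = zval U f g := by
  rw [zval, zval, tau_mul_right U hf g hu, qn_mul_right U g hu]

/-- Convolution of two irreducible characters. -/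
theorem sum_mul_inv (χ ψ : IrrCharacter G) (c : G) :
    ∑ g : G, (χ : G → ℂ) g * (ψ : G → ℂ) (g⁻¹ * c) =
      if χ = ψ then (Nat.card G : ℂ) / (χ : G → ℂ) 1 * (χ : G → ℂ) c else 0 := by
  classical
  split_ifs with he
  · subst he
    exact H24.sum_irr_mul_inv χ c
  obtain ⟨n, ρ, hρ, h⟩ := ψ.2
  haveI := hρ
  let f : G → ℂ := fun g => (χ : G → ℂ) g⁻¹
  have hf : IsClassFunction G f := fun g x => by
    show (χ : G → ℂ) (x * g * x⁻¹)⁻¹ = (χ : G → ℂ) g⁻¹
    rw [show (x * g * x⁻¹)⁻¹ = x * g⁻¹ * x⁻¹ by group]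
    exact H12.irr_isClassFunction χ g⁻¹ x
  have h1 : ∑ g : G, (χ : G → ℂ) g * ρ.character (g⁻¹ * c) =
      LinearMap.trace ℂ _ (H12.avgOp ρ f * ρ c) := by
    rw [← Equiv.sum_comp (Equiv.inv G)]
    have : H12.avgOp ρ f * ρ c = ∑ g : G, f g • ρ (g * c) := by
      apply LinearMap.ext
      intro v
      simp [Module.End.mul_apply, H12.avgOp_apply, map_mul]
    rw [this, map_sum]
    refine Finset.sum_congr rfl fun g _ => ?_
    simp [f, Representation.character]
  have h2 : ∑ g : G, f g * ρ.character g = 0 := by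
    have := H12.sum_mul_conj_eq_card_mul (ψ : G → ℂ) (χ : G → ℂ)
    rw [H12.classInner_irr_ne (Ne.symm he), mul_zero] at this
    rw [← this, ← h]
    refine Finset.sum_congr rfl fun g _ => ?_
    show (χ : G → ℂ) g⁻¹ * ρ.character g = _
    rw [H12.irr_inv, mul_comm]
  rw [← h, h1, H12.avgOp_eq_smul ρ hf, h2, zero_div, zero_smul, zero_mul, map_zero]

theorem sum_tau_mul (hM : IsPModular p M) (U : Subgroup G) (hU : IsPGroup p U)
    {χ ψ : IrrCharacter G} (h : DefZero p χ) :
    ∑ g : G, tau U (χ : G → ℂ) g * tau U (ψ : G → ℂ) g⁻¹ =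
      if χ = ψ then (Nat.card G : ℂ) * Nat.card U else 0 := by
  classical
  haveI := Fintype.ofFinite U
  simp only [tau_eq_sum, sum_mul_sum]
  rw [sum_comm]
  have key : ∀ u v : U, ∑ g : G, (χ : G → ℂ) ((u : G) * g) * (ψ : G → ℂ) ((v : G) * g⁻¹) =
      if χ = ψ then (Nat.card G : ℂ) / (χ : G → ℂ) 1 * (χ : G → ℂ) ((u : G) * v) else 0 := by
    intro u v
    rw [← sum_mul_inv χ ψ ((u : G) * v)]
    refine Fintype.sum_equiv (Equiv.mulLeft (u : G)) _ _ fun g => ?_
    congr 1
    simp only [Equiv.coe_mulLeft]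
    rw [← H12.irr_isClassFunction ψ (((u : G) * g)⁻¹ * ((u : G) * v)) g]
    congr 1
    group
  simp only [sum_comm (s := (univ : Finset G)), key]
  split_ifs with he
  · simp only [← mul_sum]
    have hsum : ∀ u : U, ∑ v : U, (χ : G → ℂ) ((u : G) * v) = (χ : G → ℂ) 1 := by
      intro u
      rw [Fintype.sum_eq_single (u⁻¹ : U)]
      · simp
      · intro v hv
        have hne : (u : G) * v ≠ 1 := fun h0 => hv (Subtype.ext (by
          simpa using (eq_inv_of_mul_eq_one_right h0)))
        obtain ⟨j, hj⟩ := hU (u * v)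
        refine H24.vanish_of_defect_zero hM χ h _ hne ⟨j, ?_⟩
        simpa using congrArg (Subtype.val) hj
    simp only [hsum, sum_const, card_univ, nsmul_eq_mul, ← Nat.card_eq_fintype_card]
    have := H12.irr_apply_one_ne_zero χ
    field_simp
  · simp

/-- The double coset `U g U` as a finite set. -/
noncomputable def doset (U : Subgroup G) (g : G) : Finset G :=
  haveI := Classical.decPred fun x => ∃ u ∈ U, ∃ v ∈ U, x = u * g * v
  univ.filter fun x => ∃ u ∈ U, ∃ v ∈ U, x = u * g * v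

/-- The number of double cosets `U g U` with `qn g = 1`. -/
noncomputable def bigCount (U : Subgroup G) : ℕ :=
  haveI := Classical.decEq (Finset G)
  haveI := Classical.decPred fun O : Finset G => ∃ g ∈ O, qn U g = 1
  ((univ.image (doset U)).filter fun O => ∃ g ∈ O, qn U g = 1).card

/-- A weighted sum over the double cosets `U g U`, modulo the local ideal. -/
theorem sum_tau_congr (hM : IsPModular p M) (U : Subgroup G) (hU : IsPGroup p U)
    (w : G → ℂ) (hw : ∀ g, MemLocalRing M (w g))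
    (hwl : ∀ g, ∀ u ∈ U, w (u * g) = w g) (hwr : ∀ g, ∀ u ∈ U, w (g * u) = w g)
    (c : ℂ) (hc : MemLocalRing M c) (hcw : ∀ g, qn U g = 1 → MemLocalIdeal M (w g - c)) :
    ∃ T : ℂ, (∑ g : G, (qn U g : ℂ) * (qn U g : ℂ) * w g) =
        (Nat.card U : ℂ) * Nat.card U * T ∧ MemLocalIdeal M (T - (bigCount U : ℂ) * c) := by
  classical
  haveI := Fintype.ofFinite U
  have hS := fun g => sum_pairs U g
  choose S hScard hSmem hSsum using hS
  have hSd : S = doset U := funext fun g => by
    ext x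
    rw [hSmem]
    simp [doset]
  have hself : ∀ g, g ∈ S g := fun g => (hSmem g g).2 ⟨1, one_mem U, 1, one_mem U, by simp⟩
  have heq : ∀ g x, x ∈ S g → S x = S g := by
    intro g x hx
    obtain ⟨u, hu, v, hv, rfl⟩ := (hSmem g x).1 hx
    ext y
    simp only [hSmem]
    constructor
    · rintro ⟨a, ha, b, hb, rfl⟩
      exact ⟨a * u, mul_mem ha hu, v * b, mul_mem hv hb, by group⟩
    · rintro ⟨a, ha, b, hb, rfl⟩
      exact ⟨a * u⁻¹, mul_mem ha (inv_mem hu), v⁻¹ * b, mul_mem (inv_mem hv) hb, by group⟩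
  have hfib : ∀ g, (univ.filter fun x => S x = S g) = S g := fun g => by
    ext x
    simp only [mem_filter, mem_univ, true_and]
    exact ⟨fun h => h ▸ hself x, heq g x⟩
  have hqn : ∀ g, ∀ x ∈ S g, qn U x = qn U g ∧ w x = w g := by
    intro g x hx
    obtain ⟨u, hu, v, hv, rfl⟩ := (hSmem g x).1 hx
    exact ⟨by rw [qn_mul_right U _ hv, qn_mul_left U _ hu], by rw [hwr _ v hv, hwl _ u hu]⟩
  let rep : Finset G → G := fun O => if h : ∃ x, x ∈ O then h.choose else 1
  have hrep : ∀ g, rep (S g) ∈ S g := fun g => by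
    have hne : ∃ x, x ∈ S g := ⟨g, hself g⟩
    simp only [rep]
    rw [dif_pos hne]
    exact hne.choose_spec
  have hbig : bigCount U = ((univ.image S).filter fun O => qn U (rep O) = 1).card := by
    rw [bigCount, hSd]
    refine congrArg Finset.card (Finset.ext fun O => ?_)
    simp only [mem_filter, mem_image, mem_univ, true_and]
    constructor
    · rintro ⟨⟨g, rfl⟩, x, hx, hx1⟩
      exact ⟨⟨g, rfl⟩, by rw [(hqn g _ (hSd ▸ hrep g)).1, ← (hqn g x (hSd ▸ hx)).1, hx1]⟩
    · rintro ⟨⟨g, rfl⟩, h1⟩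
      exact ⟨⟨g, rfl⟩, _, hSd ▸ hrep g, h1⟩
  refine ⟨∑ O ∈ univ.image S, (qn U (rep O) : ℂ) * w (rep O), ?_, ?_⟩
  · rw [← sum_fiberwise_of_maps_to (g := S) (t := univ.image S)
      (fun x hx => mem_image_of_mem S hx), mul_sum]
    refine sum_congr rfl fun O hO => ?_
    obtain ⟨g, -, rfl⟩ := mem_image.1 hO
    obtain ⟨hq, hwg⟩ := hqn g _ (hrep g)
    rw [hfib g, sum_congr rfl (g := fun _ => (qn U g : ℂ) * (qn U g : ℂ) * w g)
      (fun x hx => by rw [(hqn g x hx).1, (hqn g x hx).2]), sum_const, nsmul_eq_mul, hq, hwg,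
      ← Nat.cast_mul (Nat.card U), ← hScard g, Nat.cast_mul]
    ring
  · rw [hbig, card_filter, Nat.cast_sum, sum_mul, ← sum_sub_distrib]
    refine sum_induction _ (fun z => MemLocalIdeal M z) (fun _ _ => H20.memIdeal_add)
      H20.memIdeal_zero fun O _ => ?_
    split_ifs with h1
    · rw [h1, Nat.cast_one, one_mul, one_mul]
      exact hcw _ h1
    · rw [Nat.cast_zero, zero_mul, sub_zero, mul_comm]
      refine H20.memIdeal_mul (hw _) ((H20.natCast_memIdeal_iff hM _).2 ?_)
      have hsub : qn U (rep O) = Nat.card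
          ((U.comap (MulAut.conj (rep O)⁻¹).toMonoidHom).subgroupOf U) := by
        refine Nat.card_congr (Equiv.subtypeEquivRight fun w => ?_)
        simp [Subgroup.mem_subgroupOf]
      haveI : Fact p.Prime := ⟨hM.1⟩
      obtain ⟨k, hk⟩ := (IsPGroup.iff_card).1 (hU.to_subgroup
        ((U.comap (MulAut.conj (rep O)⁻¹).toMonoidHom).subgroupOf U))
      rw [hsub, hk] at h1 ⊢
      exact dvd_pow_self p fun h0 => h1 (by rw [h0, pow_zero])

/-- If the residues of the sums are constant on the double cosets with `qn = 1`, there is at most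
one character of defect zero. -/
theorem defZero_unique (hM : IsPModular p M) (U : Subgroup G) (hU : IsPGroup p U)
    (hidx : ¬ p ∣ U.index)
    (hconst : ∀ χ : IrrCharacter G, DefZero p χ → ∀ g g', qn U g = 1 → qn U g' = 1 →
      MemLocalIdeal M (zval U (χ : G → ℂ) g - zval U (χ : G → ℂ) g'))
    {χ ψ : IrrCharacter G} (hχ : DefZero p χ) (hψ : DefZero p ψ) : χ = ψ := by
  classical
  by_contra hne
  have hUpos : (Nat.card U : ℂ) ≠ 0 := Nat.cast_ne_zero.2 Nat.card_pos.ne'
  by_cases hbig : ∃ g₀ : G, qn U g₀ = 1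
  swap
  · -- no such double coset: impossible
    obtain ⟨T, hT, hTN⟩ := sum_tau_congr hM U hU
      (fun g => zval U (χ : G → ℂ) g * zval U (χ : G → ℂ) g⁻¹)
      (fun g => H20.memRing_mul (memRing_zval hM U hχ g) (memRing_zval hM U hχ _))
      (fun g u hu => by
        rw [zval_mul_left U _ _ hu, mul_inv_rev,
          zval_mul_right U (H12.irr_isClassFunction χ) _ (inv_mem hu)])
      (fun g u hu => by
        rw [zval_mul_right U (H12.irr_isClassFunction χ) _ hu, mul_inv_rev,
          zval_mul_left U _ _ (inv_mem hu)])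
      0 (H20.memRing_of_memIdeal H20.memIdeal_zero) (fun g hg => absurd ⟨g, hg⟩ hbig)
    have h := sum_tau_mul (ψ := χ) hM U hU hχ
    rw [if_pos rfl, sum_congr rfl (g := fun g => (qn U g : ℂ) * (qn U g : ℂ) *
      (zval U (χ : G → ℂ) g * zval U (χ : G → ℂ) g⁻¹)) (fun g _ => by
        rw [tau_eq_mul_zval, tau_eq_mul_zval, qn_inv]; ring), hT] at h
    have hT1 : T = (U.index : ℂ) := by
      rw [← Subgroup.card_mul_index U, Nat.cast_mul] at h
      refine mul_left_cancel₀ (mul_ne_zero hUpos hUpos) (h.trans ?_)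
      ring
    rw [mul_zero, sub_zero, hT1] at hTN
    exact hidx ((H20.natCast_memIdeal_iff hM _).1 hTN)
  obtain ⟨g₀, hg₀⟩ := hbig
  have hg₀' : qn U g₀⁻¹ = 1 := by rwa [qn_inv]
  set a := zval U (χ : G → ℂ) g₀
  set b := zval U (ψ : G → ℂ) g₀
  have main : ∀ φ φ' : IrrCharacter G, DefZero p φ → DefZero p φ' → ∃ T : ℂ,
      (if φ = φ' then (U.index : ℂ) else 0) = T ∧
        MemLocalIdeal M (T - (bigCount U : ℂ) *
          (zval U (φ : G → ℂ) g₀ * zval U (φ' : G → ℂ) g₀)) := by
    intro φ φ' hφ hφ'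
    obtain ⟨T, hT, hTN⟩ := sum_tau_congr hM U hU
      (fun g => zval U (φ : G → ℂ) g * zval U (φ' : G → ℂ) g⁻¹)
      (fun g => H20.memRing_mul (memRing_zval hM U hφ g) (memRing_zval hM U hφ' _))
      (fun g u hu => by
        rw [zval_mul_left U _ _ hu, mul_inv_rev,
          zval_mul_right U (H12.irr_isClassFunction φ') _ (inv_mem hu)])
      (fun g u hu => by
        rw [zval_mul_right U (H12.irr_isClassFunction φ) _ hu, mul_inv_rev,
          zval_mul_left U _ _ (inv_mem hu)])
      (zval U (φ : G → ℂ) g₀ * zval U (φ' : G → ℂ) g₀)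
      (H20.memRing_mul (memRing_zval hM U hφ _) (memRing_zval hM U hφ' _)) (fun g hg => by
        have h1 := hconst φ hφ g g₀ hg hg₀
        have h2 := hconst φ' hφ' g⁻¹ g₀ (by rwa [qn_inv]) hg₀
        have e := H20.memIdeal_add (H20.memIdeal_mul (memRing_zval hM U hφ' g⁻¹) h1)
          (H20.memIdeal_mul (memRing_zval hM U hφ g₀) h2)
        convert e using 1
        ring)
    have h := sum_tau_mul (ψ := φ') hM U hU hφ
    rw [sum_congr rfl (g := fun g => (qn U g : ℂ) * (qn U g : ℂ) *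
      (zval U (φ : G → ℂ) g * zval U (φ' : G → ℂ) g⁻¹)) (fun g _ => by
        rw [tau_eq_mul_zval, tau_eq_mul_zval, qn_inv]; ring), hT] at h
    refine ⟨T, mul_left_cancel₀ (mul_ne_zero hUpos hUpos) (Eq.trans ?_ h.symm), hTN⟩
    split_ifs
    · rw [← Subgroup.card_mul_index U, Nat.cast_mul]; ring
    · rw [mul_zero]
  have hne0 : ∀ φ : IrrCharacter G, DefZero p φ →
      ¬ MemLocalIdeal M (zval U (φ : G → ℂ) g₀) := by
    intro φ hφ hI
    obtain ⟨T, hT, hTN⟩ := main φ φ hφ hφ
    rw [if_pos rfl] at hT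
    subst hT
    refine hidx ((H20.natCast_memIdeal_iff hM _).1 ?_)
    have e := H20.memIdeal_add hTN (H20.memIdeal_mul (H20.memRing_mul (H20.memRing_natCast (bigCount U))
      (memRing_zval hM U hφ g₀)) hI)
    convert e using 1
    ring
  -- the number of big double cosets is prime to `p`
  obtain ⟨T, hT, hTN⟩ := main χ χ hχ hχ
  rw [if_pos rfl] at hT
  subst hT
  obtain ⟨T'', hT'', hTN''⟩ := main χ ψ hχ hψ
  rw [if_neg hne] at hT''
  subst hT''
  have hprod : MemLocalIdeal M ((bigCount U : ℂ) * (a * b)) := by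
    have e := H20.memIdeal_mul (H20.memRing_neg (H20.memRing_natCast 1)) hTN''
    convert e using 1
    simp only [a, b]
    push_cast
    ring
  have hN : ¬ MemLocalIdeal M ((bigCount U : ℂ)) := by
    intro hI
    refine hidx ((H20.natCast_memIdeal_iff hM _).1 ?_)
    have e := H20.memIdeal_add hTN (H20.memIdeal_mul (H20.memRing_mul
      (memRing_zval hM U hχ g₀) (memRing_zval hM U hχ g₀)) hI)
    convert e using 1
    ring
  have h1 := H20.inv_memRing (H20.memRing_natCast (bigCount U)) hN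
  have h2 := H20.inv_memRing (memRing_zval hM U hχ g₀) (hne0 χ hχ)
  have e := H20.memIdeal_mul (H20.memRing_mul h2.2 h1.2) hprod
  refine hne0 ψ hψ ?_
  convert e using 1
  have := h1.1
  have := h2.1
  simp only [a, b] at *
  field_simp

/-- A sum over a one-parameter complement of `V`. -/
theorem sum_complement {F : Type*} [Fintype F] (U V : Subgroup G) [Fintype V] (f : G → ℂ)
    (hf : IsClassFunction G f) (x : F → G) (hxn : ∀ a, ∀ v ∈ V, x a * v * (x a)⁻¹ ∈ V)
    (hbij : ∃ e : F × V ≃ U, ∀ a v, ((e (a, v) : U) : G) = x a * v)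
    (h : G) (hC : ∀ a, h⁻¹ * x a * h ∈ V) :
    tau U f h = (Fintype.card F : ℂ) * ∑ v : V, f (v * h) := by
  classical
  haveI := Fintype.ofFinite U
  obtain ⟨e, he⟩ := hbij
  rw [tau_eq_sum, ← e.sum_comp fun u : U => f ((u : G) * h), Fintype.sum_prod_type]
  have key : ∀ a, ∑ v : V, f ((e (a, v) : U) * h) = ∑ v : V, f (v * h) := by
    intro a
    let σ : V ≃ V :=
      { toFun := fun v => ⟨x a * v * (x a)⁻¹, hxn a v v.2⟩
        invFun := fun v => ⟨(x a)⁻¹ * v * x a, by
          -- conjugation by `x a` is onto `V`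
          have hinj : Function.Injective (fun w : V => (⟨x a * w * (x a)⁻¹, hxn a w w.2⟩ : V)) :=
            fun w w' hw => Subtype.ext (by simpa using congrArg Subtype.val hw)
          obtain ⟨w, hw⟩ := Finite.injective_iff_surjective.1 hinj v
          rw [← hw]
          simp [mul_assoc]⟩
        left_inv := fun v => by ext; simp [mul_assoc]
        right_inv := fun v => by ext; simp [mul_assoc] }
    refine Fintype.sum_equiv (σ.trans (Equiv.mulLeft ⟨h⁻¹ * x a * h, hC a⟩)) _ _ fun v => ?_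
    rw [he]
    show f (x a * v * h) = f ((h⁻¹ * x a * h) * (x a * v * (x a)⁻¹) * h)
    rw [← hf (x a * (v : G) * h) (h⁻¹ * x a * h)]
    congr 1
    group
  simp only [key, sum_const, card_univ, nsmul_eq_mul]

/-- The quadratic relation for the sums of a class function over the cosets of `U`. -/
theorem step_identity {F : Type*} [Fintype F] [Zero F] (U V : Subgroup G) [Fintype V]
    (f : G → ℂ) (hf : IsClassFunction G f) (x : F → G) (hx0 : x 0 = 1)
    (hxn : ∀ a, ∀ v ∈ V, x a * v * (x a)⁻¹ ∈ V)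
    (hbij : ∃ e : F × V ≃ U, ∀ a v, ((e (a, v) : U) : G) = x a * v)
    (n : G) (hn : ∀ v, v ∈ V ↔ n * v * n⁻¹ ∈ V)
    (k : F → G) (b : F → F) (hk : ∀ a, ∀ v, v ∈ V ↔ (k a)⁻¹ * v * k a ∈ V)
    (hid : ∀ a, a ≠ 0 → n * x a * n⁻¹ = x (b a) * k a * x (b a))
    (g : G) (hC1 : ∀ a, g * x a * g⁻¹ ∈ V) (hC2 : ∀ a, g⁻¹ * x a * g ∈ V) [DecidableEq F] :
    (Fintype.card F : ℂ) * tau U f (n⁻¹ * g * n) =
      tau U f g + ∑ a ∈ univ.erase (0 : F), tau U f (g * k a) := by
  classical
  haveI := Fintype.ofFinite U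
  have hcl : ∀ y z : G, f (y * z) = f (z * y) := fun y z => by
    rw [← hf (z * y) y]
    congr 1
    group
  obtain ⟨e, he⟩ := hbij
  have hsplit : tau U f (n⁻¹ * g * n) = ∑ a : F, ∑ v : V, f (n * x a * n⁻¹ * v * g) := by
    rw [tau_eq_sum, ← e.sum_comp fun u : U => f ((u : G) * (n⁻¹ * g * n)), Fintype.sum_prod_type]
    refine sum_congr rfl fun a _ => ?_
    let σ : V ≃ V :=
      { toFun := fun v => ⟨n * v * n⁻¹, (hn v).1 v.2⟩
        invFun := fun v => ⟨n⁻¹ * v * n, (hn _).2 (by simp [mul_assoc])⟩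
        left_inv := fun v => by ext; simp [mul_assoc]
        right_inv := fun v => by ext; simp [mul_assoc] }
    refine Fintype.sum_equiv σ _ _ fun v => ?_
    rw [he, ← hf (x a * v * (n⁻¹ * g * n)) n]
    congr 1
    simp only [σ, Equiv.coe_fn_mk]
    group
  rw [hsplit, mul_sum, ← add_sum_erase _ _ (mem_univ (0 : F))]
  congr 1
  · rw [hx0, sum_complement U V f hf x hxn ⟨e, he⟩ g hC2]
    simp
  · refine sum_congr rfl fun a ha => ?_
    have hne : a ≠ 0 := (mem_erase.1 ha).1
    have hC : ∀ c, (g * k a)⁻¹ * x c * (g * k a) ∈ V := fun c => by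
      rw [show (g * k a)⁻¹ * x c * (g * k a) = (k a)⁻¹ * (g⁻¹ * x c * g) * k a by group]
      exact (hk a _).1 (hC2 c)
    rw [sum_complement U V f hf x hxn ⟨e, he⟩ (g * k a) hC]
    congr 1
    have h1 : ∀ v : V, f (n * x a * n⁻¹ * v * g) =
        f (k a * x (b a) * ((v * ⟨g * x (b a) * g⁻¹, hC1 _⟩ : V) : G) * g) := by
      intro v
      rw [hid a hne, Subgroup.coe_mul]
      calc f (x (b a) * k a * x (b a) * v * g) = f (x (b a) * (k a * x (b a) * v * g)) := by
            congr 1; group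
        _ = f (k a * x (b a) * v * g * x (b a)) := hcl _ _
        _ = _ := by congr 1; group
    simp only [h1]
    rw [Fintype.sum_equiv (Equiv.mulRight (⟨g * x (b a) * g⁻¹, hC1 _⟩ : V))
      (fun v => f (k a * x (b a) * ((v * ⟨g * x (b a) * g⁻¹, hC1 _⟩ : V) : G) * g))
      (fun v => f (k a * x (b a) * (v : G) * g)) fun v => rfl]
    have hshift : ∀ v : V, f (k a * x (b a) * (v : G) * g) =
        f (x (b a) * v * (g * k a)) := fun v => by
      rw [show k a * x (b a) * (v : G) * g = k a * (x (b a) * v * g) by group, hcl]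
      congr 1; group
    simp only [hshift]
    -- move `x (b a)` through `g * k a`
    let σ : V ≃ V :=
      { toFun := fun v => ⟨x (b a) * v * (x (b a))⁻¹, hxn _ v v.2⟩
        invFun := fun v => ⟨(x (b a))⁻¹ * v * x (b a), by
          have hinj : Function.Injective
              (fun w : V => (⟨x (b a) * w * (x (b a))⁻¹, hxn _ w w.2⟩ : V)) :=
            fun w w' hw => Subtype.ext (by simpa using congrArg Subtype.val hw)
          obtain ⟨w, hw⟩ := Finite.injective_iff_surjective.1 hinj v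
          rw [← hw]
          simp [mul_assoc]⟩
        left_inv := fun v => by ext; simp [mul_assoc]
        right_inv := fun v => by ext; simp [mul_assoc] }
    refine Fintype.sum_equiv (σ.trans (Equiv.mulLeft ⟨_, hC (b a)⟩)) _ _ fun v => ?_
    show f (x (b a) * v * (g * k a)) =
      f ((g * k a)⁻¹ * x (b a) * (g * k a) * (x (b a) * v * (x (b a))⁻¹) * (g * k a))
    rw [← hf (x (b a) * (v : G) * (g * k a)) ((g * k a)⁻¹ * x (b a) * (g * k a))]
    congr 1
    group

end H22.TauSum
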