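import Mathlib

/-!
Primitive idempotents and their corners in a finite-dimensional algebra over an algebraically
closed field, and a bound for the corner when a central idempotent carries few trace functionals.
-/

set_option autoImplicit false
set_option linter.unusedSectionVars false

open Finset

namespace H22.Corner

universe u v

variable {k : Type u} [Field k] {R : Type v} [Ring R] [Algebra k R]

/-- The corner `f R f`. -/
def corner (k : Type u) [Field k] [Algebra k R] (f : R) : Submodule k R where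
  carrier := {x | f * x = x ∧ x * f = x}
  zero_mem' := by simp
  add_mem' {a b} ha hb := ⟨by rw [mul_add, ha.1, hb.1], by rw [add_mul, ha.2, hb.2]⟩
  smul_mem' c x hx := ⟨by rw [mul_smul_comm, hx.1], by rw [smul_mul_assoc, hx.2]⟩

/-- `f` is a primitive idempotent. -/
structure IsPrim (f : R) : Prop where
  idem : f * f = f
  ne_zero : f ≠ 0
  prim : ∀ g : R, g * g = g → f * g = g → g * f = g → g = 0 ∨ g = f

/-- A linear functional with `φ (x y) = φ (y x)`. -/
def IsTr (φ : R →ₗ[k] k) : Prop := ∀ x y : R, φ (x * y) = φ (y * x)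

theorem mem_corner {f x : R} : x ∈ corner k f ↔ f * x = x ∧ x * f = x := Iff.rfl

theorem self_mem_corner {f : R} (hf : f * f = f) : f ∈ corner k f := ⟨hf, hf⟩

theorem sandwich_mem_corner {f : R} (hf : f * f = f) (x : R) : f * x * f ∈ corner k f :=
  ⟨by rw [← mul_assoc, ← mul_assoc, hf], by rw [mul_assoc (f * x) f f, hf]⟩

theorem mul_mem_corner {f x y : R} (hx : x ∈ corner k f) (hy : y ∈ corner k f) :
    x * y ∈ corner k f :=
  ⟨by rw [← mul_assoc, hx.1], by rw [mul_assoc, hy.2]⟩

variable [FiniteDimensional k R]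

include k in
theorem exists_pow_absorb (b : R) :
    ∃ (n : ℕ) (c : R), 0 < n ∧ Commute b c ∧ b ^ n = b ^ (n + 1) * c := by
  classical
  have hb : IsIntegral k b := IsIntegral.of_finite k b
  set q := minpoly k b
  have hq0 : q ≠ 0 := minpoly.ne_zero hb
  obtain ⟨r, hr, hrd⟩ := Polynomial.exists_eq_pow_rootMultiplicity_mul_and_not_dvd q hq0 0
  set m := q.rootMultiplicity 0
  rw [map_zero, sub_zero] at hr hrd
  rw [Polynomial.X_dvd_iff] at hrd
  set r₁ := r.divX
  have hdec : r = Polynomial.X * r₁ + Polynomial.C (r.coeff 0) :=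
    (Polynomial.X_mul_divX_add r).symm
  have hzero : b ^ m * Polynomial.aeval b r = 0 := by
    have h := minpoly.aeval k b
    rw [show minpoly k b = q from rfl, hr, map_mul, map_pow, Polynomial.aeval_X] at h
    exact h
  rw [hdec, map_add, map_mul, Polynomial.aeval_X, Polynomial.aeval_C, mul_add,
    ← mul_assoc, ← pow_succ, Algebra.algebraMap_eq_smul_one, mul_smul_comm, mul_one,
    add_eq_zero_iff_eq_neg] at hzero
  refine ⟨m + 1, -((r.coeff 0)⁻¹ • Polynomial.aeval b r₁), m.succ_pos, ?_, ?_⟩
  · refine Commute.neg_right (Commute.smul_right ?_ _)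
    conv_lhs => rw [← Polynomial.aeval_X (R := k) b]
    exact (Commute.all _ _).map _
  · have h2 : b ^ m = (r.coeff 0)⁻¹ • -(b ^ (m + 1) * Polynomial.aeval b r₁) := by
      rw [hzero, neg_neg, smul_smul, inv_mul_cancel₀ hrd, one_smul]
    calc b ^ (m + 1) = b * b ^ m := pow_succ' b m
      _ = _ := by
        rw [h2, mul_smul_comm, mul_neg, ← mul_assoc, ← pow_succ', mul_neg, mul_smul_comm,
          smul_neg]

theorem pow_corner {f b : R} (hb : b ∈ corner k f) {n : ℕ} (hn : 0 < n) : b ^ n ∈ corner k f := by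
  obtain ⟨m, rfl⟩ := Nat.exists_eq_succ_of_ne_zero hn.ne'
  induction m with
  | zero => simpa using hb
  | succ m ih => rw [pow_succ]; exact mul_mem_corner (ih m.succ_pos) hb

/-- A non-nilpotent element of the corner of a primitive idempotent is invertible there. -/
theorem exists_inv_of_not_nilpotent {f b : R} (hf : IsPrim f) (hb : b ∈ corner k f)
    (hn : ¬ IsNilpotent b) : ∃ t : R, t * b = f ∧ b * t = f := by
  obtain ⟨n, c, hn0, hc, hbn⟩ := exists_pow_absorb (k := k) b
  have hshift : ∀ i, b ^ n = b ^ (n + i) * c ^ i := by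
    intro i
    induction i with
    | zero => simp
    | succ i ih =>
      calc b ^ n = b ^ (n + i) * c ^ i := ih
        _ = b ^ i * b ^ n * c ^ i := by rw [← pow_add, add_comm]
        _ = b ^ i * (b ^ (n + 1) * c) * c ^ i := by rw [← hbn]
        _ = b ^ (n + (i + 1)) * c ^ (i + 1) := by
          rw [← mul_assoc, ← pow_add, mul_assoc, ← pow_succ']
          congr 2
          omega
  set e := b ^ n * c ^ n
  have hcn : Commute (b ^ n) (c ^ n) := hc.pow_pow n n
  have hbe : e * b ^ n = b ^ n := by
    calc e * b ^ n = b ^ n * (c ^ n * b ^ n) := mul_assoc _ _ _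
      _ = b ^ n * b ^ n * c ^ n := by rw [← hcn.eq, mul_assoc]
      _ = b ^ n := by rw [← pow_add, ← hshift n]
  have hee : e * e = e := by
    calc e * e = e * b ^ n * c ^ n := (mul_assoc e (b ^ n) (c ^ n)).symm
      _ = e := by rw [hbe]
  have hbnf : f * b ^ n = b ^ n := (pow_corner hb hn0).1
  have hbnf' : b ^ n * f = b ^ n := (pow_corner hb hn0).2
  have he1 : f * e = e := by rw [← mul_assoc, hbnf]
  have he2 : e * f = e := by
    calc e * f = c ^ n * (b ^ n * f) := by rw [← mul_assoc, ← hcn.eq]
      _ = e := by rw [hbnf', ← hcn.eq]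
  rcases hf.prim e hee he1 he2 with h0 | h1
  · exact absurd ⟨n, by rw [← hbe, h0, zero_mul]⟩ hn
  · obtain ⟨m, hm⟩ := Nat.exists_eq_succ_of_ne_zero hn0.ne'
    refine ⟨b ^ m * c ^ n, ?_, ?_⟩
    · rw [mul_assoc, ← (hc.pow_right n).eq, ← mul_assoc, ← pow_succ, ← h1]
      simp only [e, hm, Nat.succ_eq_add_one]
    · rw [← mul_assoc, ← pow_succ', ← h1]
      simp only [e, hm, Nat.succ_eq_add_one]

theorem not_nilpotent_mul {f u a : R} (hf : IsPrim f) (hu : IsNilpotent u)
    (huc : u ∈ corner k f) (hac : a ∈ corner k f) :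
    IsNilpotent (a * u) ∧ IsNilpotent (u * a) := by
  have key : IsNilpotent (a * u) := by
    by_contra h
    obtain ⟨t, ht, -⟩ := exists_inv_of_not_nilpotent hf (mul_mem_corner hac huc) h
    obtain ⟨N, hN⟩ := hu
    induction N with
    | zero =>
      apply hf.ne_zero
      rw [← one_mul f, ← pow_zero u, hN, zero_mul]
    | succ N ih =>
      rcases Nat.eq_zero_or_pos N with hN0 | hNpos
      · subst hN0
        rw [zero_add, pow_one] at hN
        subst hN
        exact h (by simp)
      · refine ih ?_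
        calc u ^ N = f * u ^ N := ((pow_corner huc hNpos).1).symm
          _ = t * a * u ^ (N + 1) := by rw [← ht, pow_succ', mul_assoc, mul_assoc, mul_assoc]
          _ = 0 := by rw [hN, mul_zero]
  refine ⟨key, ?_⟩
  obtain ⟨N, hN⟩ := key
  have hk : ∀ i : ℕ, (u * a) ^ (i + 1) = u * (a * u) ^ i * a := by
    intro i
    induction i with
    | zero => simp
    | succ i ih => rw [pow_succ, ih, pow_succ (a * u) i]; noncomm_ring
  exact ⟨N + 1, by rw [hk N, hN, mul_zero, zero_mul]⟩

/-- The inverse of `f - u` for nilpotent `u`. -/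
theorem exists_inv_sub {f u : R} (hf : f * f = f) (hu : IsNilpotent u) (huc : u ∈ corner k f) :
    ∃ s ∈ corner k f, s * (f - u) = f := by
  obtain ⟨N, hN⟩ := hu
  set S := ∑ i ∈ range N, u ^ i
  have hS : S * (1 - u) = 1 := by rw [geom_sum_mul_neg, hN, sub_zero]
  refine ⟨f * S * f, sandwich_mem_corner hf S, ?_⟩
  calc f * S * f * (f - u) = f * S * (f - u) := by
        rw [mul_assoc (f * S) f (f - u), mul_sub, hf, huc.1]
    _ = f * (S * (1 - u)) * f := by
        rw [show f - u = (1 - u) * f by rw [sub_mul, one_mul, huc.2]]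
        simp only [mul_assoc]
    _ = f := by rw [hS, mul_one, hf]

theorem nilpotent_add {f u v : R} (hf : IsPrim f) (hu : IsNilpotent u) (huc : u ∈ corner k f)
    (hv : IsNilpotent v) (hvc : v ∈ corner k f) : IsNilpotent (u + v) := by
  by_contra h
  obtain ⟨t, ht, -⟩ := exists_inv_of_not_nilpotent hf (add_mem huc hvc) h
  have htc : f * t * f ∈ corner k f := sandwich_mem_corner hf.idem t
  have ht' : f * t * f * (u + v) = f := by
    rw [mul_assoc (f * t) f, mul_add f, huc.1, hvc.1, mul_assoc, ht, hf.idem]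
  obtain ⟨s, -, hs⟩ := exists_inv_sub hf.idem (not_nilpotent_mul hf hu huc htc).1
    (mul_mem_corner htc huc)
  have h2 : f * t * f * v = f - f * t * f * u := by
    rw [eq_sub_iff_add_eq, ← mul_add, add_comm v u, ht']
  obtain ⟨N, hN⟩ := (not_nilpotent_mul hf hv hvc htc).1
  rw [h2] at hN
  have hw : f - f * t * f * u ∈ corner k f :=
    sub_mem (self_mem_corner hf.idem) (mul_mem_corner htc huc)
  apply hf.ne_zero
  induction N with
  | zero => rw [← one_mul f, ← pow_zero (f - f * t * f * u), hN, zero_mul]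
  | succ N ih =>
    rcases Nat.eq_zero_or_pos N with hN0 | hNpos
    · subst hN0
      rw [zero_add, pow_one] at hN
      rw [← hs, hN, mul_zero]
    · refine ih ?_
      calc (f - f * t * f * u) ^ N = f * (f - f * t * f * u) ^ N := ((pow_corner hw hNpos).1).symm
        _ = s * (f - f * t * f * u) ^ (N + 1) := by rw [pow_succ', ← mul_assoc, hs]
        _ = 0 := by rw [hN, mul_zero]

/-- The nilpotent elements of the corner of a primitive idempotent. -/
def nil (k : Type u) [Field k] [Algebra k R] [FiniteDimensional k R] {f : R} (hf : IsPrim f) :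
    Submodule k R where
  carrier := {x | x ∈ corner k f ∧ IsNilpotent x}
  zero_mem' := ⟨Submodule.zero_mem _, IsNilpotent.zero⟩
  add_mem' {a b} ha hb := ⟨add_mem ha.1 hb.1, nilpotent_add hf ha.2 ha.1 hb.2 hb.1⟩
  smul_mem' c x hx := ⟨Submodule.smul_mem _ c hx.1, hx.2.smul c⟩

theorem mem_nil {f : R} {hf : IsPrim f} {x : R} :
    x ∈ nil k hf ↔ x ∈ corner k f ∧ IsNilpotent x := Iff.rfl

theorem mul_nil_mem {f : R} {hf : IsPrim f} {a u : R} (ha : a ∈ corner k f) (hu : u ∈ nil k hf) :
    a * u ∈ nil k hf ∧ u * a ∈ nil k hf :=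
  ⟨⟨mul_mem_corner ha hu.1, (not_nilpotent_mul hf hu.2 hu.1 ha).1⟩,
    ⟨mul_mem_corner hu.1 ha, (not_nilpotent_mul hf hu.2 hu.1 ha).2⟩⟩

theorem self_not_mem_nil {f : R} (hf : IsPrim f) : f ∉ nil k hf := by
  rintro ⟨-, N, hN⟩
  rcases Nat.eq_zero_or_pos N with h | h
  · subst h
    exact hf.ne_zero (by rw [← one_mul f, ← pow_zero f, hN, zero_mul])
  · refine hf.ne_zero ?_
    have : ∀ i, f ^ (i + 1) = f := fun i => by
      induction i with
      | zero => simp
      | succ i ih => rw [pow_succ, ih, hf.idem]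
    obtain ⟨m, rfl⟩ := Nat.exists_eq_succ_of_ne_zero h.ne'
    rw [← this m, ← hN]

theorem exists_scalar [IsAlgClosed k] {f a : R} (hf : IsPrim f) (ha : a ∈ corner k f) :
    ∃ c : k, a - c • f ∈ nil k hf := by
  classical
  let V : Submodule k R := LinearMap.range (LinearMap.mulLeft k f)
  have hfV : f ∈ V := ⟨f, hf.idem⟩
  haveI : Nontrivial V :=
    Submodule.nontrivial_iff_ne_bot.2 fun h => hf.ne_zero (by simpa [h] using hfV)
  let T : Module.End k V := (LinearMap.mulLeft k a).restrict fun x hx => by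
    obtain ⟨y, rfl⟩ := hx
    refine ⟨a * y, ?_⟩
    simp only [LinearMap.mulLeft_apply, ← mul_assoc, ha.1, ha.2]
  obtain ⟨c, hc⟩ := Module.End.exists_eigenvalue T
  obtain ⟨⟨w, hwV⟩, hw⟩ := hc.exists_hasEigenvector
  have hw0 : w ≠ 0 := fun h => hw.2 (Subtype.ext h)
  have hw1 : a * w = c • w := congrArg Subtype.val hw.apply_eq_smul
  have hfw : f * w = w := by
    obtain ⟨y, rfl⟩ := hwV
    simp only [LinearMap.mulLeft_apply, ← mul_assoc, hf.idem]
  refine ⟨c, sub_mem ha (Submodule.smul_mem _ c (self_mem_corner hf.idem)), ?_⟩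
  by_contra h
  obtain ⟨t, ht, -⟩ := exists_inv_of_not_nilpotent hf
    (sub_mem ha (Submodule.smul_mem _ c (self_mem_corner (k := k) hf.idem))) h
  apply hw0
  rw [← hfw, ← ht, mul_assoc, sub_mul, hw1, smul_mul_assoc, hfw, sub_self, mul_zero]

/-! ### The two-sided ideal of an idempotent -/

/-- The two-sided ideal generated by `f`, as a subspace. -/
def ispan (k : Type u) [Field k] [Algebra k R] (f : R) : Submodule k R :=
  Submodule.span k (Set.range fun w : R × R => w.1 * f * w.2)

theorem mem_ispan_mul {f z : R} (hz : z ∈ ispan k f) (a b : R) : a * z * b ∈ ispan k f := by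
  refine Submodule.span_induction (p := fun z _ => a * z * b ∈ ispan k f) ?_ ?_ ?_ ?_ hz
  · rintro _ ⟨w, rfl⟩
    exact Submodule.subset_span ⟨(a * w.1, w.2 * b), by simp only [mul_assoc]⟩
  · simp
  · intro x y _ _ hx hy
    rw [mul_add, add_mul]
    exact add_mem hx hy
  · intro c x _ hx
    rw [mul_smul_comm, smul_mul_assoc]
    exact Submodule.smul_mem _ c hx

/-- A trace functional on the corner extends to the algebra. -/
theorem exists_extend {E f : R} (hE : ∀ x, E * x = x * E) (hEE : E * E = E) (hEf : E * f = f)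
    (hf : f * f = f) (hI : E ∈ ispan k f) (l : R →ₗ[k] k)
    (hl : ∀ x ∈ corner k f, ∀ y ∈ corner k f, l (x * y) = l (y * x)) :
    ∃ Λ : R →ₗ[k] k, IsTr Λ ∧ ∀ a ∈ corner k f, Λ a = l a := by
  classical
  obtain ⟨L, hL⟩ := Finsupp.mem_span_range_iff_exists_finsupp.1 hI
  rw [Finsupp.sum] at hL
  let Λ : R →ₗ[k] k := ∑ w ∈ L.support, L w •
    l.comp ((LinearMap.mulLeft k (f * w.2 * E)).comp (LinearMap.mulRight k (w.1 * f)))
  have hΛ : ∀ x, Λ x = ∑ w ∈ L.support, L w * l (f * w.2 * E * (x * (w.1 * f))) := fun x => by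
    simp [Λ, mul_assoc]
  have hsum : ∀ x, ∑ w ∈ L.support, L w • (x * (w.1 * f * w.2)) = x * E := fun x => by
    rw [← hL, mul_sum]
    exact sum_congr rfl fun w _ => (mul_smul_comm _ _ _).symm
  refine ⟨Λ, fun x y => ?_, fun a ha => ?_⟩
  · -- both sides equal a symmetric double sum
    have hexp : ∀ x y : R, Λ (x * y) = ∑ w ∈ L.support, ∑ v ∈ L.support,
        L w * L v * l (f * w.2 * E * x * (v.1 * f) * (f * v.2 * E * y * (w.1 * f))) := by
      intro x y
      rw [hΛ]
      refine sum_congr rfl fun w _ => ?_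
      have e : f * w.2 * E * (x * y * (w.1 * f)) = ∑ v ∈ L.support,
          L v • (f * w.2 * E * x * (v.1 * f) * (f * v.2 * E * y * (w.1 * f))) := by
        have h1 : f * w.2 * E * (x * y * (w.1 * f)) = f * w.2 * E * x * E * E * y * (w.1 * f) := by
          rw [mul_assoc (f * w.2 * E * x) E E, hEE, mul_assoc (f * w.2 * E) x E, ← hE x,
            ← mul_assoc (f * w.2 * E) E x, mul_assoc (f * w.2) E E, hEE]
          simp only [mul_assoc]
        rw [h1, ← hsum (f * w.2 * E * x), sum_mul, sum_mul, sum_mul]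
        refine sum_congr rfl fun v _ => ?_
        rw [smul_mul_assoc, smul_mul_assoc, smul_mul_assoc]
        congr 1
        simp only [← mul_assoc, mul_assoc (f * w.2 * E * x * v.1) f f, hf]
      rw [e, map_sum, mul_sum]
      refine sum_congr rfl fun v _ => ?_
      rw [map_smul, smul_eq_mul]
      ring
    rw [hexp x y, hexp y x, sum_comm]
    refine sum_congr rfl fun v _ => sum_congr rfl fun w _ => ?_
    rw [mul_comm (L v) (L w)]
    congr 1
    refine hl _ ?_ _ ?_ <;>
      (refine ⟨?_, ?_⟩ <;> simp only [← mul_assoc, hf] <;> simp only [mul_assoc, hf])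
  · rw [hΛ]
    have hterm : ∀ w ∈ L.support, L w * l (f * w.2 * E * (a * (w.1 * f))) =
        l (a * (L w • (f * (w.1 * f * w.2) * E * f))) := by
      intro w _
      rw [mul_smul_comm, map_smul, smul_eq_mul]
      congr 1
      have h1 : f * w.2 * E * (a * (w.1 * f)) = (f * w.2 * E * f) * (a * (f * w.1 * f)) := by
        conv_lhs => rw [← ha.1, ← ha.2]
        simp only [mul_assoc]
      rw [h1, hl _ ?_ _ (mul_mem_corner ha (sandwich_mem_corner hf _))]
      · congr 1
        simp only [← mul_assoc, mul_assoc _ f f, hf]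
      all_goals simpa [mul_assoc] using sandwich_mem_corner (k := k) hf (w.2 * E)
    rw [sum_congr rfl hterm, ← map_sum, ← mul_sum]
    congr 1
    have h2 : ∑ w ∈ L.support, L w • (f * (w.1 * f * w.2) * E * f) = f * E * E * f := by
      rw [← hsum f, sum_mul, sum_mul]
      exact sum_congr rfl fun w _ => by rw [smul_mul_assoc, smul_mul_assoc]
    rw [h2, mul_assoc f E E, hEE, mul_assoc f E f, hEf, hf, ha.2]

/-- A trace functional separating `f` from an idempotent outside whose ideal `f` lies. -/
theorem exists_trace [IsAlgClosed k] {f : R} (hf : IsPrim f) :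
    ∃ φ : R →ₗ[k] k, IsTr φ ∧ φ f = 1 ∧ (∀ x : R, IsNilpotent x → φ x = 0) ∧
      ∀ g : R, f ∉ ispan k g → φ g = 0 := by
  classical
  let U : Submodule k R :=
    { carrier := {y | ∀ r, f * r * y * f ∈ nil k hf}
      zero_mem' := fun r => by simp
      add_mem' := fun {a b} ha hb r => by
        rw [mul_add, add_mul]
        exact add_mem (ha r) (hb r)
      smul_mem' := fun c y hy r => by
        rw [mul_smul_comm, smul_mul_assoc]
        exact Submodule.smul_mem _ c (hy r) }
  have hU : ∀ x : R, U ≤ U.comap (LinearMap.mulLeft k x) := fun x y hy r => by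
    have := hy (r * x)
    simpa [mul_assoc] using this
  let act : R → Module.End k (R ⧸ U) := fun x => U.mapQ U (LinearMap.mulLeft k x) (hU x)
  have hmul : ∀ x y, act (x * y) = act x * act y := fun x y => by
    apply Submodule.linearMap_qext
    ext z
    simp [act, mul_assoc]
  have hadd : ∀ x y, act (x + y) = act x + act y := fun x y => by
    apply Submodule.linearMap_qext
    ext z
    simp [act, add_mul]
  have hsmul : ∀ (c : k) x, act (c • x) = c • act x := fun c x => by
    apply Submodule.linearMap_qext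
    ext z
    simp [act, smul_mul_assoc]
  let ρ : R →ₗ[k] Module.End k (R ⧸ U) :=
    { toFun := act, map_add' := hadd, map_smul' := fun c x => by simp [hsmul] }
  refine ⟨(LinearMap.trace k (R ⧸ U)).comp ρ, fun x y => ?_, ?_, fun x hx => ?_, fun g hg => ?_⟩
  · show LinearMap.trace k _ (act (x * y)) = LinearMap.trace k _ (act (y * x))
    rw [hmul, hmul, LinearMap.trace_mul_comm]
  · have hfU : f ∉ U := fun h => by
      have := h f
      rw [hf.idem, hf.idem, hf.idem] at this
      exact self_not_mem_nil hf this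
    -- `f` acts as a projection onto the line of its class
    set w : R ⧸ U := Submodule.Quotient.mk f
    have hline : ∀ z, ∃ c : k, act f z = c • w := by
      intro z
      induction z using Submodule.Quotient.induction_on with | H y => ?_
      obtain ⟨c, hc⟩ := exists_scalar (k := k) hf (sandwich_mem_corner hf.idem y)
      refine ⟨c, ?_⟩
      show Submodule.Quotient.mk (f * y) = _
      rw [← Submodule.Quotient.mk_smul, Submodule.Quotient.eq]
      intro r
      have e : f * r * (f * y - c • f) * f = f * r * f * (f * y * f - c • f) := by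
        rw [mul_sub, sub_mul, mul_sub, mul_smul_comm, mul_smul_comm, smul_mul_assoc]
        congr 1
        simp only [← mul_assoc, mul_assoc (f * r) f f, hf.idem]
      rw [e]
      exact (mul_nil_mem (sandwich_mem_corner hf.idem r) hc).1
    have hw : w ≠ 0 := fun h => hfU ((Submodule.Quotient.mk_eq_zero _).1 h)
    choose c hc using hline
    have hcl : ∀ a b, c (a + b) = c a + c b := fun a b => smul_left_injective k hw (by
      show c (a + b) • w = (c a + c b) • w
      rw [add_smul, ← hc, ← hc, ← hc, map_add])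
    have hcs : ∀ (t : k) a, c (t • a) = t * c a := fun t a => smul_left_injective k hw (by
      show c (t • a) • w = (t * c a) • w
      rw [mul_smul, ← hc, ← hc, map_smul])
    let ℓ : (R ⧸ U) →ₗ[k] k := { toFun := c, map_add' := hcl, map_smul' := hcs }
    have hact : act f = ℓ.smulRight w := LinearMap.ext fun z => by simp [ℓ, hc z]
    show LinearMap.trace k _ (act f) = 1
    rw [hact, LinearMap.trace_smulRight]
    refine smul_left_injective k hw ?_
    show c w • w = (1 : k) • w
    rw [← hc, one_smul]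
    show Submodule.Quotient.mk (f * f) = w
    rw [hf.idem]
  · show LinearMap.trace k _ (act x) = 0
    obtain ⟨N, hN⟩ := hx
    have hpow : ∀ i : ℕ, act x ^ (i + 1) = act (x ^ (i + 1)) := fun i => by
      induction i with
      | zero => simp
      | succ i ih => rw [pow_succ, ih, ← hmul, ← pow_succ]
    refine (LinearMap.isNilpotent_trace_of_isNilpotent ⟨N + 1, ?_⟩).eq_zero
    rw [hpow, pow_succ, hN, zero_mul]
    exact ρ.map_zero
  · show LinearMap.trace k _ (act g) = 0
    have hzero : act g = 0 := by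
      apply Submodule.linearMap_qext
      ext y
      simp only [act, LinearMap.comp_apply, Submodule.mkQ_apply, Submodule.mapQ_apply,
        LinearMap.mulLeft_apply, LinearMap.zero_apply, Submodule.Quotient.mk_eq_zero]
      intro r
      have hc : f * r * (g * y) * f ∈ corner k f := by
        have := sandwich_mem_corner (k := k) hf.idem (r * (g * y))
        simpa [mul_assoc] using this
      refine ⟨hc, ?_⟩
      by_contra hnil
      obtain ⟨t, ht, -⟩ := exists_inv_of_not_nilpotent hf hc hnil
      apply hg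
      rw [← ht]
      refine Submodule.subset_span ⟨(t * (f * r), y * f), ?_⟩
      simp only [mul_assoc]
    rw [hzero, map_zero]

theorem nakayama {f : R} {hf : IsPrim f} (W : Submodule k R) (hfW : ∀ w ∈ W, f * w = w)
    (hle : W ≤ nil k hf * W) : W = ⊥ := by
  classical
  -- `S ⊆ W` generates `W` with coefficients in `nil`
  have key : ∀ n (S : Finset R), S.card ≤ n → (∀ s ∈ S, s ∈ W) →
      (∀ x ∈ W, ∃ v : R → R, (∀ s, v s ∈ nil k hf) ∧ x = ∑ s ∈ S, v s * s) → W = ⊥ := by
    intro n
    induction n with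
    | zero =>
      intro S hS _ hgen
      refine (Submodule.eq_bot_iff W).2 fun x hx => ?_
      obtain ⟨v, -, hv⟩ := hgen x hx
      rw [hv, card_eq_zero.1 (Nat.le_zero.1 hS), sum_empty]
    | succ n ih =>
      intro S hS hSW hgen
      rcases S.eq_empty_or_nonempty with h | ⟨s₀, hs₀⟩
      · exact ih S (by simp [h]) hSW hgen
      have hs₀W : s₀ ∈ W := hSW s₀ hs₀
      obtain ⟨v, hv, hvs⟩ := hgen s₀ hs₀W
      obtain ⟨t, htc, ht⟩ := exists_inv_sub hf.idem (hv s₀).2 (hv s₀).1
      have hsub : (f - v s₀) * s₀ = ∑ s ∈ S.erase s₀, v s * s := by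
        have he := hvs
        rw [← add_sum_erase _ _ hs₀] at he
        rw [sub_mul, hfW _ hs₀W]
        exact sub_eq_iff_eq_add'.2 he
      -- express `s₀` through the remaining generators
      have hnew : s₀ = ∑ s ∈ S.erase s₀, (t * v s) * s := by
        calc s₀ = t * ((f - v s₀) * s₀) := by rw [← mul_assoc, ht, hfW _ hs₀W]
          _ = _ := by rw [hsub, mul_sum]; simp only [mul_assoc]
      refine ih (S.erase s₀) (by rw [card_erase_of_mem hs₀]; omega)
        (fun s hs => hSW s (mem_of_mem_erase hs)) fun x hx => ?_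
      obtain ⟨a, ha, hax⟩ := hgen x hx
      refine ⟨fun s => a s + a s₀ * (t * v s), fun s => add_mem (ha s)
        (mul_nil_mem (ha s₀).1 (mul_nil_mem htc (hv s)).1).1, ?_⟩
      calc x = a s₀ * s₀ + ∑ s ∈ S.erase s₀, a s * s := by rw [hax, ← add_sum_erase _ _ hs₀]
        _ = a s₀ * (∑ s ∈ S.erase s₀, (t * v s) * s) + ∑ s ∈ S.erase s₀, a s * s := by rw [← hnew]
        _ = _ := by
          simp only [add_mul, sum_add_distrib, mul_sum, mul_assoc]
          exact add_comm _ _
  obtain ⟨S, hS⟩ := IsNoetherian.noetherian W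
  refine key S.card S le_rfl (fun s hs => hS ▸ Submodule.subset_span hs) fun x hx => ?_
  refine Submodule.mul_induction_on (hle hx) (fun u hu w hw => ?_) (fun x y hx hy => ?_)
  · rw [← hS] at hw
    obtain ⟨c, hc⟩ := Submodule.mem_span_finset'.1 hw
    refine ⟨fun s => if h : s ∈ S then c ⟨s, h⟩ • u else 0, fun s => ?_, ?_⟩
    · dsimp only
      split_ifs
      · exact Submodule.smul_mem _ _ hu
      · exact zero_mem _
    · rw [← hc, mul_sum, ← sum_attach S]
      exact sum_congr rfl fun s _ => by simp [smul_mul_assoc, mul_smul_comm]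
  · obtain ⟨v, hv, rfl⟩ := hx
    obtain ⟨v', hv', rfl⟩ := hy
    exact ⟨fun s => v s + v' s, fun s => add_mem (hv s) (hv' s), by
      simp [add_mul, sum_add_distrib]⟩

/-- Every family of three elements is dependent for the trace functionals on `E R`. -/
def TraceBound (k : Type u) [Field k] [Algebra k R] (E : R) : Prop :=
  ∀ x : Fin 3 → R, ∃ c : Fin 3 → k, c ≠ 0 ∧
    ∀ φ : R →ₗ[k] k, IsTr φ → ∑ i, c i * φ (E * x i) = 0

/-- With a generating idempotent `f` and few trace functionals, the corner is at most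
two-dimensional. -/
theorem corner_dependent [IsAlgClosed k] {E f : R} (hE : ∀ x, E * x = x * E) (hEE : E * E = E)
    (hEf : E * f = f) (hf : IsPrim f) (hI : E ∈ ispan k f) (hB : TraceBound k E)
    (x : Fin 3 → R) (hx : ∀ i, x i ∈ corner k f) :
    ∃ c : Fin 3 → k, c ≠ 0 ∧ ∑ i, c i • x i = 0 := by
  classical
  set J : Submodule k R := nil k hf with hJ
  have hdep : ∀ y : Fin 3 → R, (∀ i, y i ∈ corner k f) → ∃ c : Fin 3 → k, c ≠ 0 ∧
      ∀ l : R →ₗ[k] k, (∀ a ∈ corner k f, ∀ b ∈ corner k f, l (a * b) = l (b * a)) →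
        l (∑ i, c i • y i) = 0 := by
    intro y hy
    obtain ⟨c, hc, hφ⟩ := hB y
    refine ⟨c, hc, fun l hl => ?_⟩
    obtain ⟨Λ, hΛ, hΛl⟩ := exists_extend hE hEE hEf hf.idem hI l hl
    rw [map_sum, ← hφ Λ hΛ]
    refine sum_congr rfl fun i _ => ?_
    rw [map_smul, smul_eq_mul, ← hΛl _ (hy i), show E * y i = y i by
      conv_lhs => rw [← (hy i).1, ← mul_assoc, hEf, (hy i).1]]
  -- functionals vanishing on `J * J` are traces
  have hJ2 : ∀ y : Fin 3 → R, (∀ i, y i ∈ corner k f) →
      ∃ c : Fin 3 → k, c ≠ 0 ∧ ∑ i, c i • y i ∈ J * J := by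
    intro y hy
    obtain ⟨c, hc, hl⟩ := hdep y hy
    refine ⟨c, hc, ?_⟩
    by_contra hmem
    obtain ⟨l, hl0, hlJ⟩ := Submodule.exists_dual_map_eq_bot_of_notMem hmem inferInstance
    refine hl0 (hl l fun a ha b hb => ?_)
    have hlJ' : ∀ z ∈ J * J, l z = 0 := fun z hz => by
      have := Submodule.mem_map_of_mem (f := l) hz
      rwa [hlJ, Submodule.mem_bot] at this
    obtain ⟨s, hs⟩ := exists_scalar (k := k) hf ha
    obtain ⟨t, ht⟩ := exists_scalar (k := k) hf hb
    obtain ⟨u, hu, rfl⟩ : ∃ u ∈ J, a = s • f + u := ⟨_, hs, by abel⟩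
    obtain ⟨w, hw, rfl⟩ : ∃ w ∈ J, b = t • f + w := ⟨_, ht, by abel⟩
    have h1 := hlJ' _ (Submodule.mul_mem_mul hu hw)
    have h2 := hlJ' _ (Submodule.mul_mem_mul hw hu)
    simp only [add_mul, mul_add, smul_mul_assoc, mul_smul_comm, hf.idem, hu.1.1, hu.1.2, hw.1.1,
      hw.1.2, map_add, map_smul, h1, h2, smul_smul]
    ring
  -- `J` is generated by one element
  have hJJ : J * J ≤ J := Submodule.mul_le.2 fun a ha b hb => (mul_nil_mem ha.1 hb).1
  obtain ⟨u, hu, hJu⟩ : ∃ u ∈ J, J ≤ (k ∙ u) ⊔ J * J := by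
    by_cases hall : J ≤ J * J
    · exact ⟨0, zero_mem _, hall.trans le_sup_right⟩
    obtain ⟨u, hu, huJ⟩ : ∃ u ∈ J, u ∉ J * J := SetLike.not_le_iff_exists.1 hall
    refine ⟨u, hu, fun v hv => ?_⟩
    obtain ⟨c, hc, hmem⟩ := hJ2 ![f, u, v] fun i => by
      fin_cases i
      exacts [self_mem_corner hf.idem, hu.1, hv.1]
    simp only [Fin.sum_univ_three, Matrix.cons_val_zero, Matrix.cons_val_one, Matrix.cons_val] at hmem
    have h0 : c 0 = 0 := by
      by_contra h0
      refine self_not_mem_nil (k := k) hf ?_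
      have h1 := sub_mem (sub_mem (hJJ hmem) (Submodule.smul_mem J (c 1) hu))
        (Submodule.smul_mem J (c 2) hv)
      rw [show c 0 • f + c 1 • u + c 2 • v - c 1 • u - c 2 • v = c 0 • f by abel] at h1
      exact (Submodule.smul_mem_iff _ h0).1 h1
    rw [h0, zero_smul, zero_add] at hmem
    have h2 : c 2 ≠ 0 := by
      intro h2
      rw [h2, zero_smul, add_zero] at hmem
      refine huJ ((Submodule.smul_mem_iff _ fun h1 => hc ?_).1 hmem)
      funext i
      fin_cases i <;> simp [h0, h1, h2]
    rw [show v = (c 2)⁻¹ • ((c 1 • u + c 2 • v) - c 1 • u) by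
      rw [add_sub_cancel_left, smul_smul, inv_mul_cancel₀ h2, one_smul]]
    exact Submodule.smul_mem _ _ (sub_mem (Submodule.mem_sup_right hmem)
      (Submodule.mem_sup_left (Submodule.smul_mem _ _ (Submodule.mem_span_singleton_self u))))
  -- the powers of `J`
  set P : ℕ → Submodule k R := fun n => J ^ (n + 1) with hP
  have hPsucc : ∀ n, P (n + 1) = J * P n := fun n => pow_succ' J (n + 1)
  have hPle : ∀ n, P n ≤ J := by
    intro n
    induction n with
    | zero => simp [hP]
    | succ n ih => rw [hPsucc]; exact le_trans (Submodule.mul_le.2 fun a ha b hb => Submodule.mul_mem_mul ha (ih hb)) hJJ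
  have hanti : ∀ n, P (n + 1) ≤ P n := by
    intro n
    induction n with
    | zero =>
      refine (le_of_eq (hPsucc 0)).trans ?_
      simp only [hP, zero_add, pow_one]
      exact hJJ
    | succ n ih =>
      rw [hPsucc (n + 1)]
      conv_rhs => rw [hPsucc n]
      exact Submodule.mul_le.2 fun a ha b hb => Submodule.mul_mem_mul ha (ih hb)
  obtain ⟨N, hN⟩ : ∃ N, P N = ⊥ := by
    have h0 : ∀ n, P n ≠ ⊥ → Module.finrank k (P (n + 1)) < Module.finrank k (P n) := fun n hn =>
      Submodule.finrank_lt_finrank_of_lt (lt_of_le_of_ne (hanti n) fun he => hn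
        (nakayama (hf := hf) _ (fun w hw => (hPle n hw).1.1) (by rw [← hPsucc, he])))
    by_contra h
    push Not at h
    have : ∀ n, Module.finrank k (P n) + n ≤ Module.finrank k (P 0) := by
      intro n
      induction n with
      | zero => simp
      | succ n ih => have := h0 n (h n); omega
    have := this (Module.finrank k (P 0) + 1)
    omega
  set C : Submodule k R := Submodule.span k (Set.range fun i : ℕ => u ^ (i + 1)) with hC
  have hstep : ∀ n, P n ≤ C ⊔ P (n + 1) := by
    intro n
    induction n with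
    | zero =>
      refine (le_of_eq (pow_one J)).trans (hJu.trans (sup_le_sup ?_ (le_of_eq (pow_two J).symm)))
      rw [Submodule.span_singleton_le_iff_mem]
      exact Submodule.subset_span ⟨0, pow_one u⟩
    | succ n ih =>
      rw [hPsucc n]
      refine (Submodule.mul_le.2 fun a ha b hb => ?_)
      obtain ⟨b₁, hb₁, b₂, hb₂, rfl⟩ := Submodule.mem_sup.1 (ih hb)
      obtain ⟨a₁, ha₁, a₂, ha₂, rfl⟩ := Submodule.mem_sup.1 (hJu ha)
      have hb₁' : b₁ ∈ P n := by
        have := sub_mem hb (hanti n hb₂)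
        rwa [add_sub_cancel_right] at this
      rw [add_mul a₁ a₂, mul_add a₁]
      refine add_mem (add_mem (Submodule.mem_sup_left ?_) (Submodule.mem_sup_right ?_))
        (Submodule.mem_sup_right ?_)
      · obtain ⟨s, rfl⟩ := Submodule.mem_span_singleton.1 ha₁
        rw [smul_mul_assoc]
        refine Submodule.smul_mem _ _ ?_
        refine Submodule.span_induction (p := fun z _ => u * z ∈ C) ?_ ?_ ?_ ?_ hb₁
        · rintro _ ⟨i, rfl⟩
          exact Submodule.subset_span ⟨i + 1, pow_succ' u (i + 1)⟩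
        · simp
        · intro x y _ _ hx hy
          rw [mul_add]
          exact add_mem hx hy
        · intro t x _ hx
          rw [mul_smul_comm]
          exact Submodule.smul_mem _ _ hx
      · rw [hPsucc (n + 1)]
        exact Submodule.mul_mem_mul ((Submodule.span_singleton_le_iff_mem _ _).2 hu ha₁) hb₂
      · rw [show P (n + 1 + 1) = (J * J) * P n by rw [hPsucc (n + 1), hPsucc n, mul_assoc]]
        exact Submodule.mul_mem_mul ha₂ hb
  have hJC : J ≤ C := by
    have : ∀ n, J ≤ C ⊔ P n := by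
      intro n
      induction n with
      | zero => simp only [hP, zero_add, pow_one]; exact le_sup_right
      | succ n ih => exact ih.trans (sup_le le_sup_left (hstep n))
    simpa [hN] using this N
  have hcomm : ∀ a ∈ J, ∀ b ∈ J, a * b = b * a := by
    intro a ha b hb
    refine Submodule.span_induction (p := fun z _ => z * b = b * z) ?_ (by simp) ?_ ?_ (hJC ha)
    · rintro _ ⟨i, rfl⟩
      refine Submodule.span_induction (p := fun z _ => u ^ (i + 1) * z = z * u ^ (i + 1))
        ?_ (by simp) ?_ ?_ (hJC hb)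
      · rintro _ ⟨j, rfl⟩
        exact (Commute.pow_pow (Commute.refl u) _ _).eq
      · intro x y _ _ hx hy
        rw [mul_add, add_mul, hx, hy]
      · intro t x _ hx
        rw [mul_smul_comm, smul_mul_assoc, hx]
    · intro x y _ _ hx hy
      rw [mul_add, add_mul, hx, hy]
    · intro t x _ hx
      rw [mul_smul_comm, smul_mul_assoc, hx]
  -- the corner is commutative, so all functionals are traces
  obtain ⟨c, hc, hl⟩ := hdep x hx
  refine ⟨c, hc, ?_⟩
  by_contra hne
  obtain ⟨l, hl0, -⟩ := Submodule.exists_dual_map_eq_bot_of_notMem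
    (p := (⊥ : Submodule k R)) (by simpa using hne) inferInstance
  refine hl0 (hl l fun a ha b hb => ?_)
  obtain ⟨s, hs⟩ := exists_scalar (k := k) hf ha
  obtain ⟨t, ht⟩ := exists_scalar (k := k) hf hb
  congr 1
  obtain ⟨v, hv, rfl⟩ : ∃ v ∈ J, a = s • f + v := ⟨_, hs, by abel⟩
  obtain ⟨w, hw, rfl⟩ : ∃ w ∈ J, b = t • f + w := ⟨_, ht, by abel⟩
  simp only [add_mul, mul_add, smul_mul_assoc, mul_smul_comm, hf.idem, hv.1.1, hv.1.2, hw.1.1,
    hw.1.2, smul_add, smul_smul, hcomm v hv w hw, mul_comm s t]
  abel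

/-- A central idempotent with few trace functionals and a nondegenerate symmetric form has a
primitive idempotent below it with a corner of dimension two. -/
theorem exists_prim_small [IsAlgClosed k] {E : R} (hE : ∀ x, E * x = x * E) (hEE : E * E = E)
    (hE0 : E ≠ 0) (hB : TraceBound k E) (s : R →ₗ[k] k) (hs : IsTr s)
    (hsn : ∀ x : R, x ≠ 0 → ∃ a, s (x * a) ≠ 0)
    (hnt : ∀ f : R, IsPrim f → E * f = f → ∃ u ∈ corner k f, ∀ c : k, u ≠ c • f) :
    ∃ f : R, IsPrim f ∧ E * f = f ∧ ∀ x : Fin 3 → R, (∀ i, x i ∈ corner k f) →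
      ∃ c : Fin 3 → k, c ≠ 0 ∧ ∑ i, c i • x i = 0 := by
  classical
  have hnil : ∀ f : R, (hf : IsPrim f) → E * f = f → ∃ v ∈ nil k hf, s v ≠ 0 := by
    intro f hf hEf
    obtain ⟨u, huc, hu⟩ := hnt f hf hEf
    obtain ⟨c, hc⟩ := exists_scalar (k := k) hf huc
    obtain ⟨a, ha⟩ := hsn _ fun h => hu c (sub_eq_zero.1 h)
    refine ⟨(u - c • f) * (f * a * f), (mul_nil_mem (sandwich_mem_corner hf.idem a) hc).2, ?_⟩
    rwa [← mul_assoc, hs, ← mul_assoc f, ← mul_assoc, hc.1.1, hc.1.2]
  have hequiv : ∀ f g : R, IsPrim f → E * f = f → IsPrim g → E * g = g → f ∈ ispan k g := by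
    intro f g hf hEf hg hEg
    by_contra hfg
    obtain ⟨φ, hφ, hφf, hφn, hφg⟩ := exists_trace (k := k) hf
    obtain ⟨ψ, hψ, hψg, hψn, -⟩ := exists_trace (k := k) hg
    obtain ⟨v, hv, hsv⟩ := hnil f hf hEf
    obtain ⟨c, hc, hsum⟩ := hB ![f, g, v]
    have hEv : E * v = v := by rw [← hv.1.1, ← mul_assoc, hEf]
    have h1 := hsum φ hφ
    have h2 := hsum ψ hψ
    have h3 := hsum s hs
    simp only [Fin.sum_univ_three, Matrix.cons_val_zero, Matrix.cons_val_one, Matrix.cons_val,
      hEf, hEg, hEv] at h1 h2 h3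
    rw [hφf, hφg g hfg, hφn v hv.2] at h1
    rw [hψg, hψn v hv.2] at h2
    simp only [mul_one, mul_zero, add_zero] at h1 h2
    rw [h1, zero_mul, zero_add] at h2
    rw [h1, h2, zero_mul, zero_mul, zero_add, zero_add] at h3
    apply hc
    funext i
    fin_cases i
    · simpa using h1
    · simpa using h2
    · simpa using (mul_eq_zero.1 h3).resolve_right hsv
  -- existence of primitive idempotents below any idempotent
  have hfind : ∀ n (h : R), Module.finrank k (LinearMap.range (LinearMap.mulLeft k h)) ≤ n →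
      h * h = h → h ≠ 0 → E * h = h → ∀ I : Submodule k R,
      (∀ g : R, IsPrim g → E * g = g → g ∈ I) → h ∈ I ∧ ∃ g : R, IsPrim g ∧ E * g = g := by
    intro n
    induction n with
    | zero =>
      intro h hn hh h0 _ _ _
      exfalso
      apply h0
      have := Submodule.finrank_eq_zero.1 (Nat.le_zero.1 hn)
      have hmem : h ∈ LinearMap.range (LinearMap.mulLeft k h) := ⟨h, hh⟩
      rw [this, Submodule.mem_bot] at hmem
      exact hmem
    | succ n ih =>
      intro h hn hh h0 hEh I hI
      by_cases hp : IsPrim h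
      · exact ⟨hI h hp hEh, h, hp, hEh⟩
      obtain ⟨g, hgg, hhg, hgh, hg0, hg1⟩ : ∃ g, g * g = g ∧ h * g = g ∧ g * h = g ∧
          g ≠ 0 ∧ g ≠ h := by
        by_contra hcon
        refine hp ⟨hh, h0, fun g a b c => ?_⟩
        by_contra hor
        rw [not_or] at hor
        exact hcon ⟨g, a, b, c, hor.1, hor.2⟩
      have hlt : ∀ e : R, e * e = e → h * e = e → e * h = e → e ≠ h →
          Module.finrank k (LinearMap.range (LinearMap.mulLeft k e)) ≤ n := by
        intro e hee he1 he2 hne
        have : LinearMap.range (LinearMap.mulLeft k e) <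
            LinearMap.range (LinearMap.mulLeft k h) := by
          refine SetLike.lt_iff_le_and_exists.2 ⟨?_, h, LinearMap.mem_range.2 ⟨h, hh⟩, ?_⟩
          · rintro _ ⟨y, rfl⟩
            exact ⟨e * y, by simp [← mul_assoc, he1]⟩
          · rintro ⟨y, hy⟩
            simp only [LinearMap.mulLeft_apply] at hy
            refine hne ?_
            calc e = e * h := he2.symm
              _ = e * (e * y) := by rw [hy]
              _ = h := by rw [← mul_assoc, hee, hy]
        have := Submodule.finrank_lt_finrank_of_lt this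
        omega
      have hd : (h - g) * (h - g) = h - g := by
        simp only [sub_mul, mul_sub, hh, hhg, hgh, hgg]; abel
      have hd1 : h * (h - g) = h - g := by rw [mul_sub, hh, hhg]
      have hd2 : (h - g) * h = h - g := by rw [sub_mul, hh, hgh]
      have hEg : E * g = g := by rw [← hhg, ← mul_assoc, hEh]
      obtain ⟨m1, w⟩ := ih g (hlt g hgg hhg hgh hg1) hgg hg0 hEg I hI
      obtain ⟨m2, -⟩ := ih (h - g) (hlt _ hd hd1 hd2 fun e => hg0 (sub_eq_self.1 e)) hd
        (sub_ne_zero.2 (Ne.symm hg1)) (by rw [mul_sub, hEh, hEg]) I hI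
      exact ⟨by simpa using add_mem m1 m2, w⟩
  obtain ⟨-, f, hf, hEf⟩ := hfind _ E le_rfl hEE hE0 hEE ⊤ fun _ _ _ => trivial
  have hI : E ∈ ispan k f :=
    (hfind _ E le_rfl hEE hE0 hEE (ispan k f) fun g hg hEg => hequiv g f hg hEg hf hEf).1
  exact ⟨f, hf, hEf, fun x hx => corner_dependent hE hEE hEf hf hI hB x hx⟩

end H22.Corner
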