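import Mathlib
import Cfsg.Agent.H22.LocalCorner
import Cfsg.Agent.H22.RegProj
import Cfsg.Agent.H20.Kulshammer
import Cfsg.Agent.H20.OrthConv
import Cfsg.Agent.H21.NormalPLift
import Cfsg.Agent.H23.Bridge

/-!
A block with exactly two irreducible characters has defect one and `p = 2`.

In the group algebra over the residue field the trace functionals on the block form a space of
dimension at most two, so some primitive idempotent of the block has a corner of dimension two;
its lift gives a projective character equal to the sum of the two irreducible characters.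
-/

set_option autoImplicit false
set_option linter.unusedSectionVars false

open Cfsg MonoidAlgebra Finset
open scoped ComplexConjugate

namespace H22.BlockTwo

universe u

variable {G : Type u} [Group G] [Fintype G] {M : Ideal AlgInt} [M.IsPrime] {p : ℕ}

local notation "𝕜" => H20.k M
local notation "𝕆" => H20.O M

/-- A matrix over `O` that is injective modulo the ideal is injective over `ℂ`. -/
theorem injective_of_red {ι κ : Type*} [Fintype ι] [Fintype κ] [DecidableEq κ] [DecidableEq ι]
    (hM : IsPModular p M) (V : Matrix ι κ 𝕆)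
    (h : ∀ c : κ → 𝕜, Matrix.mulVec (V.map (H20.red M)) c = 0 → c = 0) (c : κ → ℂ)
    (hc : Matrix.mulVec (V.map Subtype.val) c = 0) : c = 0 := by
  classical
  haveI := hM.2.1
  let _ : Field 𝕜 := Ideal.Quotient.field _
  obtain ⟨L, hL⟩ : ∃ L : Matrix κ ι 𝕜, L * V.map (H20.red M) = 1 := by
    have hinj : Function.Injective (Matrix.mulVecLin (V.map (H20.red M))) := by
      rw [← LinearMap.ker_eq_bot]
      exact (Submodule.eq_bot_iff _).2 fun c hc => h c hc
    obtain ⟨g, hg⟩ := LinearMap.exists_leftInverse_of_injective _ (LinearMap.ker_eq_bot.2 hinj)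
    refine ⟨LinearMap.toMatrix' g, ?_⟩
    have e := congrArg LinearMap.toMatrix' hg
    rwa [LinearMap.toMatrix'_comp, LinearMap.toMatrix'_id, ← Matrix.toLin'_apply', LinearMap.toMatrix'_toLin'] at e
  let L₀ : Matrix κ ι 𝕆 := L.map (Function.surjInv H20.red_surjective)
  have hL₀ : L₀.map (H20.red M) = L := by
    ext a b
    simp [L₀, Function.surjInv_eq H20.red_surjective]
  have hu : IsUnit (L₀ * V) := H20.isUnit_of_map_eq_one (by rw [Matrix.map_mul, hL₀, hL])
  have hu' : IsUnit ((L₀.map Subtype.val : Matrix κ ι ℂ) * V.map Subtype.val) := by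
    have := hu.map (RingHom.mapMatrix (m := κ) (H20.O M).subtype)
    rw [RingHom.mapMatrix_apply, Matrix.map_mul] at this
    exact this
  have h2 : Matrix.mulVec ((L₀.map Subtype.val : Matrix κ ι ℂ) * V.map Subtype.val) c = 0 := by
    rw [← Matrix.mulVec_mulVec, hc, Matrix.mulVec_zero]
  exact Matrix.mulVec_injective_of_isUnit hu' (by rw [h2, Matrix.mulVec_zero])

/-- The coefficient at the identity. -/
noncomputable def coeffOne : 𝕜[G] →ₗ[𝕜] 𝕜 where
  toFun a := a.coeff 1
  map_add' a b := by simp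
  map_smul' c a := by simp

theorem coeffOne_tr : Corner.IsTr (coeffOne (G := G) (M := M)) := fun x y => by
  show (x * y).coeff 1 = (y * x).coeff 1
  rw [H20.coeff_mul_group, H20.coeff_mul_group]
  refine Fintype.sum_equiv (Equiv.inv G) _ _ fun g => ?_
  simp [mul_comm]

theorem coeffOne_nondeg {x : 𝕜[G]} (hx : x ≠ 0) : ∃ a, coeffOne (x * a) ≠ 0 := by
  classical
  obtain ⟨g, hg⟩ : ∃ g, x.coeff g ≠ 0 := by
    by_contra h
    push Not at h
    exact hx (by ext g; simpa using h g)
  refine ⟨MonoidAlgebra.single g⁻¹ 1, ?_⟩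
  show (x * MonoidAlgebra.single g⁻¹ 1).coeff 1 ≠ 0
  rw [H20.coeff_mul_group, sum_eq_single g]
  · simpa [Finsupp.single_apply] using hg
  · intro y _ hy
    simp [Finsupp.single_apply, Ne.symm hy]
  · simp

/-- The sum of the coefficients over the class of `g`. -/
noncomputable def classSum {R : Type*} [CommRing R] (a : MonoidAlgebra R G) (g : G) : R :=
  haveI := Classical.decPred fun y => IsConj g y
  ∑ y ∈ univ.filter (fun y => IsConj g y), a.coeff y

theorem tr_eq_classSum (φ : 𝕜[G] →ₗ[𝕜] 𝕜) (hφ : Corner.IsTr φ) [Fintype (ConjClasses G)]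
    (a : 𝕜[G]) :
    φ a = ∑ C : ConjClasses G, φ (MonoidAlgebra.single C.out 1) * classSum a C.out := by
  classical
  have hdec : a = ∑ g : G, a.coeff g • MonoidAlgebra.single g (1 : 𝕜) := by
    ext x; simp [Finsupp.single_apply]
  conv_lhs => rw [hdec, map_sum]
  rw [← sum_fiberwise_of_maps_to (g := ConjClasses.mk) (t := univ) fun x _ => mem_univ _]
  refine sum_congr rfl fun C _ => ?_
  rw [classSum, mul_sum]
  have hC : ConjClasses.mk C.out = C := Quotient.out_eq C
  refine sum_congr ?_ fun g hg => ?_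
  · ext g
    simp only [mem_filter, mem_univ, true_and]
    rw [← ConjClasses.mk_eq_mk_iff_isConj, hC]
    exact eq_comm
  · have hg' : IsConj C.out g := by
      simp only [mem_filter, mem_univ, true_and] at hg
      first
        | exact hg
        | exact ConjClasses.mk_eq_mk_iff_isConj.1 (hC.trans hg.symm)
    obtain ⟨c, rfl⟩ := isConj_iff.1 hg'
    rw [map_smul, smul_eq_mul, mul_comm]
    congr 1
    rw [show MonoidAlgebra.single (c * C.out * c⁻¹) (1 : 𝕜) =
      MonoidAlgebra.single c 1 * MonoidAlgebra.single (C.out * c⁻¹) 1 by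
        rw [MonoidAlgebra.single_mul_single, mul_one, mul_assoc], hφ,
      MonoidAlgebra.single_mul_single, mul_one, inv_mul_cancel_right]

theorem classSum_map {R S : Type*} [CommRing R] [CommRing S] (f : R →+* S)
    (a : MonoidAlgebra R G) (g : G) :
    f (classSum a g) = classSum (MonoidAlgebra.mapRingHom G f a) g := by
  classical
  rw [classSum, classSum, map_sum]
  rfl

/-- The class sums of `eIdem B * X` come from the characters in `B`. -/
theorem classSum_eIdem_mul (B : Set (IrrCharacter G)) (X : MonoidAlgebra ℂ G) (g : G) :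
    classSum (H20.eIdem B * X) g = ∑ χ : IrrCharacter G, (haveI := Classical.dec (χ ∈ B);
      if χ ∈ B then (Nat.card G : ℂ)⁻¹ * (χ : G → ℂ) 1 *
        H20.omega (χ : G → ℂ) (H20.clSum ℂ g⁻¹) *
        (∑ h : G, X.coeff h * (χ : G → ℂ) h) else 0) := by
  classical
  set ε := H20.eIdem B
  have hε : H20.IsCl ε := H20.isCl_eIdem B
  have h1 : classSum (ε * X) g = ∑ h : G, X.coeff h * (H20.clSum ℂ g⁻¹ * ε).coeff h⁻¹ := by
    rw [(hε.commute X).eq, classSum]
    simp only [H20.coeff_mul_group]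
    rw [sum_comm]
    refine sum_congr rfl fun h _ => ?_
    rw [mul_sum, sum_filter]
    refine Fintype.sum_equiv (Equiv.inv G) _ _ fun y => ?_
    simp only [Equiv.inv_apply, H20.coeff_clSum, inv_inv]
    have hiff : IsConj g⁻¹ y⁻¹ ↔ IsConj g y := by
      simp only [isConj_iff]
      constructor <;> rintro ⟨c, hc⟩ <;> refine ⟨c, ?_⟩
      · rw [← inv_inj, ← hc]; group
      · rw [← hc]; group
    have hcl : ε.coeff (y * h⁻¹) = ε.coeff (h⁻¹ * y) :=
      (hε.of_isConj (isConj_iff.2 ⟨h⁻¹, by group⟩))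
    by_cases hy : IsConj g y
    · rw [if_pos hy, if_pos (hiff.2 hy), one_mul, hcl]
    · rw [if_neg hy, if_neg (mt hiff.1 hy), zero_mul, mul_zero]
  rw [h1]
  simp only [H20.coeff_eq_sum_omega ((H20.isCl_clSum ℂ g⁻¹).mul hε),
    H20.omega_mul _ (H20.isCl_clSum ℂ g⁻¹), H20.omega_eIdem, mul_sum]
  rw [sum_comm]
  refine sum_congr rfl fun χ _ => ?_
  simp only [ε, H20.omega_eIdem]
  split_ifs with hχ
  · refine sum_congr rfl fun h _ => ?_
    rw [H12.irr_inv, starRingEnd_self_apply]
    ring
  · simp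

theorem traceBound (hM : IsPModular p M) {B : Set (IrrCharacter G)} (hB : IsPBlock M B)
    (hk : Nat.card B = 2) : Corner.TraceBound 𝕜 (H20.eRed M B) := by
  classical
  haveI := hM.2.1
  haveI : Fintype (ConjClasses G) := Fintype.ofFinite _
  intro x
  obtain ⟨ε, -, hε1, hε2⟩ := H20.exists_lift_eRed (H20.memRing_blockCoeff hB)
  let X : Fin 3 → MonoidAlgebra 𝕆 G := fun i =>
    H20.ofFun fun g => Function.surjInv H20.red_surjective ((x i).coeff g)
  have hX : ∀ i, H20.rd (X i) = x i := fun i => by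
    ext g; simp [X, Function.surjInv_eq H20.red_surjective]
  let V : Matrix G (Fin 3) 𝕆 := Matrix.of fun g i => classSum (ε * X i) g
  by_cases hred : ∀ c : Fin 3 → 𝕜, Matrix.mulVec (V.map (H20.red M)) c = 0 → c = 0
  · exfalso
    have hinj := injective_of_red hM V hred
    -- the columns factor through the two characters
    let T : Matrix (H22.blockFinset B) (Fin 3) ℂ := Matrix.of fun χ i =>
      ∑ h : G, (H20.emb (X i)).coeff h * ((χ : IrrCharacter G) : G → ℂ) h
    have hT : ∃ c : Fin 3 → ℂ, c ≠ 0 ∧ Matrix.mulVec T c = 0 := by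
      have hlt : Module.finrank ℂ (↥(H22.blockFinset B) → ℂ) <
          Module.finrank ℂ (Fin 3 → ℂ) := by
        rw [Module.finrank_pi, Module.finrank_pi, Fintype.card_coe, ← H22.natCard_block, hk]
        simp
      by_contra hno
      push Not at hno
      refine absurd (LinearMap.finrank_le_finrank_of_injective (f := T.mulVecLin) ?_) (not_le.2 hlt)
      rw [← LinearMap.ker_eq_bot]
      exact (Submodule.eq_bot_iff _).2 fun c hc => by_contra fun h => hno c h hc
    obtain ⟨c, hc0, hc⟩ := hT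
    refine hc0 (hinj c ?_)
    funext g
    show ∑ i, ((V g i : 𝕆) : ℂ) * c i = 0
    have hV : ∀ i, ((V g i : 𝕆) : ℂ) = ∑ χ : IrrCharacter G, if χ ∈ B then (Nat.card G : ℂ)⁻¹ *
        (χ : G → ℂ) 1 * H20.omega (χ : G → ℂ) (H20.clSum ℂ g⁻¹) *
        (∑ h : G, (H20.emb (X i)).coeff h * (χ : G → ℂ) h) else 0 := by
      intro i
      rw [← classSum_eIdem_mul, ← hε2, show H20.emb ε * H20.emb (X i) = H20.emb (ε * X i) from
        (map_mul (MonoidAlgebra.mapRingHom G (H20.O M).subtype) _ _).symm]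
      exact classSum_map (H20.O M).subtype (ε * X i) g
    simp only [hV, sum_mul]
    rw [sum_comm]
    refine sum_eq_zero fun χ _ => ?_
    by_cases hχ : χ ∈ B
    · have h0 : ∑ i, T ⟨χ, H22.mem_blockFinset.2 hχ⟩ i * c i = 0 := congrFun hc _
      simp only [if_pos hχ, mul_assoc]
      rw [← mul_sum, ← mul_sum, ← mul_sum]
      have : ∑ i, (∑ h : G, (H20.emb (X i)).coeff h * (χ : G → ℂ) h) * c i = 0 := h0
      rw [this, mul_zero, mul_zero, mul_zero]
    · simp [hχ]
  · push Not at hred
    obtain ⟨c, hc, hc0⟩ := hred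
    refine ⟨c, hc0, fun φ hφ => ?_⟩
    have hV : ∀ g i, H20.red M (V g i) = classSum (H20.eRed M B * x i) g := fun g i => by
      rw [← hε1, ← hX i, show H20.rd ε * H20.rd (X i) = H20.rd (ε * X i) from
        (map_mul (MonoidAlgebra.mapRingHom G (H20.red M)) _ _).symm]
      exact classSum_map (H20.red M) (ε * X i) g
    have hexp := fun i => tr_eq_classSum φ hφ (H20.eRed M B * x i)
    simp only [hexp, mul_sum]
    rw [sum_comm]
    refine sum_eq_zero fun C _ => ?_
    have h0 := congrFun hc C.out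
    simp only [Matrix.mulVec, dotProduct, Matrix.map_apply, hV, Pi.zero_apply] at h0
    calc ∑ i, c i * (φ (MonoidAlgebra.single C.out 1) * classSum (H20.eRed M B * x i) C.out)
        = φ (MonoidAlgebra.single C.out 1) *
          ∑ i, classSum (H20.eRed M B * x i) C.out * c i := by
          rw [mul_sum]; exact sum_congr rfl fun i _ => by ring
      _ = 0 := by rw [h0, mul_zero]

/-- Reduction as an algebra homomorphism. -/
noncomputable def rdAlg : MonoidAlgebra 𝕆 G →ₐ[𝕆] 𝕜[G] :=
  { MonoidAlgebra.mapRingHom G (H20.red M) with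
    commutes' := fun r => by
      ext g
      simp [MonoidAlgebra.coe_algebraMap, Finsupp.single_apply, apply_ite (H20.red M),
        IsScalarTower.algebraMap_apply 𝕆 𝕜 𝕜]
      rfl }

/-- The matrix of `x ↦ e x e`. -/
noncomputable def sandwich {R : Type*} [CommRing R] (e : MonoidAlgebra R G) : Matrix G G R :=
  Matrix.of fun g h => (e * MonoidAlgebra.single h 1 * e).coeff g

theorem sandwich_mulVec {R : Type*} [CommRing R] (e : MonoidAlgebra R G) (v : G → R) :
    Matrix.mulVec (sandwich e) v = fun g => (e * H20.ofFun v * e).coeff g := by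
  classical
  funext g
  rw [show H20.ofFun v = ∑ h : G, v h • MonoidAlgebra.single h (1 : R) by
    ext x; simp [Finsupp.single_apply]]
  simp only [mul_sum, sum_mul, mul_smul_comm, smul_mul_assoc]
  simp [Matrix.mulVec, dotProduct, sandwich, mul_comm]

theorem sandwich_idem {R : Type*} [CommRing R] {e : MonoidAlgebra R G} (he : e * e = e) :
    sandwich e * sandwich e = sandwich e := by
  classical
  refine Matrix.ext_of_mulVec_single fun j => ?_
  rw [← Matrix.mulVec_mulVec, sandwich_mulVec, sandwich_mulVec]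
  funext g
  have : H20.ofFun (fun g => (e * H20.ofFun (Pi.single j (1 : R)) * e).coeff g) =
      e * H20.ofFun (Pi.single j (1 : R)) * e := by ext x; simp
  rw [this, ← mul_assoc, ← mul_assoc, he, mul_assoc _ e e, he]

theorem map_sandwich {R S : Type*} [CommRing R] [CommRing S] (f : R →+* S)
    (e : MonoidAlgebra R G) :
    (sandwich e).map f = sandwich (MonoidAlgebra.mapRingHom G f e) := by
  classical
  ext g h
  show f ((e * MonoidAlgebra.single h 1 * e).coeff g) = _
  rw [← H20.coeff_mapRingHom, map_mul, map_mul]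
  simp [sandwich]

theorem rank_add_rank_one_sub {ι : Type*} [Fintype ι] [DecidableEq ι] {F : Type*} [Field F]
    {A : Matrix ι ι F} (hA : A * A = A) : A.rank + (1 - A).rank = Fintype.card ι := by
  have h : LinearMap.range (Matrix.mulVecLin (1 - A)) = LinearMap.ker (Matrix.mulVecLin A) := by
    refine le_antisymm ?_ fun v hv => ⟨v, ?_⟩
    · rintro _ ⟨v, rfl⟩
      simp [LinearMap.mem_ker, Matrix.mulVec_sub, Matrix.sub_mulVec, Matrix.mulVec_mulVec, hA]
    · simp only [Matrix.mulVecLin_apply, LinearMap.mem_ker] at hv ⊢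
      rw [Matrix.sub_mulVec, Matrix.one_mulVec, hv, sub_zero]
  rw [Matrix.rank, Matrix.rank, h, LinearMap.finrank_range_add_finrank_ker, Module.finrank_pi]

/-- An idempotent matrix over `O` has the same rank over `ℂ` as modulo the ideal. -/
theorem rank_eq_of_idem {ι : Type*} [Fintype ι] [DecidableEq ι] (hM : IsPModular p M)
    {A : Matrix ι ι 𝕆} (hA : A * A = A) :
    (A.map Subtype.val : Matrix ι ι ℂ).rank = (A.map (H20.red M)).rank := by
  classical
  haveI := hM.2.1
  let _ : Field 𝕜 := Ideal.Quotient.field _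
  have hle : ∀ X : Matrix ι ι 𝕆,
      (X.map (H20.red M)).rank ≤ (X.map Subtype.val : Matrix ι ι ℂ).rank := by
    intro X
    obtain ⟨w, hw, -, hli⟩ := Submodule.exists_fun_fin_finrank_span_eq 𝕜
      (Set.range (X.map (H20.red M)).col)
    choose j hj using fun i => hw i
    rw [Matrix.rank_eq_finrank_span_cols]
    let V : Matrix ι (Fin _) 𝕆 := X.submatrix id j
    have hred : ∀ c, Matrix.mulVec (V.map (H20.red M)) c = 0 → c = 0 := by
      intro c hc
      refine funext (Fintype.linearIndependent_iff.1 hli c ?_)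
      funext a
      have := congrFun hc a
      rw [show w = fun i => (X.map (H20.red M)).col (j i) from funext fun i => (hj i).symm]
      refine Eq.trans ?_ this
      simp [Matrix.mulVec, dotProduct, Matrix.col, mul_comm]
      rfl
    have hinjC := injective_of_red hM V hred
    calc Module.finrank 𝕜 (Submodule.span 𝕜 (Set.range (X.map (H20.red M)).col))
        = (V.map Subtype.val : Matrix ι (Fin _) ℂ).rank := by
          rw [Matrix.rank, LinearMap.finrank_range_of_inj (LinearMap.ker_eq_bot.1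
            ((Submodule.eq_bot_iff _).2 fun c hc => hinjC c (LinearMap.mem_ker.1 hc)))]
          simp
      _ ≤ _ := by
          rw [show (V.map Subtype.val : Matrix ι (Fin _) ℂ) =
            (X.map Subtype.val).submatrix id j from rfl]
          rw [Matrix.rank_eq_finrank_span_cols, Matrix.rank_eq_finrank_span_cols]
          refine Submodule.finrank_mono (Submodule.span_mono ?_)
          rintro _ ⟨i, rfl⟩
          exact ⟨j i, rfl⟩
  have hB : (1 - A) * (1 - A) = 1 - A := by rw [sub_mul, mul_sub, mul_sub, hA, mul_one, one_mul, mul_one, sub_self, sub_zero]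
  have h1 := hle A
  have h2 := hle (1 - A)
  have e1 : (A.map (H20.red M)).rank + ((1 - A).map (H20.red M)).rank = Fintype.card ι := by
    rw [Matrix.map_sub _ (map_sub _), Matrix.map_one _ (map_zero _) (map_one _)]
    exact rank_add_rank_one_sub (by rw [← Matrix.map_mul, hA])
  have e2 : (A.map Subtype.val : Matrix ι ι ℂ).rank + ((1 - A).map Subtype.val).rank =
      Fintype.card ι := by
    rw [Matrix.map_sub _ (fun _ _ => rfl), Matrix.map_one _ rfl rfl]
    refine rank_add_rank_one_sub ?_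
    exact (map_mul ((H20.O M).subtype.mapMatrix (m := ι)) A A).symm.trans (congrArg _ hA)
  omega

/-- The value of `χ` on an idempotent is a natural number. -/
theorem exists_nat_of_idem (χ : IrrCharacter G) {e : MonoidAlgebra ℂ G} (he : e * e = e) :
    ∃ m : ℕ, ∑ g : G, e.coeff g * (χ : G → ℂ) g = m := by
  obtain ⟨n, ρ, hρ, h⟩ := χ.2
  haveI := hρ
  have hidem : ρ.asAlgebraHom e * ρ.asAlgebraHom e = ρ.asAlgebraHom e := by rw [← map_mul, he]
  refine ⟨Module.finrank ℂ (LinearMap.range (ρ.asAlgebraHom e)), ?_⟩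
  rw [← h, ← H12.trace_avgOp, ← H20.asAlgebraHom_eq_avgOp]
  exact LinearMap.IsProj.trace
    ((LinearMap.isProj_range_iff_isIdempotentElem _).2 hidem)

theorem column_count (a b : G) :
    ∑ χ : IrrCharacter G, (χ : G → ℂ) a * conj ((χ : G → ℂ) b) =
      ∑ h : G, (haveI := Classical.dec (h⁻¹ * a * h = b);
        if h⁻¹ * a * h = b then (1 : ℂ) else 0) := by
  classical
  rw [H12.column_orthogonality, sum_ite, sum_const_zero, add_zero, sum_const, nsmul_eq_mul, mul_one]
  by_cases hab : IsConj a b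
  · rw [if_pos hab]
    obtain ⟨h₀, hh⟩ := isConj_iff.1 hab.symm
    congr 1
    rw [← Nat.card_eq_finsetCard]
    refine Nat.card_congr
      { toFun := fun c => ⟨c.1 * h₀, ?_⟩
        invFun := fun h => ⟨h.1 * h₀⁻¹, ?_⟩
        left_inv := fun c => by ext; simp
        right_inv := fun h => by ext; simp }
    · refine mem_filter.2 ⟨mem_univ _, ?_⟩
      have hc := Subgroup.mem_centralizer_singleton_iff.1 c.2
      calc (c.1 * h₀)⁻¹ * a * (c.1 * h₀) = h₀⁻¹ * ((c : G)⁻¹ * (a * c)) * h₀ := by group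
        _ = h₀⁻¹ * a * h₀ := by rw [← hc]; group
        _ = b := by rw [← hh]; group
    · refine Subgroup.mem_centralizer_singleton_iff.2 ?_
      have hb := (mem_filter.1 h.2).2
      calc h.1 * h₀⁻¹ * a = h.1 * (h₀⁻¹ * a * h₀) * h₀⁻¹ := by group
        _ = h.1 * (h.1⁻¹ * a * h.1) * h₀⁻¹ := by rw [hb]; congr 2; rw [← hh]; group
        _ = a * (h.1 * h₀⁻¹) := by group
  · rw [if_neg hab, filter_false_of_mem fun h _ hh => hab (isConj_iff.2 ⟨h⁻¹, by rw [← hh]; group⟩)]
    simp

theorem trace_sandwich {e : MonoidAlgebra ℂ G} (he : e * e = e) :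
    (sandwich e).trace = ∑ χ : IrrCharacter G, (∑ g : G, e.coeff g * (χ : G → ℂ) g) ^ 2 := by
  classical
  choose m hm using fun χ : IrrCharacter G => exists_nat_of_idem χ he
  have h1 : (sandwich e).trace = ∑ h : G, ∑ a : G, e.coeff a * e.coeff (h⁻¹ * a⁻¹ * h) := by
    refine sum_congr rfl fun h _ => ?_
    show (e * MonoidAlgebra.single h 1 * e).coeff h = _
    rw [mul_assoc, H20.coeff_mul_group]
    refine sum_congr rfl fun a _ => ?_
    congr 1
    rw [H20.coeff_mul_group, sum_eq_single h (fun y _ hy => by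
      simp [Finsupp.single_apply, Ne.symm hy]) (by simp)]
    simp [mul_assoc]
  have h2 : ∀ a : G, ∑ h : G, e.coeff (h⁻¹ * a⁻¹ * h) = ∑ y : G, e.coeff y *
      ∑ χ : IrrCharacter G, (χ : G → ℂ) a * (χ : G → ℂ) y := by
    intro a
    have key : ∀ y, ∑ χ : IrrCharacter G, (χ : G → ℂ) a * (χ : G → ℂ) y =
        ∑ h : G, if h⁻¹ * a⁻¹ * h = y then (1 : ℂ) else 0 := fun y => by
      have h := column_count a y⁻¹
      simp only [H12.irr_inv, starRingEnd_self_apply] at h
      rw [h]
      refine sum_congr rfl fun h _ => ?_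
      have hiff : h⁻¹ * a * h = y⁻¹ ↔ h⁻¹ * a⁻¹ * h = y := by
        rw [← inv_inj]
        simp [mul_assoc]
      exact if_congr hiff rfl rfl
    simp only [key, mul_sum]
    rw [sum_comm]
    refine sum_congr rfl fun h _ => ?_
    rw [sum_eq_single (h⁻¹ * a⁻¹ * h) (fun y _ hy => by rw [if_neg (Ne.symm hy), mul_zero])
      (by simp), if_pos rfl, mul_one]
  rw [h1, sum_comm]
  simp only [← mul_sum, h2]
  have hsq : ∀ χ : IrrCharacter G, (∑ g : G, e.coeff g * (χ : G → ℂ) g) ^ 2 =
      ∑ a : G, ∑ y : G, (e.coeff a * (χ : G → ℂ) a) * (e.coeff y * (χ : G → ℂ) y) := fun χ => by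
    rw [sq, sum_mul_sum]
  simp only [hsq, mul_sum]
  conv_rhs => rw [sum_comm]
  refine sum_congr rfl fun a _ => ?_
  conv_rhs => rw [sum_comm]
  refine sum_congr rfl fun y _ => ?_
  exact sum_congr rfl fun χ _ => by ring

/-- An idempotent of the block in `k[G]` gives multiplicities of the characters of `B`. -/
theorem exists_mult (hM : IsPModular p M) {B : Set (IrrCharacter G)} (hB : IsPBlock M B)
    {f : 𝕜[G]} (hf : f * f = f) (hEf : H20.eRed M B * f = f) :
    ∃ m : IrrCharacter G → ℕ, (∀ χ, m χ ≠ 0 → χ ∈ B) ∧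
      (∑ χ, m χ ^ 2 = (sandwich f).rank) ∧
      (∀ y : G, p ∣ orderOf y → ∑ χ, (m χ : ℂ) * (χ : G → ℂ) y = 0) ∧
      p ^ (Nat.card G).factorization p ∣ ∑ χ, m χ * H12.degree (χ : G → ℂ) := by
  classical
  haveI : Fact p.Prime := ⟨hM.1⟩
  obtain ⟨ε, hεcl, hε1, hε2⟩ := H20.exists_lift_eRed (H20.memRing_blockCoeff hB)
  have hεε : ε * ε = ε := H20.emb_injective (by
    rw [show H20.emb (ε * ε) = H20.emb ε * H20.emb ε from
      map_mul (MonoidAlgebra.mapRingHom G (H20.O M).subtype) _ _, hε2, H20.eIdem_mul_self])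
  let a : MonoidAlgebra 𝕆 G := H20.ofFun fun g => Function.surjInv H20.red_surjective (f.coeff g)
  have ha : H20.rd a = f := by ext g; simp [a, Function.surjInv_eq H20.red_surjective]
  obtain ⟨e₀, he₀, he₀'⟩ := H21.exists_idempotent_lift (rdAlg (G := G) (M := M)) a
    (show H20.rd a * H20.rd a = H20.rd a by rw [ha, hf])
    (by rw [ha, hf, sub_self]; exact IsNilpotent.zero)
  have he₀f : H20.rd e₀ = f := (show H20.rd e₀ = H20.rd a from he₀').trans ha
  set e := e₀ * ε
  have hee : e * e = e := by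
    calc e₀ * ε * (e₀ * ε) = e₀ * (ε * e₀) * ε := by simp only [mul_assoc]
      _ = e₀ * e₀ * (ε * ε) := by rw [(hεcl.commute e₀).eq]; simp only [mul_assoc]
      _ = e₀ * ε := by rw [he₀, hεε]
  have hrd : H20.rd e = f := by
    rw [show H20.rd e = H20.rd e₀ * H20.rd ε from
      map_mul (MonoidAlgebra.mapRingHom G (H20.red M)) _ _, he₀f, hε1,
      ← ((H20.isCl_eRed B).commute f).eq, hEf]
  have hC : H20.emb e * H20.emb e = H20.emb e :=
    (map_mul (MonoidAlgebra.mapRingHom G (H20.O M).subtype) e e).symm.trans (congrArg _ hee)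
  choose m hm using fun χ : IrrCharacter G => exists_nat_of_idem χ hC
  have hcol : ∀ y : G, ∑ χ, (m χ : ℂ) * (χ : G → ℂ) y =
      ∑ h : G, ((e.coeff (h * y⁻¹ * h⁻¹) : 𝕆) : ℂ) := by
    intro y
    simp only [← hm, sum_mul]
    rw [sum_comm]
    have key : ∀ g : G, ∑ χ : IrrCharacter G, (H20.emb e).coeff g * (χ : G → ℂ) g *
        (χ : G → ℂ) y = ∑ h : G, if h⁻¹ * g * h = y⁻¹ then (H20.emb e).coeff g else 0 := fun g => by
      have h := column_count g y⁻¹
      simp only [H12.irr_inv, starRingEnd_self_apply] at h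
      simp only [mul_assoc, ← mul_sum, h]
      rw [mul_sum]
      simp
    simp only [key]
    rw [sum_comm]
    refine sum_congr rfl fun h _ => ?_
    rw [sum_eq_single (h * y⁻¹ * h⁻¹) (fun g _ hg => if_neg fun h' => hg (by
      rw [← h']; group)) (by simp), if_pos (by group), H20.coeff_emb]
  refine ⟨m, fun χ hχ => ?_, ?_, fun y hy => ?_, ?_⟩
  · by_contra hB'
    have hz : H20.omega (χ : G → ℂ) (H20.emb e) = 0 := by
      rw [show H20.emb e = H20.emb ε * H20.emb e₀ by
        rw [show e = ε * e₀ from ((hεcl.commute e₀).eq).symm]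
        exact map_mul (MonoidAlgebra.mapRingHom G (H20.O M).subtype) _ _, hε2,
        H20.omega_mul χ (H20.isCl_eIdem B), H20.omega_eIdem, if_neg hB', zero_mul]
    rw [H20.omega, hm χ, div_eq_zero_iff] at hz
    exact hχ (by simpa [H12.irr_apply_one_ne_zero χ] using hz)
  · have hr := rank_eq_of_idem hM (sandwich_idem hee)
    rw [map_sandwich, ← show (sandwich e).map (H20.O M).subtype =
      (sandwich e).map Subtype.val from rfl, map_sandwich] at hr
    rw [show MonoidAlgebra.mapRingHom G (H20.red M) e = f from hrd] at hr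
    have htr := trace_sandwich hC
    have hidem := sandwich_idem hC
    have hrk : (sandwich (H20.emb e)).trace = ((sandwich (H20.emb e)).rank : ℂ) := by
      rw [← Matrix.trace_toLin'_eq, Matrix.rank, ← Matrix.toLin'_apply']
      refine LinearMap.IsProj.trace ((LinearMap.isProj_range_iff_isIdempotentElem _).2 ?_)
      show Matrix.toLin' _ * Matrix.toLin' _ = Matrix.toLin' _
      rw [Module.End.mul_eq_comp, ← Matrix.toLin'_mul, hidem]
    rw [← hr]
    have : ((∑ χ, m χ ^ 2 : ℕ) : ℂ) = ((sandwich (H20.emb e)).rank : ℂ) := by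
      rw [← hrk, htr]
      push_cast
      simp only [hm]
    exact_mod_cast this
  · rw [hcol, ← AddSubmonoidClass.coe_finset_sum,
      H21.idem_singular_sum_eq_zero hM hee (y := y⁻¹) (by rwa [orderOf_inv])]
    rfl
  · set N := ∑ χ, m χ * H12.degree (χ : G → ℂ) with hN
    have h1 : (N : ℂ) = (Nat.card G : ℂ) * ((e.coeff 1 : 𝕆) : ℂ) := by
      have h := hcol 1
      simp only [inv_one, mul_one, mul_inv_cancel, sum_const, card_univ, nsmul_eq_mul,
        H12.irr_apply_one, ← Nat.card_eq_fintype_card] at h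
      rw [← h, hN]
      push_cast
      rfl
    set a₀ := (Nat.card G).factorization p
    obtain ⟨q, hq⟩ := Nat.ordProj_dvd (Nat.card G) p
    have hN0 : N = 0 ∨ 0 < N := Nat.eq_zero_or_pos N
    rcases hN0 with h0 | hpos
    · rw [h0]; exact dvd_zero _
    obtain ⟨j, N', hN', hNe⟩ := Nat.exists_eq_pow_mul_and_not_dvd hpos.ne' p hM.1.ne_one
    rcases le_or_gt a₀ j with hle | hgt
    · rw [hNe]
      exact dvd_mul_of_dvd_left (pow_dvd_pow p hle) _
    exfalso
    refine hN' ((H20.natCast_memIdeal_iff hM N').1 ?_)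
    have hp0 : (p : ℂ) ≠ 0 := Nat.cast_ne_zero.2 hM.1.ne_zero
    have h2 : (N' : ℂ) = (p : ℂ) ^ (a₀ - j - 1) * (q : ℂ) * ((e.coeff 1 : 𝕆) : ℂ) * p := by
      refine mul_left_cancel₀ (pow_ne_zero j hp0) ?_
      rw [hNe, Nat.cast_mul, Nat.cast_pow, hq, Nat.cast_mul, Nat.cast_pow] at h1
      rw [h1, show (p : ℂ) ^ a₀ = (p : ℂ) ^ j * ((p : ℂ) ^ (a₀ - j - 1) * p) by
        rw [← pow_succ, ← pow_add]; congr 1; omega]
      ring
    rw [h2]
    refine H20.memIdeal_mul (H20.memRing_mul (H20.memRing_mul ?_ (H20.memRing_natCast q))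
      (e.coeff 1).2) (H20.memIdeal_p hM)
    exact pow_mem (S := H20.O M) (H20.memRing_natCast p) _

theorem singleton_block_of_vanish (hM : IsPModular p M) {χ : IrrCharacter G}
    (h : ∀ y : G, p ∣ orderOf y → (χ : G → ℂ) y = 0) : blockOf M (χ : G → ℂ) = {χ} := by
  classical
  refine Set.eq_singleton_iff_unique_mem.2 ⟨H20.mem_blockOf_self χ, fun ψ hψ => ?_⟩
  refine Set.mem_singleton_iff.1 (H20.union_of_blocks (M := M) (A := {χ}) (fun g =>
    H20.memRing_blockCoeff_of_singVanish hM (fun x y _ hy => ?_) g) rfl hψ)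
  rw [finsum_mem_singleton, h y hy]
  simp

set_option maxHeartbeats 2000000 in
theorem defect_one_of_card_two (hM : IsPModular p M) {B : Set (IrrCharacter G)}
    (hB : IsPBlock M B) (hk : Nat.card B = 2) : p = 2 ∧ blockDefect p B = 1 := by
  classical
  haveI := hM.2.1
  haveI : Fact p.Prime := ⟨hM.1⟩
  let _ : Field 𝕜 := Ideal.Quotient.field _
  haveI : IsAlgClosed 𝕜 := H23.isAlgClosed_k hM.2.1
  set E := H20.eRed M B
  set a₀ := (Nat.card G).factorization p
  obtain ⟨χ₀, ψ₀, hne, hpair⟩ : ∃ χ ψ : IrrCharacter G, χ ≠ ψ ∧ B = {χ, ψ} := by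
    rw [Nat.card_coe_set_eq] at hk
    exact Set.ncard_eq_two.1 hk
  have hnsingle : ∀ χ ∈ B, ∀ N : ℕ, p ^ a₀ ∣ N → N = H12.degree (χ : G → ℂ) → False := by
    intro χ hχ N hN hNd
    have h1 : blockOf M (χ : G → ℂ) = {χ} := (H20.blockOf_eq_singleton_iff hM χ).1 (by
      intro hd
      rw [H20.charDegree_eq_degree] at hd
      have hdd := H12.irr_degree_dvd_card χ
      have h3 := hM.1.factorization_pos_of_dvd
        (Nat.div_pos (Nat.le_of_dvd Nat.card_pos hdd) (H12.irr_degree_pos χ)).ne' hd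
      rw [Nat.factorization_div hdd, Finsupp.tsub_apply] at h3
      have := (hM.1.pow_dvd_iff_le_factorization (H12.irr_degree_pos χ).ne').1 (hNd ▸ hN)
      omega)
    rw [← H20.block_eq_blockOf hB hχ] at h1
    rw [h1] at hk
    simp at hk
  -- multiplicities of size at most one
  have hsingle : ∀ (f : 𝕜[G]), f * f = f → E * f = f → f ≠ 0 → 2 ≤ (sandwich f).rank := by
    intro f hf hEf hf0
    obtain ⟨m, hmB, hrank, -, hdvd⟩ := exists_mult hM hB hf hEf
    by_contra hlt
    have hpos : 0 < (sandwich f).rank := by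
      rw [Matrix.rank, Module.finrank_pos_iff_exists_ne_zero]
      refine ⟨⟨fun g => f.coeff g, fun g => (1 : 𝕜[G]).coeff g, ?_⟩, fun h => hf0 ?_⟩
      · rw [Matrix.mulVecLin_apply, sandwich_mulVec]
        have : H20.ofFun (fun g => (1 : 𝕜[G]).coeff g) = 1 := by ext x; simp
        rw [this, mul_one, hf]
      · have h' := congrArg Subtype.val h
        ext g
        simpa using congrFun h' g
    have hsq : ∑ χ, m χ ^ 2 = 1 := by omega
    obtain ⟨χ, -, hχ⟩ : ∃ χ ∈ (univ : Finset (IrrCharacter G)), m χ ^ 2 ≠ 0 :=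
      exists_ne_zero_of_sum_ne_zero (by rw [hsq]; exact one_ne_zero)
    have hle : m χ ^ 2 ≤ 1 := hsq ▸ single_le_sum (f := fun ξ => m ξ ^ 2) (fun _ _ => Nat.zero_le _) (mem_univ χ)
    have h1 : m χ ^ 2 = 1 := by omega
    have hothers : ∀ φ, φ ≠ χ → m φ = 0 := fun φ hφ => by
      have h2 := single_le_sum (s := univ.erase χ) (f := fun ξ => m ξ ^ 2)
        (fun _ _ => Nat.zero_le _) (mem_erase.2 ⟨hφ, mem_univ φ⟩)
      rw [← add_sum_erase _ _ (mem_univ χ), h1] at hsq
      have : m φ ^ 2 = 0 := by omega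
      exact pow_eq_zero_iff two_ne_zero |>.1 this
    have hm1 : m χ = 1 := (Nat.pow_eq_one.1 h1).resolve_right two_ne_zero
    refine hnsingle χ (hmB χ (by omega)) _ hdvd ?_
    rw [Fintype.sum_eq_single χ (fun φ hφ => by rw [hothers φ hφ, zero_mul]), hm1, one_mul]
  have hE0 : E ≠ 0 := fun h => by
    obtain ⟨χ, hχ⟩ := H20.block_nonempty hB
    have h1 := H20.lam_eRed hB χ
    rw [show H20.eRed M B = 0 from h, H20.lam_zero, if_pos hχ] at h1
    exact zero_ne_one h1
  have hcorner : ∀ (f : 𝕜[G]), f * f = f → ∀ (r : ℕ) (x : Fin r → 𝕜[G]),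
      Corner.corner 𝕜 f ≤ Submodule.span 𝕜 (Set.range x) → (sandwich f).rank ≤ r := by
    intro f hf r x hx
    let coe : 𝕜[G] →ₗ[𝕜] (G → 𝕜) :=
      { toFun := fun a g => a.coeff g
        map_add' := fun a b => by ext g; simp
        map_smul' := fun c a => by ext g; simp }
    refine le_trans (Submodule.finrank_mono (s := LinearMap.range (sandwich f).mulVecLin)
      (t := (Submodule.span 𝕜 (Set.range x)).map coe) ?_) ?_
    · rintro _ ⟨v, rfl⟩
      rw [Matrix.mulVecLin_apply, sandwich_mulVec]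
      exact ⟨_, hx (Corner.sandwich_mem_corner hf _), rfl⟩
    · refine (Submodule.finrank_map_le _ _).trans ?_
      exact (finrank_range_le_card x).trans (by simp)
  obtain ⟨f, hf, hEf, hdep⟩ := Corner.exists_prim_small (k := 𝕜)
    (fun x => ((H20.isCl_eRed B).commute x).eq) (H20.eRed_mul_self hB) hE0 (traceBound hM hB hk)
    coeffOne coeffOne_tr (fun x hx => coeffOne_nondeg hx) fun f hf hEf => by
      by_contra hcon
      push Not at hcon
      have h2 := hsingle f hf.idem hEf hf.ne_zero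
      have h1 := hcorner f hf.idem 1 ![f] fun u hu => by
        obtain ⟨c, rfl⟩ := hcon u hu
        exact Submodule.smul_mem _ c (Submodule.subset_span ⟨0, rfl⟩)
      omega
  have hrk : (sandwich f).rank ≤ 2 := by
    have h3 : Module.finrank 𝕜 (Corner.corner 𝕜 f) ≤ 2 := by
      by_contra h
      obtain ⟨b, hb⟩ := exists_linearIndependent_of_le_finrank (n := 3) (R := 𝕜)
        (M := Corner.corner 𝕜 f) (by omega)
      obtain ⟨c, hc, hsum⟩ := hdep (fun i => (b i : 𝕜[G])) fun i => (b i).2
      refine hc (funext (Fintype.linearIndependent_iff.1 hb c (Subtype.ext ?_)))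
      rw [Submodule.coe_sum, Submodule.coe_zero]
      simp only [Submodule.coe_smul]
      exact hsum
    let bas := Module.finBasis 𝕜 (Corner.corner 𝕜 f)
    refine le_trans (hcorner f hf.idem _ (fun i => (bas i : 𝕜[G])) fun u hu => ?_) h3
    have h4 := Submodule.mem_map_of_mem (f := (Corner.corner 𝕜 f).subtype)
      (bas.mem_span (⟨u, hu⟩ : Corner.corner 𝕜 f))
    rw [Submodule.map_span, ← Set.range_comp] at h4
    exact h4
  obtain ⟨m, hmB, hrank, hvan, hdvd⟩ := exists_mult hM hB hf.idem hEf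
  have h2 := hsingle f hf.idem hEf hf.ne_zero
  have hsum : ∀ (A : Type) [AddCommMonoid A] (F : IrrCharacter G → A),
      (∀ φ, φ ∉ B → F φ = 0) → ∑ φ, F φ = F χ₀ + F ψ₀ := by
    intro A _ F hF
    rw [← sum_pair hne]
    exact (sum_subset (subset_univ _) fun φ _ hφ => hF φ (by
      rw [hpair]; simpa using hφ)).symm
  have h0 : ∀ φ, φ ∉ B → m φ = 0 := fun φ hφ => by_contra fun h => hφ (hmB φ h)
  rw [hsum ℕ (fun φ => m φ ^ 2) fun φ hφ => by rw [h0 φ hφ]; rfl] at hrank
  rw [hsum ℕ (fun φ => m φ * H12.degree (φ : G → ℂ)) fun φ hφ => by rw [h0 φ hφ, zero_mul]] at hdvd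
  have hone : m χ₀ = 1 ∧ m ψ₀ = 1 := by
    have e1 : m χ₀ ≤ 1 := by
      by_contra h
      have : 2 * 2 ≤ m χ₀ * m χ₀ := Nat.mul_le_mul (by omega) (by omega)
      rw [sq] at hrank
      omega
    have e2 : m ψ₀ ≤ 1 := by
      by_contra h
      have : 2 * 2 ≤ m ψ₀ * m ψ₀ := Nat.mul_le_mul (by omega) (by omega)
      rw [sq, sq] at hrank
      omega
    have f1 : m χ₀ ^ 2 ≤ m χ₀ := by nlinarith
    have f2 : m ψ₀ ^ 2 ≤ m ψ₀ := by nlinarith
    omega
  rw [hone.1, hone.2, one_mul, one_mul] at hdvd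
  have hsing : ∀ y : G, p ∣ orderOf y → (χ₀ : G → ℂ) y + (ψ₀ : G → ℂ) y = 0 := fun y hy => by
    have := hvan y hy
    rw [hsum ℂ (fun φ => (m φ : ℂ) * (φ : G → ℂ) y) fun φ hφ => by rw [h0 φ hφ]; simp] at this
    simpa [hone.1, hone.2] using this
  have hχB : χ₀ ∈ B := by rw [hpair]; simp
  have hψB : ψ₀ ∈ B := by rw [hpair]; simp
  have hdeg : H12.degree (χ₀ : G → ℂ) = H12.degree (ψ₀ : G → ℂ) := by
    obtain ⟨y, hy, hy0⟩ : ∃ y : G, p ∣ orderOf y ∧ (χ₀ : G → ℂ) y ≠ 0 := by
      by_contra h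
      push Not at h
      have h1 := singleton_block_of_vanish hM h
      rw [← H20.block_eq_blockOf hB hχB] at h1
      rw [h1] at hk
      simp at hk
    have h1 := H20.singVanish_block hM hB 1 y (by rw [orderOf_one]; exact hM.1.not_dvd_one) hy
    rw [hpair, finsum_mem_pair hne] at h1
    have h2 := congrArg (starRingEnd ℂ) (hsing y hy)
    simp only [map_add, map_zero] at h2
    simp only [H12.irr_apply_one, map_natCast] at h1
    have h3 : ((H12.degree (χ₀ : G → ℂ) : ℂ) - H12.degree (ψ₀ : G → ℂ)) *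
        conj ((χ₀ : G → ℂ) y) = 0 := by
      have hconj : conj ((χ₀ : G → ℂ) y) = 0 → False := fun h => hy0 ((map_eq_zero _).1 h)
      first
      | linear_combination h1 - (H12.degree (ψ₀ : G → ℂ) : ℂ) * h2
      | (have h4 := congrArg (starRingEnd ℂ) h1
         simp only [map_add, map_mul, map_natCast, map_zero, starRingEnd_self_apply] at h4
         linear_combination h4 - (H12.degree (ψ₀ : G → ℂ) : ℂ) * h2)
    exact_mod_cast sub_eq_zero.1 ((mul_eq_zero.1 h3).resolve_right fun h =>
      hy0 ((map_eq_zero _).1 h))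
  rw [← hdeg, ← two_mul] at hdvd
  have hpos := H12.irr_degree_pos χ₀
  have hlt : (H12.degree (χ₀ : G → ℂ)).factorization p < a₀ := by
    by_contra h
    exact hnsingle χ₀ hχB (H12.degree (χ₀ : G → ℂ)) ((hM.1.pow_dvd_iff_le_factorization hpos.ne').2 (not_lt.1 h)) rfl
  have h2d := (hM.1.pow_dvd_iff_le_factorization (n := 2 * (H12.degree (χ₀ : G → ℂ))) (by omega)).1 hdvd
  rw [Nat.factorization_mul two_ne_zero hpos.ne', Finsupp.add_apply] at h2d
  have hp2 : p = 2 := by
    by_contra h
    rw [Nat.prime_two.factorization, Finsupp.single_eq_of_ne h] at h2d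
    omega
  refine ⟨hp2, ?_⟩
  subst hp2
  rw [Nat.prime_two.factorization_self] at h2d
  have hinf : sInf ((fun φ : IrrCharacter G => (charDegree (φ : G → ℂ)).factorization 2) '' B) =
      (H12.degree (χ₀ : G → ℂ)).factorization 2 := by
    rw [hpair, Set.image_pair, show charDegree (ψ₀ : G → ℂ) = (H12.degree (χ₀ : G → ℂ)) from hdeg.symm,
      show charDegree (χ₀ : G → ℂ) = (H12.degree (χ₀ : G → ℂ)) from rfl, Set.pair_eq_singleton, csInf_singleton]
  rw [blockDefect, hinf]
  omega

end H22.BlockTwo
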