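import Cfsg.Agent.H22.PairOrth
import Cfsg.Agent.H12.TamePairs

/-!
# Pairs of involutions and blocks of rank one

The number of pairs of conjugates of an involution with given product, pushed through a
subsection of rank one, on both sides: in the group and in a centralizer.
-/

set_option autoImplicit false
set_option linter.unusedSectionVars false
set_option linter.style.haveILetI false

open Cfsg Finset
open scoped MonoidAlgebra ComplexConjugate

namespace H22.InvolPairs

universe u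

/-! ### The local side -/

section Local

variable {C : Type u} [Group C] [Fintype C]

theorem sum_char_mul_inv {S : Finset C} (hinv : ∀ g : C, ∀ v ∈ S, g * v * g⁻¹ ∈ S)
    (ψ : IrrCharacter C) (x : C) :
    ∑ v ∈ S, (ψ : C → ℂ) (x * v) =
      (ψ : C → ℂ) x * (∑ v ∈ S, (ψ : C → ℂ) v) / (ψ : C → ℂ) 1 := by
  have hperm : ∀ a : C, ∑ v ∈ S, (ψ : C → ℂ) (x * (a * v * a⁻¹)) =
      ∑ v ∈ S, (ψ : C → ℂ) (x * v) := fun a =>
    Finset.sum_nbij' (fun v => a * v * a⁻¹) (fun v => a⁻¹ * v * a)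
      (fun v hv => hinv a v hv) (fun v hv => by simpa using hinv a⁻¹ v hv)
      (fun v _ => by group) (fun v _ => by group) (fun v _ => rfl)
  apply mul_left_cancel₀ (H12.card_ne_zero' (G := C))
  calc (Nat.card C : ℂ) * ∑ v ∈ S, (ψ : C → ℂ) (x * v)
      = ∑ a : C, ∑ v ∈ S, (ψ : C → ℂ) (x * (a * v * a⁻¹)) := by
        rw [Finset.sum_congr rfl fun a _ => hperm a, sum_const, card_univ,
          ← Nat.card_eq_fintype_card, nsmul_eq_mul]
    _ = ∑ v ∈ S, (Nat.card C : ℂ) * ((ψ : C → ℂ) x * (ψ : C → ℂ) v) / (ψ : C → ℂ) 1 := by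
        rw [sum_comm]
        exact sum_congr rfl fun v _ => H12.irr_class_product ψ x v
    _ = _ := by
        rw [← sum_div, ← mul_sum, ← mul_sum, mul_div_assoc]

/-- A block has a member not vanishing at a given element of a defect group. -/
theorem exists_apply_ne_zero {p : ℕ} [hp : Fact p.Prime] {M : Ideal AlgInt} [M.IsPrime]
    [CharP (H20.k M) p] [IsAlgClosed (H20.k M)] (hM : IsPModular p M)
    {b : Set (IrrCharacter C)} (hb : IsPBlock M b) {P : Subgroup C}
    (hP : IsDefectGroup p M b P) {s : C} (hs : s ∈ P) :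
    ∃ ψ ∈ b, (ψ : C → ℂ) s ≠ 0 := by
  classical
  have hcid := H23.cidem_eB (M := M) hb
  have hC : Subgroup.centralizer ((⊥ : Subgroup C) : Set C) = ⊤ := by
    ext g
    simp [Subgroup.mem_centralizer_iff]
  have hpair : H23.IsPair p (⊥ : Subgroup C) (H23.eB M b) := by
    refine ⟨IsPGroup.of_bot, ?_⟩
    rw [hC]
    exact H23.isBlk_eB hb
  have hin : H23.InBlk (H23.eB M b) (⊥ : Subgroup C) (H23.eB M b) := by
    show _ * H23.Br ⊥ _ = _
    rw [H23.Br_eq_self (hcid.supp.mono hC.ge), hcid.idem]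
  obtain ⟨R, e, hmax, -⟩ := H23.exists_max p hcid hpair hin
  obtain ⟨g, hg⟩ := H20.defectGroup_conj hM hb hP (H23.isDefectGroup_of_isMax hb hmax)
  have hgs : g * s * g⁻¹ ∈ R := hg ▸ (⟨s, hs, rfl⟩ : g * s * g⁻¹ ∈ H20.conjSub g P)
  set x := g * s * g⁻¹ with hx
  obtain ⟨f, hf⟩ := H23.exists_le p hmax.1 (Subgroup.zpowers_le.2 hgs)
  obtain ⟨b', hb', he'⟩ := H20.Klein.exists_block (hf.pair_left p hmax.1)
  simp only at he'
  rw [← he'] at hf
  have hord : ∃ k : ℕ, orderOf (g * s * g⁻¹) = p ^ k := by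
    obtain ⟨k, hk⟩ := IsPGroup.iff_orderOf.1 hmax.1.1 ⟨_, hgs⟩
    exact ⟨k, by rwa [Subgroup.orderOf_mk] at hk⟩
  have hind := H20.Klein.induced_of_inBlk hM hb hord hb'
    ((hf.inBlk_iff p hcid).1 hmax.2.1)
  haveI : Fintype ↥(Subgroup.centralizer ({x} : Set C)) := Fintype.ofFinite _
  haveI : Fintype {b'' : Set (IrrCharacter ↥(Subgroup.centralizer ({x} : Set C))) //
      IsInducedBlock M (Subgroup.centralizer ({x} : Set C)) b'' b} := Fintype.ofFinite _
  by_contra hcon
  push Not at hcon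
  have hzero : ∀ ψ ∈ b, (ψ : C → ℂ) x = 0 := fun ψ hψ => by
    rw [hx, H12.irr_isClassFunction ψ]
    exact hcon ψ hψ
  have h1 : ¬ p ∣ orderOf (1 : ↥(Subgroup.centralizer ({x} : Set C))) := by
    rw [orderOf_one]; exact hp.out.not_dvd_one
  have h := H22.Sub.section_orth hM hb hord 1 1 h1 h1
  rw [sum_eq_zero fun ψ hψ => by
    rw [Subgroup.coe_one, mul_one, hzero ψ (H22.mem_blockFinset.1 hψ), zero_mul]] at h
  have hre := congrArg Complex.re h
  simp only [Complex.zero_re, Complex.re_sum] at hre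
  obtain ⟨η, hη⟩ := H20.block_nonempty hb'
  have hle : ∀ b'' : {b'' : Set (IrrCharacter ↥(Subgroup.centralizer ({x} : Set C))) //
      IsInducedBlock M (Subgroup.centralizer ({x} : Set C)) b'' b},
      ∀ η' ∈ H22.blockFinset b''.1, 0 ≤ ((η' : ↥(Subgroup.centralizer ({x} : Set C)) → ℂ) 1 *
        conj ((η' : ↥(Subgroup.centralizer ({x} : Set C)) → ℂ) 1)).re := fun b'' η' _ => by
    rw [Complex.mul_conj, Complex.ofReal_re]; exact Complex.normSq_nonneg _
  have hz := (sum_eq_zero_iff_of_nonneg fun b'' _ => sum_nonneg (hle b'')).1 hre.symm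
    ⟨b', hind⟩ (mem_univ _)
  have hz2 := (sum_eq_zero_iff_of_nonneg (hle ⟨b', hind⟩)).1 hz η (H22.mem_blockFinset.2 hη)
  rw [Complex.mul_conj, Complex.ofReal_re, Complex.normSq_eq_zero] at hz2
  exact H12.irr_apply_one_ne_zero η hz2

variable [DecidableEq C]

/-- The number of pairs in `S` with given product. -/
def pairs (S : Finset C) (g : C) : ℕ :=
  ((S ×ˢ S).filter fun q => q.1 * q.2 = g).card

/-- The block part at one of the pairs with product `z * c`. -/
theorem blockPart_pairs {z : C} (hz2 : z * z = 1) {S : Finset C}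
    (hinv : ∀ g : C, ∀ v ∈ S, g * v * g⁻¹ ∈ S)
    (b : Set (IrrCharacter C)) :
    blockPart b (fun c => (pairs S (z * c) : ℂ)) 1 =
      (Nat.card C : ℂ)⁻¹ * ∑ u ∈ S, ∑ v ∈ S, ∑ ψ ∈ H22.blockFinset b,
        conj ((ψ : C → ℂ) (z * u) * (ψ : C → ℂ) v) := by
  classical
  rw [H22.Sub.blockPart_eq_smul_sum, Finset.sum_apply]
  have hin : ∀ ψ : IrrCharacter C, classInner (fun c => (pairs S (z * c) : ℂ)) (ψ : C → ℂ) =
      (Nat.card C : ℂ)⁻¹ * ∑ u ∈ S, ∑ v ∈ S, conj ((ψ : C → ℂ) (z * u * v)) := by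
    intro ψ
    rw [H12.classInner_def]
    congr 1
    simp only [pairs, ← sum_boole, sum_mul, sum_product]
    rw [sum_comm]
    refine sum_congr rfl fun u _ => ?_
    rw [sum_comm]
    refine sum_congr rfl fun v _ => ?_
    rw [sum_eq_single (z * u * v) (fun c _ hne => ?_) (fun h => absurd (mem_univ _) h),
      if_pos (by rw [show z * (z * u * v) = z * z * (u * v) by group, hz2, one_mul]), one_mul]
    rw [if_neg, zero_mul]
    intro e
    refine hne ?_
    rw [mul_assoc z u v, e, ← mul_assoc, hz2, one_mul]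
  simp only [Pi.smul_apply, smul_eq_mul, hin]
  simp_rw [mul_assoc (Nat.card C : ℂ)⁻¹, ← mul_sum, sum_mul]
  congr 1
  rw [sum_comm]
  refine sum_congr rfl fun u hu => ?_
  rw [sum_comm (s := S)]
  refine sum_congr rfl fun ψ _ => ?_
  have h1 := congrArg conj (sum_char_mul_inv hinv ψ (z * u))
  simp only [map_sum, map_mul, map_div₀] at h1
  have hreal : conj ((ψ : C → ℂ) 1) = (ψ : C → ℂ) 1 := by
    rw [← H12.irr_inv, inv_one]
  rw [← sum_mul, h1, hreal, div_mul_cancel₀ _ (H12.irr_apply_one_ne_zero ψ), mul_sum]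
  exact sum_congr rfl fun v _ => (map_mul _ _ _).symm

/-- Positivity of the pairs through a block. -/
theorem blockPart_pairs_ne_zero {M : Ideal AlgInt} [M.IsPrime] (hM : IsPModular 2 M) {z : C}
    (hz : z ∈ Subgroup.center C) (hz2 : z * z = 1) {S : Finset C} (hS : ∀ v ∈ S, v * v = 1)
    (hinv : ∀ g : C, ∀ v ∈ S, g * v * g⁻¹ ∈ S) {b : Set (IrrCharacter C)} (hb : IsPBlock M b)
    {u₀ : C} (hu₀ : u₀ ∈ S) (hzu₀ : z * u₀ ∈ S)
    {ψ₀ : IrrCharacter C} (hψ₀ : ψ₀ ∈ b) (hne : (ψ₀ : C → ℂ) u₀ ≠ 0) :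
    blockPart b (fun c => (pairs S (z * c) : ℂ)) 1 ≠ 0 := by
  classical
  haveI : Fact (Nat.Prime 2) := ⟨Nat.prime_two⟩
  have hzu2 : ∀ u ∈ S, (z * u) * (z * u) = 1 := fun u hu => by
    rw [show z * u * (z * u) = z * (u * z) * u by group, Subgroup.mem_center_iff.1 hz u,
      ← mul_assoc z z, hz2, one_mul, hS u hu]
  have hpp : ∀ w : C, w * w = 1 → H20.pPart 2 w = w := by
    intro w hw
    have h : ∃ j : ℕ, orderOf w = 2 ^ j := by
      obtain ⟨j, -, hj⟩ := (Nat.dvd_prime_pow Nat.prime_two).1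
        (orderOf_dvd_of_pow_eq_one (show w ^ 2 ^ 1 = 1 by rw [pow_one, pow_two, hw]))
      exact ⟨j, hj⟩
    exact (H20.isPPart_unique' (p := 2) (g := w) (mul_one w) (Commute.one_right w) h
      (by rw [orderOf_one]; exact Nat.prime_two.not_dvd_one)).1.symm
  have hreal : ∀ w : C, w * w = 1 → ∀ ψ : IrrCharacter C,
      conj ((ψ : C → ℂ) w) = (ψ : C → ℂ) w := fun w hw ψ => by
    rw [← H12.irr_inv, inv_eq_of_mul_eq_one_right hw]
  set T : C → C → ℝ := fun u v =>
    (∑ ψ ∈ H22.blockFinset b, conj ((ψ : C → ℂ) (z * u) * (ψ : C → ℂ) v)).re with hT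
  have hnn : ∀ u ∈ S, ∀ v ∈ S, 0 ≤ T u v := by
    intro u hu v hv
    simp only [hT]
    by_cases hc : IsConj (z * u) v
    · obtain ⟨g, rfl⟩ := isConj_iff.1 hc
      rw [Complex.re_sum]
      refine sum_nonneg fun ψ _ => ?_
      rw [H12.irr_isClassFunction ψ, map_mul]
      nth_rewrite 2 [hreal _ (hzu2 u hu) ψ]
      rw [mul_comm, Complex.mul_conj, Complex.ofReal_re]
      exact Complex.normSq_nonneg _
    · have h := H20.block_orthogonality (p := 2) hM (g := z * u) (h := v)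
        (by rw [hpp _ (hzu2 u hu), hpp _ (hS v hv)]; exact hc) hb
      rw [H22.finsum_mem_block, inv_eq_of_mul_eq_one_right (hS v hv)] at h
      rw [← map_sum, h, map_zero, Complex.zero_re]
  intro h0
  rw [blockPart_pairs hz2 hinv, mul_eq_zero, inv_eq_zero] at h0
  have h1 := congrArg Complex.re (h0.resolve_left H12.card_ne_zero')
  simp only [Complex.re_sum, Complex.zero_re] at h1
  have h2 : ∑ u ∈ S, ∑ v ∈ S, T u v = 0 := by
    simp only [hT, Complex.re_sum]; exact h1
  have h3 := (sum_eq_zero_iff_of_nonneg fun u hu => sum_nonneg (hnn u hu)).1 h2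
  set v₀ := z * u₀ with hv₀
  have h4 := (sum_eq_zero_iff_of_nonneg (hnn v₀ hzu₀)).1 (h3 v₀ hzu₀) u₀ hu₀
  have hzv : z * v₀ = u₀ := by rw [hv₀, ← mul_assoc, hz2, one_mul]
  simp only [hT, hzv, Complex.re_sum] at h4
  have hterm : ∀ ψ : IrrCharacter C, (conj ((ψ : C → ℂ) u₀ * (ψ : C → ℂ) u₀)).re =
      Complex.normSq ((ψ : C → ℂ) u₀) := fun ψ => by
    rw [map_mul]
    nth_rewrite 2 [hreal _ (hS u₀ hu₀) ψ]
    rw [mul_comm, Complex.mul_conj, Complex.ofReal_re]
  simp only [hterm] at h4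
  exact hne (Complex.normSq_eq_zero.1
    ((sum_eq_zero_iff_of_nonneg fun ψ _ => Complex.normSq_nonneg _).1 h4 ψ₀
      (H22.mem_blockFinset.2 hψ₀)))

end Local

/-! ### The global side -/

section Global

variable {G : Type u} [Group G] [Fintype G]

local notation "C[" x "]" => (Subgroup.centralizer ({x} : Set _))

open Classical in
/-- The conjugates of `z` inside its centralizer. -/
noncomputable def locSet (z : G) [Fintype C[z]] : Finset C[z] :=
  univ.filter fun u : C[z] => IsConj z (u : G)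

open Classical in
/-- The pairs with product in the section of an involution are local. -/
theorem npair_eq_pairs {z : G} (hz : z * z = 1) [Fintype C[z]] {w : C[z]}
    (hw : ¬ 2 ∣ orderOf w) :
    H12.TamePairs.npair z (z * (w : G)) =
      pairs (locSet z) ((⟨z, H22.Contrib.mem_self z⟩ : C[z]) * w) := by
  haveI : Fact (Nat.Prime 2) := ⟨Nat.prime_two⟩
  have hsq : ∀ q : G, IsConj z q → q * q = 1 := fun q hq => by
    obtain ⟨c, rfl⟩ := isConj_iff.1 hq
    rw [show c * z * c⁻¹ * (c * z * c⁻¹) = c * (z * z) * c⁻¹ by group, hz]; group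
  have hzord : ∃ k : ℕ, orderOf z = 2 ^ k := by
    obtain ⟨j, -, hj⟩ := (Nat.dvd_prime_pow Nat.prime_two).1
      (orderOf_dvd_of_pow_eq_one (show z ^ 2 ^ 1 = 1 by rw [pow_one, pow_two, hz]))
    exact ⟨j, hj⟩
  have hzw : H20.pPart 2 (z * (w : G)) = z := H20.centralizer_le_of_pPart z w hzord hw
  have hmem : ∀ q : G × G, IsConj z q.1 → IsConj z q.2 → q.1 * q.2 = z * (w : G) →
      q.1 ∈ C[z] ∧ q.2 ∈ C[z] := by
    intro q h1 h2 h3
    have hinv : q.1 * (z * (w : G)) * q.1⁻¹ = (z * (w : G))⁻¹ := by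
      rw [← h3, ← mul_assoc q.1 q.1, hsq _ h1, one_mul, mul_inv_rev,
        inv_eq_of_mul_eq_one_right (hsq _ h2)]
    obtain ⟨i, hi⟩ := Subgroup.mem_zpowers_iff.1 (H20.mem_zpowers_pPart (p := 2) (z * (w : G)))
    have h4 := H12.TamePairs.zpow_inverted hinv i
    rw [hi, hzw, inv_eq_of_mul_eq_one_right hz] at h4
    have hq1 : q.1 ∈ C[z] :=
      Subgroup.mem_centralizer_singleton_iff.2 (mul_inv_eq_iff_eq_mul.1 h4)
    refine ⟨hq1, ?_⟩
    rw [show q.2 = q.1⁻¹ * (z * (w : G)) by rw [← h3]; group]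
    exact mul_mem (inv_mem hq1) (mul_mem (H22.Contrib.mem_self z) w.2)
  rw [H12.TamePairs.npair, pairs, ← Nat.card_eq_finsetCard]
  refine Nat.card_congr
    { toFun := fun q => ⟨(⟨q.1.1, (hmem _ q.2.1 q.2.2.1 q.2.2.2).1⟩,
        ⟨q.1.2, (hmem _ q.2.1 q.2.2.1 q.2.2.2).2⟩), ?_⟩
      invFun := fun q => ⟨((q.1.1 : G), (q.1.2 : G)), ?_⟩
      left_inv := fun q => rfl
      right_inv := fun q => rfl }
  · simp only [locSet, mem_filter, mem_product, mem_univ, true_and]
    exact ⟨⟨q.2.1, q.2.2.1⟩, Subtype.ext q.2.2.2⟩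
  · have h := q.2
    simp only [locSet, mem_filter, mem_product, mem_univ, true_and] at h
    exact ⟨h.1.1, h.1.2, congrArg Subtype.val h.2⟩

variable {M : Ideal AlgInt} [M.IsPrime] {x : G} [Fintype C[x]] {b : Set (IrrCharacter C[x])}
  {B : Set (IrrCharacter G)}

/-- The pairs pushed through a subsection of rank one, evaluated at one. -/
theorem blockPart_npair_one (hM : IsPModular 2 M) {z : G} (hz : z * z = 1)
    (hx : ∃ k : ℕ, orderOf x = 2 ^ k) (hind : IsInducedBlock M C[x] b B) (D : H22.One.Data 2 b) :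
    blockPart b (fun c : C[x] => (H12.TamePairs.npair z (x * (c : G)) : ℂ)) 1 =
      (C[z].index : ℂ) ^ 2 / (Nat.card G : ℂ) * ((D.g : ℂ) *
        ∑ χ ∈ H22.blockFinset B, (χ : G → ℂ) z ^ 2 / (χ : G → ℂ) 1 * H22.One.col D 1 χ) := by
  classical
  haveI : Fact (Nat.Prime 2) := ⟨Nat.prime_two⟩
  have h1 : ¬ 2 ∣ orderOf (1 : C[x]) := by rw [orderOf_one]; exact Nat.prime_two.not_dvd_one
  rw [H12.TamePairs.blockPart_npair_involution hM hz hx hind 1 h1, mul_sum (a := (D.g : ℂ)),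
    H22.blockFinset]
  congr 1
  refine sum_congr (by congr) fun χ _ => ?_
  have h2 := congrFun (H22.One.regPart_shiftPow D 1 χ) (1 : C[x])
  rw [H22.pRegularPart_of_not_dvd _ h1, Pi.smul_apply, smul_eq_mul, D.apply_one] at h2
  simp only [pow_one] at h2
  rw [h2]
  ring

/-- The column of a subsection vanishes outside the block. -/
theorem col_eq_zero_of_notMem (hM : IsPModular 2 M) (hx : ∃ k : ℕ, orderOf x = 2 ^ k)
    (hind : IsInducedBlock M C[x] b B) (D : H22.One.Data 2 b) {χ : IrrCharacter G} (hχ : χ ∉ B) :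
    H22.One.col D 1 χ = 0 := by
  haveI : Fact (Nat.Prime 2) := ⟨Nat.prime_two⟩
  have h1 : ¬ 2 ∣ orderOf (1 : C[x]) := by rw [orderOf_one]; exact Nat.prime_two.not_dvd_one
  have h2 := congrFun (H22.One.regPart_shiftPow D 1 χ) (1 : C[x])
  simp only [pow_one] at h2
  rw [H22.pRegularPart_of_not_dvd _ h1, Pi.smul_apply, smul_eq_mul, D.apply_one,
    H20.blockPart_shift_eq_zero hM hx (H20.isPBlock_blockOf χ) (H20.mem_blockOf_self χ)
      hind.1 (fun h => hχ ((H20.inducedBlock_unique C[x] h hind) ▸ H20.mem_blockOf_self χ)) 1 h1]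
    at h2
  exact (mul_eq_zero.1 h2.symm).resolve_right (by exact_mod_cast D.g_pos.ne')

/-- The pairs weighted by the basic function of a subsection of rank one. -/
theorem sum_npair_phi [CharP (H20.k M) 2] [IsAlgClosed (H20.k M)] (hM : IsPModular 2 M) {z : G}
    (hz : z * z = 1) (hx : ∃ k : ℕ, orderOf x = 2 ^ k) (hind : IsInducedBlock M C[x] b B)
    (D : H22.One.Data 2 b) :
    ∑ w : C[x], (H12.TamePairs.npair z (x * (w : G)) : ℂ) * conj (D.φ w) =
      (C[z].index : ℂ) ^ 2 / (Nat.card G : ℂ) * ((Nat.card C[x] : ℂ) /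
        (2 : ℂ) ^ blockDefect 2 b *
        ∑ χ ∈ H22.blockFinset B, (χ : G → ℂ) z ^ 2 / (χ : G → ℂ) 1 * H22.One.col D 1 χ) := by
  classical
  haveI : Fact (Nat.Prime 2) := ⟨Nat.prime_two⟩
  have hinner : ∀ χ : IrrCharacter G, ∑ w : C[x], (χ : G → ℂ) (x * (w : G)) * conj (D.φ w) =
      (Nat.card C[x] : ℂ) / (2 : ℂ) ^ blockDefect 2 b * H22.One.col D 1 χ := by
    intro χ
    have h := H22.One.inner_shift D hM hind.1 (x := x) χ
    rw [H12.classInner_def, Nat.cast_ofNat, inv_mul_eq_iff_eq_mul₀ H12.card_ne_zero'] at h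
    have h' := congrArg conj h
    simp only [map_sum, map_mul, Complex.conj_conj, map_inv₀, map_pow, Complex.conj_natCast,
      map_ofNat] at h'
    rw [div_eq_mul_inv]
    calc ∑ w : C[x], (χ : G → ℂ) (x * (w : G)) * conj (D.φ w)
        = ∑ w : C[x], conj (D.φ w) * H22.Sub.shiftMap x (χ : G → ℂ) w :=
          sum_congr rfl fun w _ => mul_comm _ _
      _ = _ := h'
      _ = _ := by ring
  simp only [H12.TamePairs.npair_eq_sum, mul_sum, sum_mul]
  rw [sum_comm, H22.blockFinset, sum_filter]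
  refine sum_congr rfl fun χ _ => ?_
  have h3 : ∑ w : C[x], (C[z].index : ℂ) ^ 2 / (Nat.card G : ℂ) *
      (conj ((χ : G → ℂ) z) ^ 2 / (χ : G → ℂ) 1 * (χ : G → ℂ) (x * (w : G))) * conj (D.φ w) =
      (C[z].index : ℂ) ^ 2 / (Nat.card G : ℂ) * ((χ : G → ℂ) z ^ 2 / (χ : G → ℂ) 1) *
        ((Nat.card C[x] : ℂ) / (2 : ℂ) ^ blockDefect 2 b * H22.One.col D 1 χ) := by
    rw [← hinner χ, mul_sum, H12.TamePairs.conj_irr_involution hz]
    exact sum_congr rfl fun w _ => by ring
  rw [h3]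
  split_ifs with hχ
  · ring
  · rw [col_eq_zero_of_notMem hM hx hind D hχ, mul_zero, mul_zero]

/-- The weighted pairs are divisible by a power of two. -/
theorem memRing_npair_phi (hM : IsPModular 2 M) {z : G} (hz : z * z = 1) {m : ℕ}
    (hx : orderOf x = 2 ^ m) (hm : 1 ≤ m) (hb : IsPBlock M b) (D : H22.One.Data 2 b)
    (hd : blockDefect 2 b = m) :
    MemLocalRing M ((∑ w : C[x], (H12.TamePairs.npair z (x * (w : G)) : ℂ) * conj (D.φ w)) /
      (2 : ℂ) ^ ((Nat.card C[x]).factorization 2 - 1)) := by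
  classical
  haveI : Fact (Nat.Prime 2) := ⟨Nat.prime_two⟩
  haveI : Fintype (ConjClasses C[x]) := Fintype.ofFinite _
  obtain ⟨η, hη, hη0⟩ := H22.exists_height_zero (p := 2) D.nonempty
  have h0 : blockHeight 2 b (η : C[x] → ℂ) = 0 := Nat.sub_eq_zero_of_le hη0.le
  have he : ¬ 2 ∣ D.e η := fun h => by
    have h1 := D.val hη
    have h2 := (Nat.Prime.dvd_iff_one_le_factorization Nat.prime_two (D.e_ne_zero hη)).1 h
    omega
  set cx := (Nat.card C[x]).factorization 2
  have hmcx : m ≤ cx := by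
    have h := H22.blockDefect_add_blockExp (p := 2) hη
    omega
  have hg : D.g.factorization 2 + m = cx := by
    have h := H22.blockDefect_add_blockExp (p := 2) hη
    rw [D.fac]
    omega
  have hN : IsClassFunction G (fun g => (H12.TamePairs.npair z g : ℂ)) := fun g h => by
    simp [H12.TamePairs.npair_conj]
  have hcl : IsClassFunction C[x] (D.φ) :=
    H22.Sub.irrSpan_isClassFunction (H22.Sub.regSpan_le_irrSpan hM hb D.mem)
  have hf : IsClassFunction C[x]
      (fun w => (H12.TamePairs.npair z (x * (w : G)) : ℂ) * conj (D.φ w)) := fun g h => by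
    show _ * _ = _ * _
    rw [hcl g h]
    exact congrArg (· * _) (H20.isClassFunction_shift hN x g h)
  have hreg : ∀ w : C[x], 2 ∣ orderOf w → D.φ w = 0 := fun w hw => by
    rw [← H22.Sub.pRegularPart_of_mem_regSpan D.mem, H22.pRegularPart_of_dvd _ hw]
  rw [H22.sum_eq_sum_classes _ hf, sum_div]
  refine Finset.sum_induction _ (MemLocalRing M) (fun _ _ => H20.memRing_add)
    ⟨0, 1, H20.one_notMem, by simp⟩ fun K _ => ?_
  by_cases hw : 2 ∣ orderOf K.out
  · rw [hreg _ hw, map_zero, mul_zero, mul_zero, zero_div]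
    exact ⟨0, 1, H20.one_notMem, by simp⟩
  set w := K.out
  have hodd : Odd (orderOf (w : G)) := by
    rw [Subgroup.orderOf_coe, Nat.odd_iff]; omega
  obtain ⟨N', hN'⟩ := H12.TamePairs.pow_dvd_npair hz hx (show Commute x (w : G) from w.2 x rfl)
    (m := m) hodd
  obtain ⟨g', hg'⟩ := Nat.ordProj_dvd D.g 2
  have hval : ((Subgroup.centralizer ({w} : Set C[x])).index : ℂ) * conj (D.φ w) =
      (D.g : ℂ) * conj (centralChar (η : C[x] → ℂ) w) := by
    rw [centralChar, irr_one_eq_charDegree, D.deg η hη, D.reg_apply hη hw, map_div₀, map_mul,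
      map_mul, Complex.conj_natCast, Complex.conj_natCast, Complex.conj_natCast]
    push_cast
    have he0 : (D.e η : ℂ) ≠ 0 := Nat.cast_ne_zero.2 (D.e_ne_zero hη)
    have hg0 : (D.g : ℂ) ≠ 0 := Nat.cast_ne_zero.2 D.g_pos.ne'
    field_simp
  have hrep : ((Subgroup.centralizer ({w} : Set C[x])).index : ℂ) *
      ((H12.TamePairs.npair z (x * (w : G)) : ℂ) * conj (D.φ w)) / (2 : ℂ) ^ (cx - 1) =
      ((g' * N' : ℕ) : ℂ) * conj (centralChar (η : C[x] → ℂ) w) := by
    rw [show ((Subgroup.centralizer ({w} : Set C[x])).index : ℂ) *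
        ((H12.TamePairs.npair z (x * (w : G)) : ℂ) * conj (D.φ w)) =
      (H12.TamePairs.npair z (x * (w : G)) : ℂ) *
        (((Subgroup.centralizer ({w} : Set C[x])).index : ℂ) * conj (D.φ w)) by ring, hval, hN',
      show cx - 1 = (m - 1) + D.g.factorization 2 by omega]
    generalize hk : D.g.factorization 2 = k at hg' ⊢
    rw [hg']
    push_cast
    rw [pow_add]
    field_simp
  rw [hrep]
  exact H20.memRing_mul (H20.memRing_natCast _)
    (H20.memRing_of_isIntegral ((H20.isIntegral_centralChar η w).map (starRingEnd ℂ).toIntAlgHom))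

end Global

end H22.InvolPairs
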