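import Cfsg.Agent.H22.DihColumns
import Cfsg.Agent.H22.DihCount
import Cfsg.Agent.H22.InvolPairs

/-!
# The invariants of a 2-block with dihedral defect group

`k(B) = 2 ^ (m - 1) + 3`, four characters of height zero, all others of height one.
-/

set_option autoImplicit false
set_option linter.unusedSectionVars false
set_option linter.style.haveILetI false

open Cfsg Finset Polynomial
open scoped MonoidAlgebra ComplexConjugate

namespace H22.DihBlock

universe u

variable {G : Type u} [Group G] [Fintype G] {M : Ideal AlgInt} [M.IsPrime]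
  [CharP (H20.k M) 2] [IsAlgClosed (H20.k M)]

local notation "C[" x "]" => Subgroup.centralizer ({x} : Set G)

variable {B : Set (IrrCharacter G)} {D : Subgroup G} {f0 : (H20.k M)[G]} {r s : G} {m : ℕ}

/-- When no room is left, a rotation subsection at an involution is central. -/
theorem exists_rotation_invol (h : H12.DihPairs.Dih M B D f0 r s m)
    (hk : Nat.card B ≤ blockRank 2 B + 2 ^ (m - 1)) {y : G} (hy : y * y = 1) (hy1 : y ≠ 1)
    {c : Set (IrrCharacter C[y])} (hc : IsInducedBlock M C[y] c B) :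
    ∃ (g : G) (b : Set (IrrCharacter C[r ^ 2 ^ (m - 1)])),
      H23.Le 2 (Subgroup.zpowers (r ^ 2 ^ (m - 1)), H23.eG M C[r ^ 2 ^ (m - 1)] b) (D, f0) ∧
        g * y * g⁻¹ = r ^ 2 ^ (m - 1) ∧
        H23.cj g (H23.eG M C[y] c) = H23.eG M C[r ^ 2 ^ (m - 1)] b := by
  have hord : ∃ k : ℕ, orderOf y = 2 ^ k :=
    ⟨1, by rw [pow_one]; exact orderOf_eq_prime (by rw [pow_two]; exact hy) hy1⟩
  obtain ⟨i, hi, g, b, hle, hg, hgb⟩ := exists_rotation h hk hord hy1 hc
  have hiq : i + 1 = 2 ^ (m - 1) := by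
    have h1 : (r ^ (i + 1)) ^ 2 = 1 := by
      rw [pow_two, ← hg, show g * y * g⁻¹ * (g * y * g⁻¹) = g * (y * y) * g⁻¹ by group, hy]
      group
    rw [← pow_mul] at h1
    have h2 := Nat.le_of_dvd (by omega) (h.hord ▸ orderOf_dvd_of_pow_eq_one h1)
    have := two_pow_pred h
    omega
  revert b
  rw [hiq] at hg ⊢
  exact fun b hle hgb => ⟨g, b, hle, hg, hgb⟩

/-- A value at `z` when one block of the centralizer induces `B`. -/
theorem apply_of_unique {x : G} [Fintype C[x]] (hM : IsPModular 2 M)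
    (hx : ∃ k : ℕ, orderOf x = 2 ^ k) (hB : IsPBlock M B) {b : Set (IrrCharacter C[x])}
    (hind : IsInducedBlock M C[x] b B) (huniq : ∀ c, IsInducedBlock M C[x] c B → c = b)
    (Dz : H22.One.Data 2 b) {χ : IrrCharacter G} (hχ : χ ∈ B) :
    (χ : G → ℂ) x = H22.One.col Dz 1 χ * (Dz.g : ℂ) := by
  classical
  haveI : Fact (Nat.Prime 2) := ⟨Nat.prime_two⟩
  haveI : Fintype {b : Set (IrrCharacter C[x]) // IsPBlock M b} := Fintype.ofFinite _
  have h1 : ¬ 2 ∣ orderOf (1 : C[x]) := by rw [orderOf_one]; exact Nat.prime_two.not_dvd_one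
  have hsplit := congrFun (H22.Sub.sum_blockPart (M := M) (f := H22.Sub.shiftMap x (χ : G → ℂ))
    (H20.isClassFunction_shift (H12.irr_isClassFunction χ) x)) (1 : C[x])
  have h0 : ∀ c ∈ (univ : Finset {b : Set (IrrCharacter C[x]) // IsPBlock M b}),
      c ≠ ⟨b, hind.1⟩ → blockPart c.1 (H22.Sub.shiftMap x (χ : G → ℂ)) (1 : C[x]) = 0 :=
    fun c _ hne => H20.blockPart_shift_eq_zero hM hx hB hχ c.2
      (fun hc => hne (Subtype.ext (huniq _ hc))) 1 h1
  rw [Finset.sum_apply, sum_eq_single _ h0 (fun h => absurd (mem_univ _) h)] at hsplit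
  have h2 := congrFun (H22.One.part_eq Dz χ) (1 : C[x])
  rw [H22.Contrib.part, H22.Sub.regMap_apply, H22.pRegularPart_of_not_dvd _ h1, Pi.smul_apply,
    smul_eq_mul, Dz.apply_one] at h2
  rw [← h2, hsplit]
  show _ = (χ : G → ℂ) (x * ((1 : C[x]) : G))
  rw [Subgroup.coe_one, mul_one]

/-- The local pairs are not killed by the block at the central involution. -/
theorem local_pairs_ne_zero (h : H12.DihPairs.Dih M B D f0 r s m) {z : G}
    (hzq : r ^ 2 ^ (m - 1) = z) [Fintype C[z]] [DecidableEq C[z]]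
    {b : Set (IrrCharacter C[z])} (hb : IsPBlock M b)
    (hle : H23.Le 2 (Subgroup.zpowers z, H23.eG M C[z] b) (D, f0)) (hsz : IsConj z s) :
    blockPart b (fun c : C[z] =>
      (H22.InvolPairs.pairs (H22.InvolPairs.locSet z)
        ((⟨z, H22.Contrib.mem_self z⟩ : C[z]) * c) : ℂ)) 1 ≠ 0 := by
  classical
  haveI : Fact (Nat.Prime 2) := ⟨Nat.prime_two⟩
  have hDC : D ≤ C[z] := hzq ▸ h.le_cent_centre
  have hz2 : z * z = 1 := by
    rw [← hzq, ← pow_add, ← two_mul, two_pow_pred h, ← h.hord, pow_orderOf_eq_one]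
  have hdef : IsDefectGroup 2 M b (D.subgroupOf C[z]) := by
    have hT : Subgroup.centralizer ((Subgroup.zpowers z : Subgroup G) : Set G) = C[z] :=
      H17.Major.centralizer_zpowers_eq z
    have hmaxIn : H23.IsMaxIn 2 (Subgroup.centralizer ((Subgroup.zpowers z : Subgroup G) : Set G))
        (H23.eG M C[z] b) D f0 :=
      H17.Major.maxIn_of_max h.hB h.hmax hle (hT ▸ hDC)
    rw [hT] at hmaxIn
    have hf := hle.pair_left 2 h.hmax.1
    exact H23.isDefectGroup_locMax h.hM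
      (⟨hf, (hle.le 2).trans hDC, hT.le, hT.ge.trans (H23.centralizer_le_stab 2 hf), hmaxIn, hle⟩ :
        H23.LocMax 2 (Subgroup.zpowers z) (H23.eG M C[z] b) C[z] D f0) hb rfl
  have hsC : s ∈ C[z] := hDC h.sD
  obtain ⟨ψ, hψ, hne⟩ := H22.InvolPairs.exists_apply_ne_zero h.hM hb hdef
    (s := (⟨s, hsC⟩ : C[z])) (Subgroup.mem_subgroupOf.2 h.sD)
  have hsq : ∀ u ∈ H22.InvolPairs.locSet z, u * u = 1 := by
    intro u hu
    simp only [H22.InvolPairs.locSet, mem_filter, mem_univ, true_and] at hu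
    obtain ⟨g, hg⟩ := isConj_iff.1 hu
    apply Subtype.ext
    rw [Subgroup.coe_mul, ← hg, show g * z * g⁻¹ * (g * z * g⁻¹) = g * (z * z) * g⁻¹ by group, hz2]
    simp
  have hinv : ∀ g : C[z], ∀ v ∈ H22.InvolPairs.locSet z,
      g * v * g⁻¹ ∈ H22.InvolPairs.locSet z := by
    intro g v hv
    simp only [H22.InvolPairs.locSet, mem_filter, mem_univ, true_and] at hv ⊢
    exact hv.trans (isConj_iff.2 ⟨g, rfl⟩)
  refine H22.InvolPairs.blockPart_pairs_ne_zero h.hM (H22.Contrib.self_mem_center z)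
    (Subtype.ext hz2) hsq hinv hb (u₀ := (⟨s, hsC⟩ : C[z])) ?_ ?_ hψ hne
  · simp only [H22.InvolPairs.locSet, mem_filter, mem_univ, true_and]
    exact hsz
  · simp only [H22.InvolPairs.locSet, mem_filter, mem_univ, true_and, Subgroup.coe_mul]
    refine hsz.trans (isConj_iff.2 ⟨r ^ 2 ^ (m - 2), ?_⟩)
    have h2 : 2 ^ (m - 2) + 2 ^ (m - 2) = 2 ^ (m - 1) := by
      rw [← two_mul, ← pow_succ']; congr 1; have := h.hm; omega
    have h3 : s * r ^ 2 ^ (m - 2) * s⁻¹ = (r ^ 2 ^ (m - 2))⁻¹ :=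
      h.s_conj (Subgroup.npow_mem_zpowers r _)
    rw [← hzq, ← h2, pow_add]
    calc r ^ 2 ^ (m - 2) * s * (r ^ 2 ^ (m - 2))⁻¹
        = r ^ 2 ^ (m - 2) * s * (s * r ^ 2 ^ (m - 2) * s⁻¹) := by rw [h3]
      _ = r ^ 2 ^ (m - 2) * (s * s) * r ^ 2 ^ (m - 2) * s⁻¹ := by group
      _ = _ := by rw [h.s2, h.s_inv]; group

/-- The column data cannot leave two places empty. -/
theorem not_deficit (h : H12.DihPairs.Dih M B D f0 r s m) {z : G} (hzq : r ^ 2 ^ (m - 1) = z)
    [Fintype C[z]] [DecidableEq C[z]] [Fintype C[r]] {bz : Set (IrrCharacter C[z])}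
    (hindz : IsInducedBlock M C[z] bz B)
    (hlez : H23.Le 2 (Subgroup.zpowers z, H23.eG M C[z] bz) (D, f0))
    (hdz : blockDefect 2 bz = m + 1) (Dz : H22.One.Data 2 bz)
    {br : Set (IrrCharacter C[r])} (hindr : IsInducedBlock M C[r] br B)
    (hler : H23.Le 2 (Subgroup.zpowers r, H23.eG M C[r] br) (D, f0)) (Dr : H22.One.Data 2 br)
    (hcard : Nat.card B = 2 ^ (m - 1) + 1) : False := by
  classical
  haveI : Fact (Nat.Prime 2) := ⟨Nat.prime_two⟩
  have hm := h.hm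
  have hq := two_pow_pred h
  have hl1 : blockRank 2 B = 1 := by
    have h1 := rank_add_le h
    have h2 := H19.CentralRank.one_le_blockRank (p := 2) (H20.block_nonempty h.hB)
    omega
  have hk : Nat.card B ≤ blockRank 2 B + 2 ^ (m - 1) := by omega
  obtain ⟨De⟩ := H22.One.exists_data h.hM h.hB hl1
  have hz2 : z * z = 1 := by
    rw [← hzq, ← pow_add, ← two_mul, hq, ← h.hord, pow_orderOf_eq_one]
  have hz1 : z ≠ 1 := fun hz => by
    have := h.orderOf_centre
    rw [hzq, hz, orderOf_one] at this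
    norm_num at this
  have hzord : ∃ k : ℕ, orderOf z = 2 ^ k :=
    ⟨1, by rw [pow_one, ← hzq]; exact h.orderOf_centre⟩
  have hrord : ∃ k : ℕ, orderOf r = 2 ^ k := ⟨m, h.hord⟩
  obtain ⟨a, ha, hasum, haodd, haeven, hane, -⟩ :=
    exists_zcol h hindz hdz (by rw [pow_two]; exact hz2) Dz
  obtain ⟨ζ, P, c, hζ, hcol, hreal, havg, hc4, hcodd, hclin⟩ := exists_rcol h hindr hler Dr
  -- only one block of the centralizer induces
  have huniq : ∀ c' : Set (IrrCharacter C[z]), IsInducedBlock M C[z] c' B → c' = bz := by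
    intro c' hc'
    obtain ⟨g, b, hle, hg, hgb⟩ := exists_rotation_invol h hk hz2 hz1 hc'
    subst hzq
    have hgC : g ∈ C[r ^ 2 ^ (m - 1)] :=
      Subgroup.mem_centralizer_singleton_iff.2 (mul_inv_eq_iff_eq_mul.1 hg)
    haveI := Fintype.ofFinite C[r ^ 2 ^ (m - 1)]
    rw [H23.isFix_iff_cj.1 (H23.cidem_eG hc'.1).fix g hgC] at hgb
    exact H23.eG_injective hc'.1 hindz.1 (hgb.trans (H23.le_unique 2 h.hmax.1 hle hlez))
  -- the reflections are fused with the central involution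
  have hsz : IsConj z s := by
    obtain ⟨bs, hbs, -⟩ := exists_sub h h.sD
    obtain ⟨g, -, -, hg, -⟩ := exists_rotation_invol h hk h.s2
      (fun h1 => h.snot (h1 ▸ one_mem _)) hbs
    exact (isConj_iff.2 ⟨g, hg.trans hzq⟩).symm
  have hz : ∀ χ ∈ B, (χ : G → ℂ) z = (a χ : ℂ) * (Dz.g : ℂ) := fun χ hχ => by
    rw [apply_of_unique h.hM hzord h.hB hindz huniq Dz hχ, ha]
  have h1χ : ∀ χ ∈ B, (χ : G → ℂ) 1 = (De.e χ : ℂ) * (De.g : ℂ) := fun χ hχ => by
    rw [irr_one_eq_charDegree, De.deg χ hχ, Nat.cast_mul]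
  -- the common pattern
  set sB := H22.blockFinset B with hsB
  set H := sB.filter (fun χ : IrrCharacter G => blockHeight 2 B (χ : G → ℂ) = 0) with hH
  have hHs : H ⊆ sB := filter_subset _ _
  have hmemH : ∀ χ, χ ∈ H ↔ χ ∈ B ∧ blockHeight 2 B (χ : G → ℂ) = 0 := fun χ => by
    rw [hH, mem_filter, hsB, H22.mem_blockFinset]
  have hHne : H.Nonempty := by
    obtain ⟨χ₀, hχ₀, he₀⟩ := H22.exists_height_zero (p := 2) (H20.block_nonempty h.hB)
    exact ⟨χ₀, (hmemH χ₀).2 ⟨hχ₀, Nat.sub_eq_zero_of_le he₀.le⟩⟩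
  have hcardle : 2 ^ (m - 1) + 1 ≤ sB.card := by rw [hsB, ← H22.natCard_block, hcard]
  have hnot : sB.card ≠ 2 ^ (m - 1) + 3 := by rw [hsB, ← H22.natCard_block, hcard]; omega
  have hcx : ∀ χ ∈ H, ¬ (2 : ℤ) ∣ c χ := fun χ hχ =>
    hcodd χ ((hmemH χ).1 hχ).1 ((hmemH χ).1 hχ).2
  have hoff : ∀ χ ∈ sB, χ ∉ H → χ ∈ B ∧ blockHeight 2 B (χ : G → ℂ) ≠ 0 := fun χ hχ hn =>
    ⟨H22.mem_blockFinset.1 hχ, fun h0 => hn ((hmemH χ).2 ⟨H22.mem_blockFinset.1 hχ, h0⟩)⟩
  obtain ⟨hH4, hc1, hc0, ha4, haH⟩ := H22.DihCount.count sB H hHs hHne c a hcx hc4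
    (fun χ hχ => haodd χ ((hmemH χ).1 hχ).1 ((hmemH χ).1 hχ).2)
    (fun χ hχ hn => haeven χ (hoff χ hχ hn).1 (hoff χ hχ hn).2)
    (fun χ hχ _ => hane χ (H22.mem_blockFinset.1 hχ)) hasum hcardle
  obtain ⟨-, R, hR, haR, haR1⟩ := haH.resolve_left (fun h1 => hnot h1.1)
  have hesum : ∑ χ ∈ sB, ((De.e χ : ℤ)) ^ 2 = 4 * ((2 ^ (m - 1) : ℕ) : ℤ) := by
    have h1 : ((∑ χ ∈ sB, De.e χ ^ 2 : ℕ) : ℤ) = ((2 ^ blockDefect 2 B : ℕ) : ℤ) :=
      congrArg Nat.cast De.sum_sq
    push_cast at h1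
    rw [h1, h.card_D.2, show m + 1 = 2 + (m - 1) by omega, pow_add]
    push_cast; ring
  have heodd : ∀ χ ∈ H, ¬ (2 : ℤ) ∣ (De.e χ : ℤ) := fun χ hχ hdvd => by
    have h1 := De.val ((hmemH χ).1 hχ).1
    rw [((hmemH χ).1 hχ).2, Nat.factorization_eq_zero_iff] at h1
    rcases h1 with h1 | h1 | h1
    · exact h1 Nat.prime_two
    · exact h1 (by exact_mod_cast hdvd)
    · exact De.e_ne_zero ((hmemH χ).1 hχ).1 h1
  have heeven : ∀ χ ∈ sB, χ ∉ H → (2 : ℤ) ∣ (De.e χ : ℤ) := fun χ hχ hn => by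
    have h1 := De.val (hoff χ hχ hn).1
    have h2 := (Nat.Prime.dvd_iff_one_le_factorization Nat.prime_two
      (De.e_ne_zero (hoff χ hχ hn).1)).2 (by rw [h1]; have := (hoff χ hχ hn).2; omega)
    exact_mod_cast h2
  obtain ⟨-, -, -, he4, heH⟩ := H22.DihCount.count sB H hHs hHne c (fun χ => (De.e χ : ℤ)) hcx hc4
    heodd heeven (fun χ hχ _ => by exact_mod_cast De.e_ne_zero (H22.mem_blockFinset.1 hχ))
    hesum hcardle
  obtain ⟨-, Q, hQ, heQ, heQ1⟩ := heH.resolve_left (fun h1 => hnot h1.1)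
  -- the regular column is orthogonal to the other two
  have hea : ∑ χ ∈ sB, (De.e χ : ℤ) * a χ = 0 := by
    have h1 := H22.One.sum_deg_col Dz h.hM hzord hz1 hindz
    rw [sum_congr rfl fun (χ : IrrCharacter G) hχ => show (χ : G → ℂ) 1 * conj (H22.One.col Dz 1 χ) =
      (De.g : ℂ) * (((De.e χ : ℤ) * a χ : ℤ) : ℂ) by
        rw [h1χ χ (H22.mem_blockFinset.1 hχ), ha, map_intCast]; push_cast; ring, ← mul_sum,
      mul_eq_zero] at h1
    have h2 := h1.resolve_left (Nat.cast_ne_zero.2 De.g_pos.ne')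
    rw [← Int.cast_sum] at h2
    exact_mod_cast h2
  have hec : ∑ χ ∈ sB, (De.e χ : ℤ) * c χ = 0 := by
    refine hclin _ ?_
    have h1 := H22.One.sum_deg_col Dr h.hM hrord
      (fun h1 => h.snot (by
        have h2 := h.sr
        have := h.hord
        rw [h1, orderOf_one] at this
        exact absurd this (by
          have : 2 ^ 2 ≤ 2 ^ m := Nat.pow_le_pow_right (by norm_num) hm
          omega))) hindr
    rw [sum_congr rfl fun (χ : IrrCharacter G) hχ => show (χ : G → ℂ) 1 * conj (H22.One.col Dr 1 χ) =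
      (De.g : ℂ) * (((De.e χ : ℤ) : ℂ) * H22.One.col Dr 1 χ) by
        rw [h1χ χ (H22.mem_blockFinset.1 hχ), hcol, hreal]; push_cast; ring, ← mul_sum,
      mul_eq_zero] at h1
    exact h1.resolve_left (Nat.cast_ne_zero.2 De.g_pos.ne')
  by_cases hcase : a Q ^ 2 = 9
  · -- equal absolute values
    have hsq : ∀ χ ∈ sB, a χ ^ 2 = (De.e χ : ℤ) ^ 2 := by
      intro χ hχ
      by_cases hn : χ ∈ H
      · by_cases hQχ : χ = Q
        · rw [hQχ, hcase, heQ]
        · have hRQ : R = Q := by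
            by_contra hne
            have := haR1 Q hQ (Ne.symm hne)
            omega
          rw [haR1 χ hn (hRQ ▸ hQχ), heQ1 χ hn hQχ]
      · rw [ha4 χ hχ hn, he4 χ hχ hn]
    have h1 := H22.InvolPairs.blockPart_npair_one h.hM hz2 hzord hindz Dz
    rw [sum_congr rfl fun (χ : IrrCharacter G) hχ => show (χ : G → ℂ) z ^ 2 / (χ : G → ℂ) 1 * H22.One.col Dz 1 χ =
        (Dz.g : ℂ) ^ 2 / (De.g : ℂ) * (((De.e χ : ℤ) * a χ : ℤ) : ℂ) by
      have hχB := H22.mem_blockFinset.1 hχ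
      rw [hz χ hχB, h1χ χ hχB, ha]
      have h2 : (a χ : ℂ) ^ 2 = (De.e χ : ℂ) ^ 2 := by
        have := congrArg (Int.cast (R := ℂ)) (hsq χ hχ)
        push_cast at this
        exact this
      have he0 : (De.e χ : ℂ) ≠ 0 := Nat.cast_ne_zero.2 (De.e_ne_zero hχB)
      have hg0 : (De.g : ℂ) ≠ 0 := Nat.cast_ne_zero.2 De.g_pos.ne'
      push_cast
      field_simp
      linear_combination (Dz.g : ℂ) ^ 2 * (a χ : ℂ) * h2, ← mul_sum, ← Int.cast_sum, ← hsB,
      hea, Int.cast_zero, mul_zero, mul_zero, mul_zero] at h1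
    refine local_pairs_ne_zero h hzq hindz.1 hlez hsz ?_
    rw [← h1]
    exact (H22.Sub.blockPart_congr h.hM hindz.1
      (fun w hw => by rw [H22.InvolPairs.npair_eq_pairs hz2 hw]; congr!)
      (by rw [orderOf_one]; exact Nat.prime_two.not_dvd_one)).symm
  · -- the congruence
    have haQ : a Q ^ 2 = 1 := haR1 Q hQ (fun hne => hcase (hne ▸ haR))
    have heQ3 : De.e Q = 3 := by
      have h1 : (De.e Q) ^ 2 = 3 ^ 2 := by exact_mod_cast heQ
      exact Nat.pow_left_injective two_ne_zero h1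
    have he1 : ∀ χ ∈ H, χ ≠ Q → De.e χ = 1 := fun χ hχ hne => by
      have h1 : (De.e χ) ^ 2 = 1 ^ 2 := by exact_mod_cast heQ1 χ hχ hne
      exact Nat.pow_left_injective two_ne_zero h1
    have he2 : ∀ χ ∈ sB, χ ∉ H → De.e χ = 2 := fun χ hχ hn => by
      have h1 : (De.e χ) ^ 2 = 2 ^ 2 := by exact_mod_cast he4 χ hχ hn
      exact Nat.pow_left_injective two_ne_zero h1
    let v : IrrCharacter G → ℤ := fun χ =>
      if χ = Q then a χ ^ 2 else if χ ∈ H then 3 * a χ ^ 2 else 6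
    have hev : ∀ χ ∈ sB, (De.e χ : ℤ) * v χ = 3 * a χ ^ 2 := by
      intro χ hχ
      simp only [v]
      split_ifs with h1 h2
      · rw [h1, heQ3]; push_cast; ring
      · rw [he1 χ h2 h1]; push_cast; ring
      · rw [he2 χ hχ h2, ha4 χ hχ h2]; norm_num
    -- the weighted average
    have hrest : ∀ χ ∈ H.erase Q, c χ = -c Q := by
      have h1 : ∑ χ ∈ H.erase Q, c χ = -3 * c Q := by
        have h2 := hec
        rw [← sum_sdiff hHs, sum_eq_zero (fun χ hχ => by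
          rw [hc0 χ (mem_sdiff.1 hχ).1 (mem_sdiff.1 hχ).2, mul_zero]), zero_add,
          ← add_sum_erase _ _ hQ, heQ3, sum_congr rfl fun χ hχ => show (De.e χ : ℤ) * c χ = c χ by
            rw [he1 χ (mem_of_mem_erase hχ) (ne_of_mem_erase hχ)]; simp] at h2
        push_cast at h2
        linarith
      have hQ1 := hc1 Q hQ
      have h2 : ∀ χ ∈ H.erase Q, c χ * (-c Q) ≤ 1 := fun χ hχ => by
        nlinarith [sq_nonneg (c χ + c Q), hc1 χ (mem_of_mem_erase hχ)]
      have h3 : ∑ χ ∈ H.erase Q, c χ * (-c Q) = ∑ _χ ∈ H.erase Q, (1 : ℤ) := by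
        rw [← sum_mul, h1, sum_const, card_erase_of_mem hQ, hH4]
        push_cast
        rw [nsmul_one]
        push_cast
        linear_combination 3 * hQ1
      intro χ hχ
      have h4 := (sum_eq_sum_iff_of_le h2).1 h3 χ hχ
      linear_combination (-c Q) * h4 - c χ * hQ1
    have hvc : ∑ χ ∈ sB, v χ * c χ = -32 * c Q := by
      have h12 : ∑ χ ∈ H.erase Q, a χ ^ 2 = 11 := by
        have h1 : ∑ χ ∈ H, a χ ^ 2 = 12 := by
          rw [← add_sum_erase _ _ hR, haR, sum_congr rfl fun χ hχ =>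
            haR1 χ (mem_of_mem_erase hχ) (ne_of_mem_erase hχ), sum_const, card_erase_of_mem hR, hH4]
          norm_num
        rw [← add_sum_erase _ _ hQ, haQ] at h1
        linarith
      rw [← sum_sdiff hHs, sum_eq_zero (fun χ hχ => by
          rw [hc0 χ (mem_sdiff.1 hχ).1 (mem_sdiff.1 hχ).2, mul_zero]), zero_add,
        ← add_sum_erase _ _ hQ, sum_congr rfl fun χ hχ => show v χ * c χ = (-3 * c Q) * a χ ^ 2 by
          simp only [v]
          rw [if_neg (ne_of_mem_erase hχ), if_pos (mem_of_mem_erase hχ), hrest χ hχ]; ring,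
        ← mul_sum, h12]
      simp only [v, if_true, haQ]
      ring
    -- the divisibility
    set X := ∑ χ ∈ sB, (v χ : ℂ) * H22.One.col Dr 1 χ with hX
    have hdr := (h.rank_gen hindr.1 hler).1
    have hT := H22.InvolPairs.sum_npair_phi h.hM hz2 hrord hindr Dr
    have hR' := H22.InvolPairs.memRing_npair_phi h.hM hz2 h.hord (by omega) hindr.1 Dr hdr
    rw [hT, hdr] at hR'
    have hS : ∑ χ ∈ sB, (χ : G → ℂ) z ^ 2 / (χ : G → ℂ) 1 * H22.One.col Dr 1 χ =
        (Dz.g : ℂ) ^ 2 / (3 * (De.g : ℂ)) * X := by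
      rw [hX, mul_sum]
      refine sum_congr rfl fun χ hχ => ?_
      have hχB := H22.mem_blockFinset.1 hχ
      have h2 : (De.e χ : ℂ) * (v χ : ℂ) = 3 * (a χ : ℂ) ^ 2 := by
        have := congrArg (Int.cast (R := ℂ)) (hev χ hχ)
        push_cast at this
        exact this
      have he0 : (De.e χ : ℂ) ≠ 0 := Nat.cast_ne_zero.2 (De.e_ne_zero hχB)
      have hg0 : (De.g : ℂ) ≠ 0 := Nat.cast_ne_zero.2 De.g_pos.ne'
      rw [hz χ hχB, h1χ χ hχB]
      field_simp
      linear_combination -((Dz.g : ℂ) ^ 2) * H22.One.col Dr 1 χ * h2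
    rw [← hsB, hS] at hR'
    obtain ⟨η, hη⟩ := H20.block_nonempty hindz.1
    obtain ⟨θ, hθ⟩ := H20.block_nonempty hindr.1
    obtain ⟨χ₀, hχ₀⟩ := H20.block_nonempty h.hB
    have ecz := H22.blockDefect_add_blockExp (p := 2) hη
    have ecr := H22.blockDefect_add_blockExp (p := 2) hθ
    have eg := H22.blockDefect_add_blockExp (p := 2) hχ₀
    rw [hdz] at ecz
    rw [hdr] at ecr
    rw [h.card_D.2] at eg
    have hidx : (C[z].index).factorization 2 + (Nat.card C[z]).factorization 2 =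
        (Nat.card G).factorization 2 := by
      rw [← C[z].index_mul_card, Nat.factorization_mul Subgroup.FiniteIndex.index_ne_zero
        Nat.card_pos.ne', Finsupp.add_apply]
    have key : ∀ k : ℕ, (k : ℂ) = (2 : ℂ) ^ k.factorization 2 *
        ((k / 2 ^ k.factorization 2 : ℕ) : ℂ) := fun k => by
      exact_mod_cast (Nat.ordProj_mul_ordCompl_eq_self k 2).symm
    have hodd : ∀ k : ℕ, k ≠ 0 → ¬ 2 ∣ k / 2 ^ k.factorization 2 := fun k hk =>
      Nat.not_dvd_ordCompl Nat.prime_two hk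
    set I := C[z].index / 2 ^ (C[z].index).factorization 2 with hIdef
    set Cr := Nat.card C[r] / 2 ^ (Nat.card C[r]).factorization 2 with hCrdef
    set Gz := Dz.g / 2 ^ Dz.g.factorization 2 with hGzdef
    set GG := Nat.card G / 2 ^ (Nat.card G).factorization 2 with hGGdef
    set G0 := De.g / 2 ^ De.g.factorization 2 with hG0def
    have hI : ¬ 2 ∣ I ^ 2 * Cr * Gz ^ 2 := by
      have h1 := hodd _ (Subgroup.FiniteIndex.index_ne_zero (H := C[z]))
      have h2 := hodd _ (Nat.card_pos (α := C[r])).ne'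
      have h3 := hodd _ Dz.g_pos.ne'
      rw [← hIdef] at h1
      rw [← hCrdef] at h2
      rw [← hGzdef] at h3
      have hp := Nat.prime_two
      intro h4
      rcases hp.dvd_mul.1 h4 with h5 | h5
      · rcases hp.dvd_mul.1 h5 with h6 | h6
        · exact h1 (hp.dvd_of_dvd_pow h6)
        · exact h2 h6
      · exact h3 (hp.dvd_of_dvd_pow h5)
    have hXR : MemLocalRing M (X / (2 : ℂ) ^ (2 * m)) := by
      have hI0 : ((I ^ 2 * Cr * Gz ^ 2 : ℕ) : ℂ) ≠ 0 :=
        Nat.cast_ne_zero.2 fun h0 => hI (h0 ▸ dvd_zero 2)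
      have h5 := H20.memRing_mul (H20.memRing_mul (H20.inv_natCast_memRing h.hM hI)
        (H20.memRing_natCast (3 * GG * G0))) hR'
      convert h5 using 1
      have hGG : (GG : ℂ) ≠ 0 := Nat.cast_ne_zero.2 fun h0 =>
        hodd _ (Nat.card_pos (α := G)).ne' (by rw [← hGGdef, h0]; exact dvd_zero 2)
      have hG0 : (G0 : ℂ) ≠ 0 := Nat.cast_ne_zero.2 fun h0 =>
        hodd _ De.g_pos.ne' (by rw [← hG0def, h0]; exact dvd_zero 2)
      obtain ⟨u, hu⟩ : ∃ u, (Nat.card C[z]).factorization 2 = u + (m + 1) :=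
        ⟨blockExp 2 bz, by omega⟩
      obtain ⟨t, ht⟩ : ∃ t, (Nat.card C[r]).factorization 2 = t + 1 :=
        ⟨blockExp 2 br + (m - 1), by omega⟩
      obtain ⟨⟨hI1, hC1⟩, hG1⟩ : ((I : ℂ) ≠ 0 ∧ (Cr : ℂ) ≠ 0) ∧ (Gz : ℂ) ≠ 0 := by
        simpa [mul_eq_zero, not_or] using hI0
      have hbz : blockExp 2 bz = u := by omega
      have hbB : blockExp 2 B = (C[z].index).factorization 2 + u := by omega
      push_cast at hI0 ⊢
      rw [key C[z].index, key (Nat.card G), key (Nat.card C[r]), key Dz.g, key De.g, ← hIdef,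
        ← hCrdef, ← hGzdef, ← hGGdef, ← hG0def, Dz.fac, De.fac, hbz, hbB, ← hidx, hu, ht,
        Nat.add_sub_cancel]
      generalize (C[z].index).factorization 2 = i
      have h2c : (2 : ℂ) ≠ 0 := two_ne_zero
      field_simp
      ring
    -- average
    obtain ⟨a', rfl⟩ : ∃ a', m = a' + 1 := ⟨m - 1, by omega⟩
    set Pv : ℤ[X] := ∑ χ ∈ sB, Polynomial.C (v χ) * P χ
    have hPv : ∀ μ : ℂ, aeval μ Pv = ∑ χ ∈ sB, (v χ : ℂ) * aeval μ (P χ) := fun μ => by
      rw [map_sum]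
      exact sum_congr rfl fun χ _ => by simp
    have hPX : aeval ζ Pv = X := by
      rw [hPv, hX]; exact sum_congr rfl fun χ _ => by rw [hcol]
    obtain ⟨c', hc', -⟩ := H19.Dyadic.exists_avg h.hM hζ (2 * (a' + 1)) Pv
      (by rw [hPX]; exact hXR)
      (by
        rw [hPv, map_sum]
        exact sum_congr rfl fun χ _ => by rw [map_mul, map_intCast, hreal])
    simp only [hPv] at hc'
    rw [sum_comm, sum_congr rfl fun χ hχ => show
      ∑ j ∈ H19.units' (2 ^ (a' + 1)), (v χ : ℂ) * aeval (ζ ^ j) (P χ) =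
        ((2 ^ a' : ℕ) : ℂ) * ((v χ * c χ : ℤ) : ℂ) by
      rw [← mul_sum, havg χ (H22.mem_blockFinset.1 hχ), Nat.add_sub_cancel]; push_cast; ring,
      ← mul_sum, ← Int.cast_sum, hvc] at hc'
    have h6 : (-32 * c Q : ℤ) = 2 ^ (2 * (a' + 1)) * c' := by
      have := mul_left_cancel₀ (Nat.cast_ne_zero.2 (pow_ne_zero a' two_ne_zero)) hc'
      exact_mod_cast this
    have hm3 : 2 ≤ a' := by
      by_contra hlt
      have h7 := Finset.card_le_card hHs
      rw [hH4, hsB, ← H22.natCard_block, hcard, Nat.add_sub_cancel,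
        show a' = 1 by omega] at h7
      norm_num at h7
    refine hcx Q hQ ?_
    rw [show 2 * (a' + 1) = 6 + (2 * a' - 4) by omega, pow_add] at h6
    refine ⟨-(2 ^ (2 * a' - 4) * c'), mul_left_cancel₀ (show (-32 : ℤ) ≠ 0 by norm_num) ?_⟩
    linear_combination h6

/-- **Brauer**: the invariants of a 2-block with dihedral defect group. -/
theorem invariants (h : H12.DihPairs.Dih M B D f0 r s m) :
    Nat.card B = 2 ^ (m - 1) + 3 ∧ 1 ≤ blockRank 2 B ∧
      blockRank 2 B + 2 ^ (m - 1) ≤ Nat.card B ∧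
      Nat.card {χ : IrrCharacter G // χ ∈ B ∧ blockHeight 2 B (χ : G → ℂ) = 0} = 4 ∧
      ∀ χ ∈ B, blockHeight 2 B (χ : G → ℂ) ≤ 1 := by
  classical
  haveI : Fact (Nat.Prime 2) := ⟨Nat.prime_two⟩
  have hl1 := H19.CentralRank.one_le_blockRank (p := 2) (H20.block_nonempty h.hB)
  have hle := rank_add_le h
  haveI : ∀ x : G, Fintype C[x] := fun x => Fintype.ofFinite _
  obtain ⟨bz, hindz, hlez⟩ := exists_sub h (pow_mem h.rD (2 ^ (m - 1)))
  obtain ⟨hdz, hlz⟩ := h.rank_centre hindz.1 hlez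
  obtain ⟨Dz⟩ := H22.One.exists_data h.hM hindz.1 hlz
  obtain ⟨br, hindr, hler⟩ := exists_sub h h.rD
  obtain ⟨Dr⟩ := H22.One.exists_data h.hM hindr.1 (h.rank_gen hindr.1 hler).2
  obtain ⟨a, -, hasum, haodd, haeven, hane, hah⟩ := exists_zcol h hindz hdz (by
    have h2 := pow_orderOf_eq_one (r ^ 2 ^ (m - 1))
    rwa [h.orderOf_centre] at h2) Dz
  obtain ⟨-, -, c, -, -, -, -, hc4, hcodd, -⟩ := exists_rcol h hindr hler Dr
  set H := (H22.blockFinset B).filter
    (fun χ : IrrCharacter G => blockHeight 2 B (χ : G → ℂ) = 0) with hH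
  have hmemH : ∀ χ, χ ∈ H ↔ χ ∈ B ∧ blockHeight 2 B (χ : G → ℂ) = 0 := fun χ => by
    rw [hH, mem_filter, H22.mem_blockFinset]
  obtain ⟨χ₀, hχ₀, he₀⟩ := H22.exists_height_zero (p := 2) (H20.block_nonempty h.hB)
  obtain ⟨hH4, -, -, ha4, hcases⟩ := H22.DihCount.count (H22.blockFinset B) H (filter_subset _ _)
    ⟨χ₀, (hmemH χ₀).2 ⟨hχ₀, Nat.sub_eq_zero_of_le he₀.le⟩⟩ c a
    (fun χ hχ => hcodd χ ((hmemH χ).1 hχ).1 ((hmemH χ).1 hχ).2) hc4
    (fun χ hχ => haodd χ ((hmemH χ).1 hχ).1 ((hmemH χ).1 hχ).2)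
    (fun χ hχ hn => haeven χ (H22.mem_blockFinset.1 hχ) fun h0 =>
      hn ((hmemH χ).2 ⟨H22.mem_blockFinset.1 hχ, h0⟩))
    (fun χ hχ _ => hane χ (H22.mem_blockFinset.1 hχ)) hasum
    (by rw [← H22.natCard_block]; omega)
  rw [← H22.natCard_block] at hcases
  rcases hcases with ⟨hk, -⟩ | ⟨hk, -⟩
  · refine ⟨hk, hl1, hle, ?_, fun χ hχ => ?_⟩
    · rw [Nat.card_eq_fintype_card, Fintype.card_subtype, ← hH4]
      congr 1
      ext χ
      rw [mem_filter, hmemH]
      simp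
    · by_cases hn : χ ∈ H
      · rw [((hmemH χ).1 hn).2]; exact Nat.zero_le _
      · exact hah χ hχ (ha4 χ (H22.mem_blockFinset.2 hχ) hn)
  · exact (not_deficit h rfl hindz hlez hdz Dz hindr hler Dr hk).elim

end H22.DihBlock
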