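import Cfsg.Agent.H19.Dyadic

/-!
# The Galois average of a real column over `ℤ[ζ]`, `ζ` of two-power order

A real column of squared norm `2 ^ (a + 1)`, orthogonal to its conjugates other than itself,
averages to an integral vector of squared norm four, congruent to it modulo `M`.
-/

set_option autoImplicit false
set_option linter.unusedSectionVars false
set_option linter.style.haveILetI false

open Cfsg Polynomial
open scoped ComplexConjugate

namespace H22.Dyadic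

variable {ι : Type*} {M : Ideal AlgInt} [M.IsPrime]

theorem exists_avg_column (hM : IsPModular 2 M) {a : ℕ} (ha : 1 ≤ a) {ζ : ℂ}
    (hζ : IsPrimitiveRoot ζ (2 ^ (a + 1))) (s : Finset ι) (P : ι → ℤ[X])
    (hreal : ∀ i ∈ s, conj (aeval ζ (P i)) = aeval ζ (P i))
    (hone : ∀ i ∈ s, aeval (ζ ^ (2 ^ (a + 1) - 1)) (P i) = aeval ζ (P i))
    (hnorm : ∑ i ∈ s, aeval ζ (P i) * aeval ζ (P i) = ((2 : ℂ) ^ (a + 1)))
    (horth : ∀ j ∈ H19.units' (2 ^ (a + 1)), j ≠ 1 → j ≠ 2 ^ (a + 1) - 1 →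
      ∑ i ∈ s, aeval ζ (P i) * aeval (ζ ^ j) (P i) = 0) :
    ∃ c : ι → ℤ, (∀ i ∈ s, ∑ j ∈ H19.units' (2 ^ (a + 1)), aeval (ζ ^ j) (P i) =
        ((2 ^ a : ℕ) : ℂ) * (c i : ℂ)) ∧
      (∀ i ∈ s, MemLocalIdeal M (aeval ζ (P i) - (c i : ℂ))) ∧
      ∑ i ∈ s, c i ^ 2 = 4 ∧
      ∀ v : ι → ℤ, ∑ i ∈ s, (v i : ℂ) * aeval ζ (P i) = 0 → ∑ i ∈ s, v i * c i = 0 := by
  classical
  set N := 2 ^ (a + 1) with hN
  have hNpos : 0 < N := by positivity
  have h4 : 4 ≤ N := by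
    calc 4 = 2 ^ 2 := rfl
      _ ≤ N := Nat.pow_le_pow_right (by norm_num) (by omega)
  have hc : ∀ i, ∃ c : ℤ, i ∈ s →
      ∑ j ∈ H19.units' N, aeval (ζ ^ j) (P i) = ((2 ^ a : ℕ) : ℂ) * (c : ℂ) ∧
      MemLocalIdeal M (aeval ζ (P i) - (c : ℂ)) := by
    intro i
    by_cases hi : i ∈ s
    · obtain ⟨c, h1, h2⟩ := H19.Dyadic.exists_avg hM hζ 0 (P i)
        (by rw [pow_zero, div_one]; exact H19.Dyadic.memRing_aeval (H19.Dyadic.memRing_zeta hζ) _)
        (hreal i hi)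
      simp only [pow_zero, div_one, one_mul] at h1 h2
      exact ⟨c, fun _ => ⟨h1, h2⟩⟩
    · exact ⟨0, fun h => absurd h hi⟩
  choose c hc using hc
  have havg : ∀ v : ι → ℤ, ∀ t : ℤ, ∑ i ∈ s, (v i : ℂ) * aeval ζ (P i) = (t : ℂ) →
      ∑ i ∈ s, (v i : ℂ) * (((2 ^ a : ℕ) : ℂ) * (c i : ℂ)) = ((2 ^ a : ℕ) : ℂ) * (t : ℂ) := by
    intro v t h
    have hQ : ∀ μ : ℂ, aeval μ (∑ i ∈ s, Polynomial.C (v i) * P i) =
        ∑ i ∈ s, (v i : ℂ) * aeval μ (P i) := by
      intro μ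
      rw [map_sum]
      exact Finset.sum_congr rfl fun i _ => by simp
    have hall : ∀ j ∈ H19.units' N, ∑ i ∈ s, (v i : ℂ) * aeval (ζ ^ j) (P i) = (t : ℂ) := by
      intro j hj
      have hμ : IsPrimitiveRoot (ζ ^ j) N :=
        hζ.pow_of_coprime j (H19.mem_units'.1 hj).2.symm
      have h1 := H19.Dyadic.aeval_conj_eq hNpos hζ hμ
        (P := ∑ i ∈ s, Polynomial.C (v i) * P i) (Q := Polynomial.C t)
        (by rw [hQ, h, aeval_C]; simp)
      rw [hQ, aeval_C] at h1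
      simpa using h1
    calc ∑ i ∈ s, (v i : ℂ) * (((2 ^ a : ℕ) : ℂ) * (c i : ℂ))
        = ∑ i ∈ s, ∑ j ∈ H19.units' N, (v i : ℂ) * aeval (ζ ^ j) (P i) :=
          Finset.sum_congr rfl fun i hi => by rw [← Finset.mul_sum, (hc i hi).1]
      _ = ∑ j ∈ H19.units' N, (t : ℂ) := by
          rw [Finset.sum_comm]
          exact Finset.sum_congr rfl hall
      _ = ((2 ^ a : ℕ) : ℂ) * (t : ℂ) := by
          rw [Finset.sum_const, H19.card_units', hN, Nat.totient_prime_pow Nat.prime_two (by omega),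
            nsmul_eq_mul, Nat.add_sub_cancel]
          simp
  have h2a : ((2 ^ a : ℕ) : ℂ) ≠ 0 := by exact_mod_cast (pow_ne_zero a two_ne_zero)
  refine ⟨c, fun i hi => (hc i hi).1, fun i hi => (hc i hi).2, ?_, fun v hv => ?_⟩
  · have h1 : 1 ∈ H19.units' N := H19.mem_units'.2 ⟨by omega, Nat.coprime_one_right N⟩
    have hm : N - 1 ∈ H19.units' N := H19.mem_units'.2 ⟨by omega,
      (Nat.coprime_self_sub_right (m := 1) (n := N) (by omega)).2 (Nat.coprime_one_right N)⟩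
    have hsum : ∑ i ∈ s, (c i : ℂ) * aeval ζ (P i) = 4 := by
      have h : ∑ i ∈ s, aeval ζ (P i) * (((2 ^ a : ℕ) : ℂ) * (c i : ℂ)) =
          (2 : ℂ) ^ (a + 1) + (2 : ℂ) ^ (a + 1) := by
        calc ∑ i ∈ s, aeval ζ (P i) * (((2 ^ a : ℕ) : ℂ) * (c i : ℂ))
              = ∑ j ∈ H19.units' N, ∑ i ∈ s, aeval ζ (P i) * aeval (ζ ^ j) (P i) := by
                rw [Finset.sum_comm]
                exact Finset.sum_congr rfl fun i hi => by rw [← Finset.mul_sum, (hc i hi).1]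
            _ = (2 : ℂ) ^ (a + 1) + (2 : ℂ) ^ (a + 1) := by
                rw [← Finset.add_sum_erase _ _ h1,
                  Finset.sum_eq_single_of_mem (N - 1) (Finset.mem_erase.2 ⟨by omega, hm⟩)
                    (fun j hj hne => horth j (Finset.mem_of_mem_erase hj)
                      (Finset.ne_of_mem_erase hj) hne),
                  pow_one, hnorm,
                  Finset.sum_congr rfl (fun i hi => show aeval ζ (P i) * aeval (ζ ^ (N - 1)) (P i) =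
                    aeval ζ (P i) * aeval ζ (P i) by rw [hone i hi]), hnorm]
      apply mul_left_cancel₀ h2a
      rw [Finset.mul_sum]
      calc ∑ i ∈ s, ((2 ^ a : ℕ) : ℂ) * ((c i : ℂ) * aeval ζ (P i))
          = ∑ i ∈ s, aeval ζ (P i) * (((2 ^ a : ℕ) : ℂ) * (c i : ℂ)) :=
            Finset.sum_congr rfl fun i _ => by ring
        _ = _ := h
        _ = _ := by push_cast; ring
    have h := havg c 4 (by rw [hsum]; norm_num)
    have h' : ((2 ^ a : ℕ) : ℂ) * ((∑ i ∈ s, c i ^ 2 : ℤ) : ℂ) =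
        ((2 ^ a : ℕ) : ℂ) * ((4 : ℤ) : ℂ) := by
      rw [← h]
      push_cast
      rw [Finset.mul_sum]
      exact Finset.sum_congr rfl fun i _ => by ring
    exact_mod_cast mul_left_cancel₀ h2a h'
  · have h := havg v 0 (by rw [hv]; simp)
    have h' : ((2 ^ a : ℕ) : ℂ) * ((∑ i ∈ s, v i * c i : ℤ) : ℂ) =
        ((2 ^ a : ℕ) : ℂ) * ((0 : ℤ) : ℂ) := by
      rw [← h]
      push_cast
      rw [Finset.mul_sum]
      exact Finset.sum_congr rfl fun i _ => by ring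
    exact_mod_cast mul_left_cancel₀ h2a h'

end H22.Dyadic
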