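import Cfsg.Agent.H12.DihPairs
import Cfsg.Agent.H22.PairOrth
import Cfsg.Agent.H22.DyadicColumn

/-!
# Subsections and columns of a 2-block with dihedral defect group

The rotation subsections, the major column at the central involution and the Galois average of
the column at a generating rotation.
-/

set_option autoImplicit false
set_option linter.unusedSectionVars false
set_option linter.style.haveILetI false

open Cfsg Finset Polynomial
open scoped MonoidAlgebra ComplexConjugate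

namespace H22.DihBlock

universe u

variable {G : Type u} [Group G] [Fintype G] {M : Ideal AlgInt} [M.IsPrime]
  [CharP (H20.k M) 2] [IsAlgClosed (H20.k M)]

local notation "C[" x "]" => Subgroup.centralizer ({x} : Set G)

variable {B : Set (IrrCharacter G)} {D : Subgroup G} {f0 : (H20.k M)[G]} {r s : G} {m : ℕ}

theorem exists_orderOf (h : H12.DihPairs.Dih M B D f0 r s m) {x : G} (hx : x ∈ D) :
    ∃ k : ℕ, orderOf x = 2 ^ k := by
  obtain ⟨k, hk⟩ := IsPGroup.iff_orderOf.1 h.hmax.1.1 ⟨x, hx⟩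
  exact ⟨k, by rwa [Subgroup.orderOf_mk] at hk⟩

/-- The block below the maximal pair at an element of `D`. -/
theorem exists_sub (h : H12.DihPairs.Dih M B D f0 r s m) {x : G} (hx : x ∈ D) :
    ∃ b : Set (IrrCharacter C[x]), IsInducedBlock M C[x] b B ∧
      H23.Le 2 (Subgroup.zpowers x, H23.eG M C[x] b) (D, f0) := by
  haveI : Fact (Nat.Prime 2) := ⟨Nat.prime_two⟩
  obtain ⟨f, hf⟩ := H23.exists_le 2 h.hmax.1 (Subgroup.zpowers_le.2 hx)
  obtain ⟨b, hb, he⟩ := H20.Klein.exists_block (hf.pair_left 2 h.hmax.1)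
  simp only at he
  rw [← he] at hf
  exact ⟨b, H20.Klein.induced_of_inBlk h.hM h.hB (exists_orderOf h hx) hb
    ((hf.inBlk_iff 2 (H23.cidem_eB h.hB)).1 h.hmax.2.1), hf⟩

theorem two_pow_pred (h : H12.DihPairs.Dih M B D f0 r s m) : 2 * 2 ^ (m - 1) = 2 ^ m := by
  rw [← pow_succ']; congr 1; have := h.hm; omega

theorem two_le_half (h : H12.DihPairs.Dih M B D f0 r s m) : 2 ≤ 2 ^ (m - 1) := by
  calc 2 = 2 ^ 1 := (pow_one 2).symm
    _ ≤ 2 ^ (m - 1) := Nat.pow_le_pow_right (by norm_num) (by have := h.hm; omega)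

theorem pow_ne_one (h : H12.DihPairs.Dih M B D f0 r s m) {i : ℕ} (hi : i < 2 ^ (m - 1)) :
    r ^ (i + 1) ≠ 1 := by
  intro h1
  have h2 := Nat.le_of_dvd (by omega) (h.hord ▸ orderOf_dvd_of_pow_eq_one h1)
  have := two_pow_pred h
  omega

/-- The rotation subsections are pairwise not conjugate. -/
theorem conj_pow_eq (h : H12.DihPairs.Dih M B D f0 r s m) {i j : ℕ} (hi : i < 2 ^ (m - 1))
    (hj : j < 2 ^ (m - 1)) {f f' : (H20.k M)[G]}
    (hf : H23.Le 2 (Subgroup.zpowers (r ^ (i + 1)), f) (D, f0))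
    (hf' : H23.Le 2 (Subgroup.zpowers (r ^ (j + 1)), f') (D, f0)) {g : G}
    (hg : g * r ^ (i + 1) * g⁻¹ = r ^ (j + 1)) (hgf : H23.cj g f = f') : i = j := by
  haveI : Fact (Nat.Prime 2) := ⟨Nat.prime_two⟩
  have hord : orderOf (r ^ (j + 1)) = orderOf (r ^ (i + 1)) := by
    rw [← hg, ← MulAut.conj_apply, MulEquiv.orderOf_eq]
  have hz : Subgroup.zpowers (r ^ (j + 1)) = Subgroup.zpowers (r ^ (i + 1)) :=
    H28.PG.zpowers_eq_of_orderOf_eq (Subgroup.npow_mem_zpowers r _)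
      (Subgroup.npow_mem_zpowers r _) hord
  rw [hz] at hf'
  obtain rfl : f' = f := H23.le_unique 2 h.hmax.1 hf' hf
  have hgn : g ∈ Subgroup.normalizer (Subgroup.zpowers (r ^ (i + 1)) : Set G) := by
    apply H23.mem_normalizer_of_cjS_eq
    rw [H20.Klein.cjS_zpowers, hg, hz]
  have hpow := two_pow_pred h
  rcases h.fusion_pow (Subgroup.npow_mem_zpowers r _) hf ⟨hgn, hgf⟩ with h1 | h1 <;> rw [hg] at h1
  · have h2 := pow_injOn_Iio_orderOf (x := r) (by rw [Set.mem_Iio, h.hord]; omega)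
      (by rw [Set.mem_Iio, h.hord]; omega) h1
    omega
  · have h2 : r ^ (j + 1 + (i + 1)) = 1 := by rw [pow_add, h1, inv_mul_cancel]
    obtain ⟨c, hc⟩ := h.hord ▸ orderOf_dvd_of_pow_eq_one h2
    rcases Nat.lt_or_ge c 2 with hc2 | hc2
    · interval_cases c <;> omega
    · nlinarith

/-- At least `2 ^ (m - 1)` subsections are nontrivial. -/
theorem rank_add_le (h : H12.DihPairs.Dih M B D f0 r s m) :
    blockRank 2 B + 2 ^ (m - 1) ≤ Nat.card B := by
  haveI : Fact (Nat.Prime 2) := ⟨Nat.prime_two⟩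
  choose b hb hle using fun i : Fin (2 ^ (m - 1)) => exists_sub h (pow_mem h.rD ((i : ℕ) + 1))
  have := H22.Sub.rank_add_card_le h.hM h.hB (fun i : Fin (2 ^ (m - 1)) => r ^ ((i : ℕ) + 1)) b
    (fun i => exists_orderOf h (pow_mem h.rD _)) (fun i => pow_ne_one h i.2) hb
    (fun i j hij g hg hgf => hij (Fin.ext (conj_pow_eq h i.2 j.2 (hle i) (hle j) hg hgf)))
  rwa [Fintype.card_fin] at this

/-- When no room is left, every subsection is a rotation subsection. -/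
theorem exists_rotation (h : H12.DihPairs.Dih M B D f0 r s m)
    (hk : Nat.card B ≤ blockRank 2 B + 2 ^ (m - 1)) {y : G} (hy : ∃ k : ℕ, orderOf y = 2 ^ k)
    (hy1 : y ≠ 1) {c : Set (IrrCharacter C[y])} (hc : IsInducedBlock M C[y] c B) :
    ∃ i < 2 ^ (m - 1), ∃ (g : G) (b : Set (IrrCharacter C[r ^ (i + 1)])),
      H23.Le 2 (Subgroup.zpowers (r ^ (i + 1)), H23.eG M C[r ^ (i + 1)] b) (D, f0) ∧
        g * y * g⁻¹ = r ^ (i + 1) ∧
        H23.cj g (H23.eG M C[y] c) = H23.eG M C[r ^ (i + 1)] b := by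
  classical
  haveI : Fact (Nat.Prime 2) := ⟨Nat.prime_two⟩
  choose b hb hle using fun i : Fin (2 ^ (m - 1)) => exists_sub h (pow_mem h.rD ((i : ℕ) + 1))
  by_contra hcon
  push Not at hcon
  let x' : Option (Fin (2 ^ (m - 1))) → G := fun o => o.elim y fun i => r ^ ((i : ℕ) + 1)
  let b' : ∀ o, Set (IrrCharacter C[x' o]) := fun o => match o with
    | none => c
    | some i => b i
  have := H22.Sub.rank_add_card_le h.hM h.hB x' b'
    (fun o => match o with | none => hy | some i => exists_orderOf h (pow_mem h.rD _))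
    (fun o => match o with | none => hy1 | some i => pow_ne_one h i.2)
    (fun o => match o with | none => hc | some i => hb i)
    (fun o o' hne g hg hgf => by
      rcases o with _ | i <;> rcases o' with _ | j
      · exact hne rfl
      · exact hcon j j.2 g (b j) (hle j) hg hgf
      · refine hcon i i.2 g⁻¹ (b i) (hle i) ?_ ?_
        · simp only [x', Option.elim] at hg
          rw [← hg]; group
        · show H23.cj g⁻¹ (H23.eG M C[y] c) = _
          rw [show H23.eG M C[y] c = H23.cj g (H23.eG M C[r ^ ((i : ℕ) + 1)] (b i)) from hgf.symm,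
            H23.cj_inv_cancel]
      · exact hne (congrArg some (Fin.ext (conj_pow_eq h i.2 j.2 (hle i) (hle j) hg hgf))))
  rw [Fintype.card_option, Fintype.card_fin] at this
  omega

/-- The major column at the central involution. -/
theorem exists_zcol (h : H12.DihPairs.Dih M B D f0 r s m) {x : G} [Fintype C[x]]
    {b : Set (IrrCharacter C[x])} (hind : IsInducedBlock M C[x] b B)
    (hd : blockDefect 2 b = m + 1) (hx : x ^ 2 = 1) (Dz : H22.One.Data 2 b) :
    ∃ a : IrrCharacter G → ℤ, (∀ χ, H22.One.col Dz 1 χ = (a χ : ℂ)) ∧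
      ∑ χ ∈ H22.blockFinset B, a χ ^ 2 = 4 * ((2 ^ (m - 1) : ℕ) : ℤ) ∧
      (∀ χ ∈ B, blockHeight 2 B (χ : G → ℂ) = 0 → ¬ (2 : ℤ) ∣ a χ) ∧
      (∀ χ ∈ B, blockHeight 2 B (χ : G → ℂ) ≠ 0 → (2 : ℤ) ∣ a χ) ∧
      (∀ χ ∈ B, a χ ≠ 0) ∧
      ∀ χ ∈ B, a χ ^ 2 = 4 → blockHeight 2 B (χ : G → ℂ) ≤ 1 := by
  classical
  haveI : Fact (Nat.Prime 2) := ⟨Nat.prime_two⟩
  choose a ha using fun χ => H22.One.exists_col_int (G := G) Dz hx χ
  have hord : ∃ k : ℕ, orderOf x = 2 ^ k := by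
    obtain ⟨j, -, hj⟩ := (Nat.dvd_prime_pow Nat.prime_two).1
      (orderOf_dvd_of_pow_eq_one (show x ^ 2 ^ 1 = 1 by rw [pow_one, hx]))
    exact ⟨j, hj⟩
  obtain ⟨S⟩ := H22.Contrib.exists_setup h.hM hord hind
  have haval : ∀ χ ψ, S.aval 1 χ ψ = ((a χ * a ψ : ℤ) : ℂ) := fun χ ψ => by
    rw [H22.One.aval_eq Dz S, ha, ha, map_intCast]; push_cast; rfl
  have hq : blockDefect 2 b = blockDefect 2 B := by rw [hd, h.card_D.2]
  obtain ⟨χ₀, hχ₀, he₀⟩ := H22.exists_height_zero (p := 2) (H20.block_nonempty h.hB)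
  have h0 : blockHeight 2 B (χ₀ : G → ℂ) = 0 := Nat.sub_eq_zero_of_le he₀.le
  have hodd : ∀ χ ∈ B, blockHeight 2 B (χ : G → ℂ) = 0 → ¬ (2 : ℤ) ∣ a χ := by
    intro χ hχ hh hdvd
    apply S.aval_not_memIdeal hχ hχ hh hh
    rw [haval, H20.intCast_memIdeal_iff h.hM]
    exact dvd_mul_of_dvd_left hdvd _
  have hdvd : ∀ χ ∈ B, (2 : ℤ) ^ blockHeight 2 B (χ : G → ℂ) ∣ a χ := by
    intro χ hχ
    obtain ⟨w, hw, hweq, -⟩ := S.exists_aval_eq_pow_mul hq hχ χ₀
    rw [haval] at hweq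
    have h1 : MemLocalRing M (((a χ * a χ₀ : ℤ) : ℂ) /
        ((2 : ℕ) : ℂ) ^ blockHeight 2 B (χ : G → ℂ)) := by
      rw [hweq]
      push_cast
      rwa [mul_div_cancel_left₀ _ (pow_ne_zero _ two_ne_zero)]
    have h2 := H22.pow_dvd_of_memRing_int h.hM h1
    push_cast at h2
    exact (IsCoprime.pow_left (Int.prime_two.coprime_iff_not_dvd.2
      (hodd χ₀ hχ₀ h0))).dvd_of_dvd_mul_right h2
  refine ⟨a, ha, ?_, hodd, fun χ hχ hh => ?_, fun χ hχ h1 => ?_, fun χ hχ h4 => ?_⟩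
  · have h1 := H22.One.sum_col_sq Dz h.hM hord hind
    simp only [ha, map_intCast, hd] at h1
    have h2 : ((∑ χ ∈ H22.blockFinset B, a χ ^ 2 : ℤ) : ℂ) =
        ((4 * ((2 ^ (m - 1) : ℕ) : ℤ) : ℤ) : ℂ) := by
      push_cast
      rw [sum_congr rfl fun χ _ => pow_two (a χ : ℂ), h1, show m + 1 = 2 + (m - 1) by
        have := h.hm; omega, pow_add]
      norm_num
    exact_mod_cast h2
  · exact (dvd_pow_self 2 hh).trans (hdvd χ hχ)
  · apply S.aval_ne_zero hq hχ hχ₀ h0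
    rw [haval, h1]; simp
  · have h5 : (2 : ℤ) ^ blockHeight 2 B (χ : G → ℂ) ∣ 2 := by
      rcases (show a χ = 2 ∨ a χ = -2 from sq_eq_sq_iff_eq_or_eq_neg.1 (by rw [h4]; norm_num)) with
        h5 | h5
      · exact h5 ▸ hdvd χ hχ
      · exact dvd_neg.1 (h5 ▸ hdvd χ hχ)
    by_contra hh
    have h6 : (2 : ℤ) ^ 2 ∣ 2 := (pow_dvd_pow 2 (by omega)).trans h5
    norm_num at h6

theorem centralizer_pow_of_odd {n j : ℕ} (hr : orderOf r = 2 ^ n) (hj : Odd j) :
    C[r ^ j] = C[r] := by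
  rw [← H17.Major.centralizer_zpowers_eq, ← H17.Major.centralizer_zpowers_eq r,
    H28.PG.zpowers_eq_of_orderOf_eq (Subgroup.npow_mem_zpowers r j) (Subgroup.mem_zpowers r)
      (by rw [Nat.Coprime.orderOf_pow (by rw [hr]; exact (Nat.coprime_two_left.2 hj).pow_left n)])]

/-- The column at a generating rotation and its average. -/
theorem exists_rcol (h : H12.DihPairs.Dih M B D f0 r s m) [Fintype C[r]]
    {b : Set (IrrCharacter C[r])} (hind : IsInducedBlock M C[r] b B)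
    (hle : H23.Le 2 (Subgroup.zpowers r, H23.eG M C[r] b) (D, f0)) (Dr : H22.One.Data 2 b) :
    ∃ (ζ : ℂ) (P : IrrCharacter G → ℤ[X]) (c : IrrCharacter G → ℤ),
      IsPrimitiveRoot ζ (2 ^ m) ∧ (∀ χ, H22.One.col Dr 1 χ = aeval ζ (P χ)) ∧
      (∀ χ, conj (aeval ζ (P χ)) = aeval ζ (P χ)) ∧
      (∀ χ ∈ B, ∑ j ∈ H19.units' (2 ^ m), aeval (ζ ^ j) (P χ) =
        ((2 ^ (m - 1) : ℕ) : ℂ) * (c χ : ℂ)) ∧
      ∑ χ ∈ H22.blockFinset B, c χ ^ 2 = 4 ∧
      (∀ χ ∈ B, blockHeight 2 B (χ : G → ℂ) = 0 → ¬ (2 : ℤ) ∣ c χ) ∧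
      ∀ v : IrrCharacter G → ℤ, ∑ χ ∈ H22.blockFinset B, (v χ : ℂ) * H22.One.col Dr 1 χ = 0 →
        ∑ χ ∈ H22.blockFinset B, v χ * c χ = 0 := by
  classical
  haveI : Fact (Nat.Prime 2) := ⟨Nat.prime_two⟩
  obtain ⟨a, rfl⟩ : ∃ a, m = a + 1 := ⟨m - 1, by have := h.hm; omega⟩
  have ha : 1 ≤ a := by have := h.hm; omega
  simp only [Nat.add_sub_cancel]
  set N := 2 ^ (a + 1) with hN
  have hNpos : 0 < N := by positivity
  haveI : NeZero N := ⟨hNpos.ne'⟩
  obtain ⟨ζ, hζ⟩ := H19.exists_root N hNpos.ne'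
  have hrN : r ^ N = 1 := by rw [hN, ← h.hord, pow_orderOf_eq_one]
  choose P hP using fun χ => H22.One.exists_col_poly (G := G) Dr hrN hζ χ
  have hordr : ∃ k : ℕ, orderOf r = 2 ^ k := ⟨a + 1, h.hord⟩
  have hodd : ∀ j ∈ H19.units' N, Odd j := fun j hj => H19.Dyadic.odd_of_mem_units hj
  -- the reflection fixes the pair and inverts the generator
  have hsn : s ∈ Subgroup.normalizer (Subgroup.zpowers r : Set G) :=
    h.le_normalizer (Subgroup.mem_zpowers r) h.sD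
  have hsb : H23.cj s (H23.eG M C[r] b) = H23.eG M C[r] b :=
    (H23.inf_normalizer_le_stab 2 hle h.hmax.1 ⟨h.sD, hsn⟩).2
  have hsr : s * r * s⁻¹ = r ^ (N - 1) := by
    rw [h.sr]
    refine (eq_inv_of_mul_eq_one_left ?_).symm
    rw [← pow_succ, Nat.sub_add_cancel hNpos, hrN]
  have hN1 : Odd (N - 1) := Nat.Even.sub_odd hNpos (Nat.even_pow.2 ⟨even_two, by omega⟩) odd_one
  have hone : ∀ χ, aeval (ζ ^ (N - 1)) (P χ) = aeval ζ (P χ) := fun χ => by
    rw [← hP, H22.One.col_eq_of_stab Dr hind.1 hsr (centralizer_pow_of_odd h.hord hN1) hsb χ,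
      hP, pow_one]
  have hreal : ∀ χ, conj (aeval ζ (P χ)) = aeval ζ (P χ) := fun χ => by
    conv_rhs => rw [← hone χ]
    rw [show conj (aeval ζ (P χ)) = aeval (conj ζ) (P χ) from
      (aeval_algHom_apply (starRingEnd ℂ).toIntAlgHom ζ (P χ)).symm]
    congr 2
    have h2 := H22.Cyc.conj_pow hNpos.ne' hζ 1
    rw [pow_one] at h2
    rw [h2]
    refine (eq_inv_of_mul_eq_one_left ?_).symm
    rw [← pow_succ, Nat.sub_add_cancel hNpos, hζ.pow_eq_one]
  have hcol : ∀ χ, H22.One.col Dr 1 χ = aeval ζ (P χ) := fun χ => by rw [hP, pow_one]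
  have hnorm : ∑ χ ∈ H22.blockFinset B, aeval ζ (P χ) * aeval ζ (P χ) = (2 : ℂ) ^ (a + 1) := by
    have h1 := H22.One.sum_col_sq Dr h.hM hordr hind
    rw [(h.rank_gen hind.1 hle).1] at h1
    simp only [hcol, hreal, Nat.cast_ofNat] at h1
    exact h1
  have horth : ∀ j ∈ H19.units' N, j ≠ 1 → j ≠ N - 1 →
      ∑ χ ∈ H22.blockFinset B, aeval ζ (P χ) * aeval (ζ ^ j) (P χ) = 0 := by
    intro j hj hj1 hjN
    have h1 := H22.One.sum_col_pow Dr h.hM hordr hind (j := j)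
      (exists_orderOf h (pow_mem h.rD j)) (centralizer_pow_of_odd h.hord (hodd j hj))
      (fun g hg hgb => by
        have hgn : g ∈ Subgroup.normalizer (Subgroup.zpowers r : Set G) := by
          apply H23.mem_normalizer_of_cjS_eq
          rw [H20.Klein.cjS_zpowers, hg]
          refine H28.PG.zpowers_eq_of_orderOf_eq (Subgroup.npow_mem_zpowers r j)
            (Subgroup.mem_zpowers r) ?_
          rw [← hg, ← MulAut.conj_apply, MulEquiv.orderOf_eq]
        have hjlt := (H19.mem_units'.1 hj).1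
        rcases h.fusion_pow (Subgroup.mem_zpowers r) hle ⟨hgn, hgb⟩ with e | e <;> rw [hg] at e
        · exact hj1 (pow_injOn_Iio_orderOf (x := r) (by rw [Set.mem_Iio, h.hord]; omega)
            (by rw [Set.mem_Iio, h.hord]; omega) (e.trans (pow_one r).symm))
        · exact hjN (pow_injOn_Iio_orderOf (x := r) (by rw [Set.mem_Iio, h.hord]; omega)
            (by rw [Set.mem_Iio, h.hord]; omega) (e.trans (h.sr.symm.trans hsr))))
    rw [← h1]
    exact sum_congr rfl fun χ _ => by rw [hcol, hreal, hP]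
  obtain ⟨c, hc1, hc2, hc3, hc4⟩ := H22.Dyadic.exists_avg_column h.hM ha hζ (H22.blockFinset B) P
    (fun χ _ => hreal χ) (fun χ _ => hone χ) hnorm horth
  refine ⟨ζ, P, c, hζ, hcol, hreal, fun χ hχ => hc1 χ (H22.mem_blockFinset.2 hχ), hc3,
    fun χ hχ hh hdvd => ?_, fun v hv => hc4 v (by simpa only [hcol] using hv)⟩
  obtain ⟨S⟩ := H22.Contrib.exists_setup h.hM hordr hind
  apply S.aval_not_memIdeal hχ hχ hh hh
  rw [H22.One.aval_eq Dr S, hcol, hreal]
  refine H20.memIdeal_mul (H19.Dyadic.memRing_aeval (H19.Dyadic.memRing_zeta hζ) _) ?_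
  have h2 := H20.memIdeal_add (hc2 χ (H22.mem_blockFinset.2 hχ))
    ((H20.intCast_memIdeal_iff h.hM _).2 hdvd)
  rwa [sub_add_cancel] at h2

end H22.DihBlock
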