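import Mathlib
import Cfsg.Agent.H22.BlockTwo
import Cfsg.Agent.H23.IdemTrace
import Cfsg.Agent.H22.SectionOrth

/-!
Projective characters of lifted primitive idempotents.

The characters attached to the primitive idempotents of `k[G]` are linearly independent, those
below a block idempotent span the space of the restrictions of the block to the `p`-regular
elements, and automorphisms of `G` permute them.
-/

set_option autoImplicit false
set_option linter.unusedSectionVars false
set_option linter.style.haveILetI false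

open Cfsg MonoidAlgebra Finset
open scoped ComplexConjugate

namespace H22.ProjBasis

universe u

variable {G : Type u} [Group G] [Fintype G] {M : Ideal AlgInt} [M.IsPrime] {p : ℕ}

local notation "𝕜" => H20.k M
local notation "𝕆" => H20.O M

/-- The character attached to an idempotent of `k[G]`. -/
noncomputable def proj (a : 𝕜[G]) : G → ℂ :=
  fun y => ∑ χ : IrrCharacter G, H23.T χ 1 a * (χ : G → ℂ) y

variable (M) (G) in
/-- The characters attached to primitive idempotents. -/
def projSet : Set (G → ℂ) := {F | ∃ f : 𝕜[G], H23.IsPrim f ∧ proj f = F}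

theorem isId_one {a : 𝕜[G]} (ha : a * a = a) : H23.IsId (1 : G) a :=
  ⟨ha, by ext x; simp [H23.coeff_cj]⟩

theorem T_one_eq (χ : IrrCharacter G) {e : MonoidAlgebra 𝕆 G} (he : e * e = e) :
    H23.T χ 1 (H20.rd e) = H23.chiLin χ e := by
  have h1 : H23.gO M (1 : G) = 1 := rfl
  rw [H23.T_eq χ he rfl (by rw [h1]; exact Commute.one_left _), h1, one_mul]

theorem exists_lift {a : 𝕜[G]} (ha : a * a = a) :
    ∃ e : MonoidAlgebra 𝕆 G, e * e = e ∧ H20.rd e = a := by
  obtain ⟨e, he, hr, -⟩ := (isId_one ha).lift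
  exact ⟨e, he, hr⟩

theorem proj_eq {e : MonoidAlgebra 𝕆 G} (he : e * e = e) (y : G) :
    proj (H20.rd e) y = ∑ h : G, ((e.coeff (h * y⁻¹ * h⁻¹) : 𝕆) : ℂ) := by
  classical
  simp only [proj, T_one_eq _ he, H23.chiLin, sum_mul]
  rw [sum_comm]
  have key : ∀ g : G, ∑ χ : IrrCharacter G, ((e.coeff g : 𝕆) : ℂ) * (χ : G → ℂ) g *
      (χ : G → ℂ) y = ∑ h : G, if h⁻¹ * g * h = y⁻¹ then ((e.coeff g : 𝕆) : ℂ) else 0 := fun g => by
    have h := H22.BlockTwo.column_count g y⁻¹
    simp only [H12.irr_inv, starRingEnd_self_apply] at h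
    simp only [mul_assoc, ← mul_sum, h]
    rw [mul_sum]
    simp
  simp only [key]
  rw [sum_comm]
  refine sum_congr rfl fun h _ => ?_
  rw [sum_eq_single (h * y⁻¹ * h⁻¹) (fun g _ hg => if_neg fun h' => hg (by
    rw [← h']; group)) (by simp), if_pos (by group)]

theorem proj_singular (hM : IsPModular p M) {a : 𝕜[G]} (ha : a * a = a) {y : G}
    (hy : p ∣ orderOf y) : proj a y = 0 := by
  haveI : Fact p.Prime := ⟨hM.1⟩
  obtain ⟨e, he, rfl⟩ := exists_lift ha
  rw [proj_eq he, ← AddSubmonoidClass.coe_finsetSum,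
    H21.idem_singular_sum_eq_zero hM he (y := y⁻¹) (by rwa [orderOf_inv])]
  rfl

theorem sum_proj_class {e : MonoidAlgebra 𝕆 G} (he : e * e = e) (g : G)
    [DecidablePred fun y => IsConj g y] :
    ∑ y ∈ univ.filter (fun y => IsConj g y), proj (H20.rd e) y⁻¹ =
      (Nat.card G : ℂ) * ((H22.BlockTwo.classSum e g : 𝕆) : ℂ) := by
  classical
  simp only [proj_eq he, inv_inv]
  rw [sum_comm]
  have : ∀ h : G, ∑ y ∈ univ.filter (fun y => IsConj g y), ((e.coeff (h * y * h⁻¹) : 𝕆) : ℂ) =
      ((H22.BlockTwo.classSum e g : 𝕆) : ℂ) := by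
    intro h
    rw [H22.BlockTwo.classSum, AddSubmonoidClass.coe_finsetSum]
    refine sum_equiv (MulAut.conj h).toEquiv (fun y => ?_) fun y _ => rfl
    simp only [mem_filter, mem_univ, true_and, MulEquiv.toEquiv_eq_coe, EquivLike.coe_coe,
      MulAut.conj_apply]
    exact ⟨fun hy => hy.trans (isConj_iff.2 ⟨h, rfl⟩),
      fun hy => hy.trans (isConj_iff.2 ⟨h, rfl⟩).symm⟩
  simp only [this, sum_const, card_univ, nsmul_eq_mul, Nat.card_eq_fintype_card]

theorem proj_equiv {a b u v : 𝕜[G]} (ha : a * a = a) (hb : b * b = b) (huv : u * v = a)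
    (hvu : v * u = b) : proj a = proj b := by
  funext y
  refine sum_congr rfl fun χ _ => ?_
  rw [H23.T_equiv χ (isId_one ha) (isId_one hb) (by ext x; simp [H23.coeff_cj])
    (by ext x; simp [H23.coeff_cj]) huv hvu]

theorem proj_eq_of_mem_ispan [IsAlgClosed 𝕜] {f g : 𝕜[G]}
    (hf : H23.IsPrim f) (hg : H23.IsPrim g) (h : f ∈ H22.Corner.ispan 𝕜 g) :
    proj f = proj g := by
  classical
  obtain ⟨L, hL⟩ := Finsupp.mem_span_range_iff_exists_finsupp.1 h
  rw [Finsupp.sum] at hL
  have hsum : ∑ w ∈ L.support, f * (L w • (w.1 * g * w.2)) * f = f := by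
    rw [← sum_mul, ← mul_sum, hL, hf.idem, hf.idem]
  obtain ⟨w, -, hw⟩ := hf.exists_of_sum (k := 𝕜) L.support _ hsum
  set A := L w • (f * w.1 * g)
  set B := g * w.2 * f
  have hAB : A * B = f * (L w • (w.1 * g * w.2)) * f := by
    simp only [A, B, mul_smul_comm, smul_mul_assoc]
    congr 1
    simp only [mul_assoc]
    rw [← mul_assoc g g, hg.idem]
  obtain ⟨u, v, huv, hvu⟩ := hf.equiv_of_ev_ne_zero (k := 𝕜) hg (a := A) (b := B)
    (by simp only [A, mul_smul_comm, ← mul_assoc, hf.idem])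
    (by simp only [A, smul_mul_assoc, mul_assoc, hg.idem])
    (by simp only [B, ← mul_assoc, hg.idem]) (by simp only [B, mul_assoc, hf.idem])
    (by rwa [hAB])
  exact proj_equiv hf.idem hg.idem huv hvu

/-- The characters of primitive idempotents are linearly independent. -/
theorem linearIndependent_projSet (hM : IsPModular p M) :
    LinearIndependent ℂ (Subtype.val : projSet G M → (G → ℂ)) := by
  classical
  haveI := hM.2.1
  let _ : Field 𝕜 := Ideal.Quotient.field _
  haveI : IsAlgClosed 𝕜 := H23.isAlgClosed_k hM.2.1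
  haveI : Fintype (ConjClasses G) := Fintype.ofFinite _
  rw [linearIndependent_iff']
  intro s c hc F hF
  choose f hf hfp using fun i : s => i.1.2
  choose e he her using fun i : s => exists_lift (M := M) (hf i).idem
  let V : Matrix G s 𝕆 := Matrix.of fun g i => H22.BlockTwo.classSum (e i) g
  have hred : ∀ d : s → 𝕜, Matrix.mulVec (V.map (H20.red M)) d = 0 → d = 0 := by
    intro d hd
    have hg : ∀ g, ∑ i, H22.BlockTwo.classSum (f i) g * d i = 0 := fun g => by
      have h := congrFun hd g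
      simp only [Matrix.mulVec, dotProduct, Matrix.map_apply, Pi.zero_apply, V, Matrix.of_apply,
        H22.BlockTwo.classSum_map (H20.red M)] at h
      simp only [← her]
      exact h
    funext j
    obtain ⟨φ, hφ, hφj, -, hφg⟩ := H22.Corner.exists_trace (k := 𝕜) (f := f j)
      ⟨(hf j).idem, (hf j).ne_zero, (hf j).prim⟩
    have hsum : ∑ i, φ (f i) * d i = 0 := by
      simp only [H22.BlockTwo.tr_eq_classSum φ hφ (f _), sum_mul, mul_assoc]
      rw [sum_comm]
      exact sum_eq_zero fun C _ => by rw [← mul_sum, hg, mul_zero]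
    rw [Finset.sum_eq_single j (fun i _ hij => by
      rw [hφg (f i) fun h => hij (Subtype.ext (Subtype.ext (by
        rw [← hfp i, ← hfp j, proj_eq_of_mem_ispan (hf j) (hf i) h]))), zero_mul]) (by simp),
      hφj, one_mul] at hsum
    simpa using hsum
  have hinj := H22.BlockTwo.injective_of_red hM V hred (fun i => c i.1) ?_
  · exact congrFun hinj ⟨F, hF⟩
  funext g
  show ∑ i : s, ((V g i : 𝕆) : ℂ) * c i.1 = 0
  have hN : (Nat.card G : ℂ) ≠ 0 := Nat.cast_ne_zero.2 Nat.card_pos.ne'
  suffices h : (Nat.card G : ℂ) * ∑ i : s, ((V g i : 𝕆) : ℂ) * c i.1 = 0 from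
    (mul_eq_zero.1 h).resolve_left hN
  rw [mul_sum]
  have hV : ∀ i : s, (Nat.card G : ℂ) * (((V g i : 𝕆) : ℂ) * c i.1) =
      ∑ y ∈ univ.filter (fun y => IsConj g y), c i.1 * (i.1 : G → ℂ) y⁻¹ := fun i => by
    rw [← mul_sum, ← hfp i, ← her i, sum_proj_class (he i)]
    show _ * (((H22.BlockTwo.classSum (e i) g : 𝕆) : ℂ) * _) = _
    ring
  simp only [hV]
  rw [sum_comm]
  refine sum_eq_zero fun y _ => ?_
  have h0 := congrFun hc y⁻¹
  simp only [Finset.sum_apply, Pi.smul_apply, smul_eq_mul, Pi.zero_apply] at h0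
  rw [← Finset.sum_coe_sort] at h0
  exact h0

/-- Automorphisms permute the characters of primitive idempotents. -/
theorem projSet_comp (φ : G ≃* G) {F : G → ℂ} (hF : F ∈ projSet G M) :
    (fun y => F (φ y)) ∈ projSet G M := by
  classical
  obtain ⟨f, hf, rfl⟩ := hF
  obtain ⟨e, he, rfl⟩ := exists_lift hf.idem
  let Φ : 𝕜[G] ≃ₐ[𝕜] 𝕜[G] := MonoidAlgebra.domCongr 𝕜 𝕜 φ.symm
  refine ⟨Φ (H20.rd e), hf.map Φ, ?_⟩
  let e' : MonoidAlgebra 𝕆 G := MonoidAlgebra.domCongr 𝕆 𝕆 φ.symm e
  have he' : e' * e' = e' := by rw [← map_mul, he]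
  have hr : H20.rd e' = Φ (H20.rd e) := by
    ext x
    simp [e', Φ, H20.coeff_rd]
  rw [← hr]
  funext y
  rw [proj_eq he', proj_eq he]
  refine Fintype.sum_equiv φ.toEquiv _ _ fun h => ?_
  simp [e']

/-- The restrictions of a set of characters to the regular elements span this space. -/
noncomputable def regSpan (p : ℕ) (B : Set (IrrCharacter G)) : Submodule ℂ (G → ℂ) :=
  Submodule.span ℂ ((fun χ : IrrCharacter G => pRegularPart p (χ : G → ℂ)) '' B)

theorem T_eq_zero_of_notMem {B : Set (IrrCharacter G)} (hB : IsPBlock M B) {a : 𝕜[G]}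
    (ha : a * a = a) (hEa : H20.eRed M B * a = a) {χ : IrrCharacter G} (hχ : χ ∉ B) :
    H23.T χ 1 a = 0 := by
  classical
  obtain ⟨ε, hεcl, hε1, hε2⟩ := H20.exists_lift_eRed (H20.memRing_blockCoeff hB)
  have hεε : ε * ε = ε := H20.emb_injective (by
    rw [show H20.emb (ε * ε) = H20.emb ε * H20.emb ε from
      map_mul (MonoidAlgebra.mapRingHom G (H20.O M).subtype) _ _, hε2, H20.eIdem_mul_self])
  obtain ⟨e₀, he₀, rfl⟩ := exists_lift ha
  have hee : ε * e₀ * (ε * e₀) = ε * e₀ := by
    calc ε * e₀ * (ε * e₀) = ε * (e₀ * ε) * e₀ := by simp only [mul_assoc]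
      _ = ε * ε * (e₀ * e₀) := by rw [← (hεcl.commute e₀).eq]; simp only [mul_assoc]
      _ = ε * e₀ := by rw [hεε, he₀]
  have hrd : H20.rd (ε * e₀) = H20.rd e₀ := by rw [H23.rd_mul, hε1, hEa]
  rw [← hrd, T_one_eq χ hee]
  have hz : H20.omega (χ : G → ℂ) (H20.emb (ε * e₀)) = 0 := by
    rw [show H20.emb (ε * e₀) = H20.emb ε * H20.emb e₀ from
      map_mul (MonoidAlgebra.mapRingHom G (H20.O M).subtype) _ _, hε2,
      H20.omega_mul χ (H20.isCl_eIdem B), H20.omega_eIdem, if_neg hχ, zero_mul]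
  rw [H20.omega, div_eq_zero_iff] at hz
  exact hz.resolve_right (H12.irr_apply_one_ne_zero χ)

theorem pRegularPart_sum {ι : Type*} (s : Finset ι) (c : ι → ℂ) (f : ι → G → ℂ) (y : G) :
    pRegularPart p (fun x => ∑ i ∈ s, c i * f i x) y =
      ∑ i ∈ s, c i * pRegularPart p (f i) y := by
  classical
  by_cases hy : p ∣ orderOf y
  · simp [H22.pRegularPart_of_dvd _ hy]
  · simp [H22.pRegularPart_of_not_dvd _ hy]

theorem proj_mem_regSpan (hM : IsPModular p M) {B : Set (IrrCharacter G)} (hB : IsPBlock M B)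
    {a : 𝕜[G]} (ha : a * a = a) (hEa : H20.eRed M B * a = a) : proj a ∈ regSpan p B := by
  classical
  have h1 : proj a = pRegularPart p (proj a) := funext fun y => by
    by_cases hy : p ∣ orderOf y
    · rw [proj_singular hM ha hy, H22.pRegularPart_of_dvd _ hy]
    · rw [H22.pRegularPart_of_not_dvd _ hy]
  have h2 : proj a = ∑ χ ∈ H22.blockFinset B,
      H23.T χ 1 a • pRegularPart p (χ : G → ℂ) := by
    rw [h1]
    funext y
    show pRegularPart p (fun x => ∑ χ : IrrCharacter G, H23.T χ 1 a * (χ : G → ℂ) x) y = _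
    rw [pRegularPart_sum, Finset.sum_apply]
    refine (Finset.sum_subset (subset_univ _) fun χ _ hχ => ?_).symm
    rw [T_eq_zero_of_notMem hB ha hEa (fun h => hχ (H22.mem_blockFinset.2 h)), zero_mul]
  rw [h2]
  exact Submodule.sum_mem _ fun χ hχ => Submodule.smul_mem _ _
    (Submodule.subset_span ⟨χ, H22.mem_blockFinset.1 hχ, rfl⟩)

/-- The characters of primitive idempotents of a block span its regular space. -/
theorem span_inter_regSpan (hM : IsPModular p M) {B : Set (IrrCharacter G)} (hB : IsPBlock M B) :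
    Submodule.span ℂ (projSet G M ∩ regSpan p B) = regSpan p B := by
  classical
  haveI := hM.2.1
  haveI : Fact p.Prime := ⟨hM.1⟩
  let _ : Field 𝕜 := Ideal.Quotient.field _
  refine le_antisymm (Submodule.span_le.2 Set.inter_subset_right) ?_
  set S := Submodule.span ℂ (projSet G M ∩ regSpan p B)
  obtain ⟨ε, hεcl, hε1, hε2⟩ := H20.exists_lift_eRed (H20.memRing_blockCoeff hB)
  have hεε : ε * ε = ε := H20.emb_injective (by
    rw [show H20.emb (ε * ε) = H20.emb ε * H20.emb ε from
      map_mul (MonoidAlgebra.mapRingHom G (H20.O M).subtype) _ _, hε2, H20.eIdem_mul_self])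
  have hidem : ∀ a : 𝕜[G], a * a = a → H20.eRed M B * a = a → proj a ∈ S := by
    intro a ha hEa
    obtain ⟨n, j, hj, hij, horth, hsum⟩ := H23.exists_decomp (k := 𝕜) a ha
    have hp : proj a = ∑ l, proj (j l) := by
      funext y
      rw [Finset.sum_apply]
      simp only [proj]
      rw [sum_comm]
      refine sum_congr rfl fun χ _ => ?_
      rw [← sum_mul]
      congr 1
      conv_lhs => rw [← hsum]
      exact H23.T_sum χ univ j (fun l _ => isId_one (hj l).idem) fun l _ m _ h => horth l m h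
    rw [hp]
    refine Submodule.sum_mem _ fun l _ => Submodule.subset_span ⟨⟨j l, hj l, rfl⟩,
      proj_mem_regSpan hM hB (hj l).idem ?_⟩
    rw [← (hij l).1, ← mul_assoc, hEa]
  have hTheta : ∀ y : G, ¬ p ∣ orderOf y →
      (fun x => ∑ ψ ∈ H22.blockFinset B, (ψ : G → ℂ) y * (ψ : G → ℂ) x) ∈ S := by
    intro y hy
    set n := orderOf y with hn
    have hn0 : 0 < n := orderOf_pos y
    have hprim := Complex.isPrimitiveRoot_exp n hn0.ne'
    let ζ : 𝕆 := ⟨_, H20.memRing_of_isIntegral (M := M) (hprim.isIntegral hn0)⟩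
    have hζ : IsPrimitiveRoot ζ n :=
      IsPrimitiveRoot.of_map_of_injective (f := (H20.O M).subtype) hprim Subtype.val_injective
    let N : 𝕆 := ⟨_, H20.inv_natCast_memRing hM hy⟩
    have hN : N * (n : 𝕆) = 1 := Subtype.ext (by
      show ((n : ℂ))⁻¹ * ((n : 𝕆) : ℂ) = 1
      rw [show ((n : 𝕆) : ℂ) = (n : ℂ) from map_natCast (H20.O M).subtype n,
        inv_mul_cancel₀ (Nat.cast_ne_zero.2 hn0.ne')])
    let g : MonoidAlgebra 𝕆 G := MonoidAlgebra.single y 1
    have hg : g ^ n = 1 := by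
      rw [MonoidAlgebra.single_pow, one_pow, hn, pow_orderOf_eq_one]
      rfl
    let ej : ℕ → MonoidAlgebra 𝕆 G := fun j => N • ∑ t ∈ range n, (ζ ^ j) ^ t • g ^ t
    let w : ℕ → 𝕆 := fun j => (ζ ^ (n - 1)) ^ j
    have hw : ∀ j, w j * ζ ^ j = 1 := fun j => by
      rw [← mul_pow, ← pow_succ, Nat.sub_add_cancel hn0, hζ.pow_eq_one, one_pow]
    have hge : ∀ j, g * ej j = w j • ej j := by
      intro j
      let F : ℕ → MonoidAlgebra 𝕆 G := fun t => (ζ ^ j) ^ t • g ^ t
      have hF : ∑ t ∈ range n, F (t + 1) = ∑ t ∈ range n, F t := by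
        have h1 := Finset.sum_range_succ' F n
        rw [Finset.sum_range_succ, show F n = F 0 by
          show (ζ ^ j) ^ n • g ^ n = (ζ ^ j) ^ 0 • g ^ 0
          rw [← pow_mul, mul_comm j n, pow_mul, hζ.pow_eq_one, one_pow, hg, pow_zero, pow_zero]] at h1
        exact (add_right_cancel h1).symm
      show g * (N • ∑ t ∈ range n, F t) = w j • (N • ∑ t ∈ range n, F t)
      conv_rhs => rw [← hF, smul_comm, smul_sum]
      rw [mul_smul_comm, mul_sum]
      congr 1
      refine sum_congr rfl fun t _ => ?_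
      rw [mul_smul_comm, ← pow_succ', smul_smul, pow_succ' (ζ ^ j), ← mul_assoc, hw, one_mul]
    have hgte : ∀ t j, g ^ t * ej j = w j ^ t • ej j := by
      intro t j
      induction t with
      | zero => simp
      | succ t ih => rw [pow_succ', mul_assoc, ih, mul_smul_comm, hge, smul_smul, pow_succ]
    have hidej : ∀ j, ej j * ej j = ej j := by
      intro j
      show (N • ∑ t ∈ range n, (ζ ^ j) ^ t • g ^ t) * ej j = ej j
      rw [smul_mul_assoc, sum_mul]
      simp only [smul_mul_assoc, hgte, smul_smul, ← mul_pow, mul_comm (ζ ^ j), hw, one_pow, one_smul,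
        sum_const, card_range]
      rw [← Nat.cast_smul_eq_nsmul 𝕆, smul_smul, hN, one_smul]
    have hone : ∑ j ∈ range n, ej j = 1 := by
      simp only [ej, ← smul_sum]
      rw [sum_comm]
      simp only [← sum_smul]
      rw [sum_eq_single 0]
      · simp [hN, smul_smul]
      · intro t ht ht0
        have hne : ζ ^ t ≠ 1 := hζ.pow_ne_one_of_pos_of_lt ht0 (mem_range.1 ht)
        have h0 : ∑ j ∈ range n, (ζ ^ t) ^ j = 0 := by
          have h1 : (∑ j ∈ range n, (ζ ^ t) ^ j) * (ζ ^ t - 1) = 0 := by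
            rw [geom_sum_mul, ← pow_mul, mul_comm t n, pow_mul, hζ.pow_eq_one, one_pow, sub_self]
          exact (mul_eq_zero.1 h1).resolve_right (sub_ne_zero.2 hne)
        rw [show ∑ j ∈ range n, (ζ ^ j) ^ t = ∑ j ∈ range n, (ζ ^ t) ^ j from
          sum_congr rfl fun j _ => pow_right_comm ζ j t, h0, zero_smul]
      · intro h; exact absurd (mem_range.2 hn0) h
    have hgsum : g = ∑ j ∈ range n, w j • ej j := by
      conv_lhs => rw [← mul_one g, ← hone, mul_sum]
      exact sum_congr rfl fun j _ => hge j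
    have hex : ∀ χ : IrrCharacter G, H23.chiLin χ (ε * g) =
        if χ ∈ B then (χ : G → ℂ) y else 0 := by
      intro χ
      have h1 : H20.omega (χ : G → ℂ) (H20.emb (ε * g)) =
          (if χ ∈ B then 1 else 0) * H20.omega (χ : G → ℂ) (H20.emb g) := by
        rw [show H20.emb (ε * g) = H20.emb ε * H20.emb g from
          map_mul (MonoidAlgebra.mapRingHom G (H20.O M).subtype) _ _, hε2,
          H20.omega_mul χ (H20.isCl_eIdem B), H20.omega_eIdem]
      have hne := H12.irr_apply_one_ne_zero χ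
      simp only [H20.omega, H20.coeff_emb, ← mul_div_assoc] at h1
      rw [div_left_inj' hne] at h1
      show H23.chiLin χ (ε * g) = _
      rw [show H23.chiLin χ (ε * g) = _ from h1,
        show ∑ x : G, ((g.coeff x : 𝕆) : ℂ) * (χ : G → ℂ) x = (χ : G → ℂ) y from
          H23.chiLin_single χ y]
      split_ifs <;> simp
    have hlin : ∀ χ : IrrCharacter G, H23.chiLin χ (ε * g) =
        ∑ j ∈ range n, ((w j : 𝕆) : ℂ) * H23.T χ 1 (H20.rd (ε * ej j)) := by
      intro χ
      have hid : ∀ j, ε * ej j * (ε * ej j) = ε * ej j := fun j => by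
        calc ε * ej j * (ε * ej j) = ε * (ej j * ε) * ej j := by simp only [mul_assoc]
          _ = ε * ε * (ej j * ej j) := by rw [← (hεcl.commute _).eq]; simp only [mul_assoc]
          _ = ε * ej j := by rw [hεε, hidej]
      simp only [T_one_eq χ (hid _)]
      conv_lhs => rw [hgsum, mul_sum]
      simp only [H23.chiLin, mul_smul_comm, MonoidAlgebra.coeff_sum, Finsupp.finsetSum_apply,
        AddSubmonoidClass.coe_finsetSum, sum_mul, MonoidAlgebra.coeff_smul, Finsupp.smul_apply,
        smul_eq_mul, MulMemClass.coe_mul, mul_sum, mul_assoc]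
      exact sum_comm
    have hθ : (fun x => ∑ ψ ∈ H22.blockFinset B, (ψ : G → ℂ) y * (ψ : G → ℂ) x) =
        ∑ j ∈ range n, ((w j : 𝕆) : ℂ) • proj (H20.rd (ε * ej j)) := by
      funext x
      simp only [Finset.sum_apply, Pi.smul_apply, smul_eq_mul, proj, mul_sum]
      rw [sum_comm]
      simp only [← mul_assoc, ← sum_mul, ← hlin, hex, ite_mul, zero_mul]
      rw [← sum_filter]
      rfl
    rw [hθ]
    refine Submodule.sum_mem _ fun j _ => Submodule.smul_mem _ _ (hidem _ ?_ ?_)
    · rw [← H23.rd_mul, show ε * ej j * (ε * ej j) = ε * ej j by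
        calc ε * ej j * (ε * ej j) = ε * (ej j * ε) * ej j := by simp only [mul_assoc]
          _ = ε * ε * (ej j * ej j) := by rw [← (hεcl.commute _).eq]; simp only [mul_assoc]
          _ = ε * ej j := by rw [hεε, hidej]]
    · rw [← hε1, ← H23.rd_mul, ← mul_assoc, hεε]
  refine Submodule.span_le.2 ?_
  rintro _ ⟨χ, hχ, rfl⟩
  have hform : pRegularPart p (χ : G → ℂ) = ∑ y : G, ((Nat.card G : ℂ)⁻¹ *
      pRegularPart p (χ : G → ℂ) y) •
        (fun x => ∑ ψ ∈ H22.blockFinset B, (ψ : G → ℂ) y⁻¹ * (ψ : G → ℂ) x) := by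
    funext x
    rw [← H22.sum_Delta_mul (H22.weakOrth_of_block hM hB) hχ x]
    simp only [H22.Delta, H12.classInner_def, Finset.sum_apply, Pi.smul_apply, smul_eq_mul,
      H12.irr_inv, mul_sum, sum_mul]
    rw [sum_comm]
    exact sum_congr rfl fun y _ => sum_congr rfl fun ψ _ => by ring
  show pRegularPart p (χ : G → ℂ) ∈ S
  rw [hform]
  refine Submodule.sum_mem _ fun y _ => ?_
  by_cases hy : p ∣ orderOf y
  · rw [H22.pRegularPart_of_dvd _ hy, mul_zero, zero_smul]
    exact Submodule.zero_mem _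
  · exact Submodule.smul_mem _ _ (hTheta _ (by rwa [orderOf_inv]))

end H22.ProjBasis
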