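import Mathlib
import Cfsg.Agent.H22.ProjBasis
import Cfsg.Agent.H22.SectionOrth
import Cfsg.Agent.H20.SecondMainApps
import Cfsg.Agent.H19.RegularSpan
import Cfsg.Agent.H25.Galois

/-!
A block contains at least as many Galois-fixed characters as its `p`-regular rank, for a Galois
automorphism fixing the roots of unity of order prime to `p`.

The number of fixed characters is a trace; on each `p`-section it is the trace of a permutation
of the projective characters of primitive idempotents, so it is non-negative.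
-/

set_option autoImplicit false
set_option linter.unusedSectionVars false
set_option linter.style.haveILetI false

open Cfsg Finset
open scoped ComplexConjugate

namespace H22.PRat

universe u

variable {G : Type u} [Group G] [Fintype G] {M : Ideal AlgInt} [M.IsPrime] {p : ℕ}
  [hp : Fact p.Prime]

theorem trace_of_perm_basis {ι V : Type*} [Fintype ι] [AddCommGroup V] [Module ℂ V]
    (b : Module.Basis ι ℂ V) (T : V →ₗ[ℂ] V) (hT : ∀ i, ∃ j, T (b i) = b j) :
    ∃ n : ℕ, LinearMap.trace ℂ V T = n := by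
  classical
  choose j hj using hT
  refine ⟨(univ.filter fun i => j i = i).card, ?_⟩
  rw [LinearMap.trace_eq_matrix_trace ℂ b, Matrix.trace]
  simp only [Matrix.diag_apply, LinearMap.toMatrix_apply, hj, Module.Basis.repr_self,
    Finsupp.single_apply]
  rw [sum_boole]

/-- The kernel of the projection on the regular spans of a family of blocks, composed with an
automorphism preserving it, has a trace which is a natural number. -/
theorem trace_nonneg (hM : IsPModular p M) {ι : Type*} [Fintype ι]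
    (b : ι → Set (IrrCharacter G)) (hb : ∀ i, IsPBlock M (b i)) (hinj : Function.Injective b)
    (φ : G ≃* G)
    (hK : ∀ s t : G, ¬ p ∣ orderOf s → ¬ p ∣ orderOf t →
      ∑ i, ∑ ψ ∈ H22.blockFinset (b i), (ψ : G → ℂ) (φ s) * conj ((ψ : G → ℂ) (φ t)) =
      ∑ i, ∑ ψ ∈ H22.blockFinset (b i), (ψ : G → ℂ) s * conj ((ψ : G → ℂ) t)) :
    ∃ n : ℕ, ∑ t ∈ univ.filter (fun t : G => ¬ p ∣ orderOf t),
      ∑ i, ∑ ψ ∈ H22.blockFinset (b i), (ψ : G → ℂ) (φ t) * conj ((ψ : G → ℂ) t) =
        (Nat.card G : ℂ) * n := by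
  classical
  set R := univ.filter (fun t : G => ¬ p ∣ orderOf t) with hR
  set K : G → G → ℂ := fun s t =>
    ∑ i, ∑ ψ ∈ H22.blockFinset (b i), (ψ : G → ℂ) s * conj ((ψ : G → ℂ) t) with hKdef
  let P : (G → ℂ) →ₗ[ℂ] (G → ℂ) :=
    { toFun := fun f s => if p ∣ orderOf s then 0 else (Nat.card G : ℂ)⁻¹ * ∑ t ∈ R, K s t * f t
      map_add' := fun f g => funext fun s => by
        simp only [Pi.add_apply, mul_add, sum_add_distrib]
        split_ifs <;> simp
      map_smul' := fun c f => funext fun s => by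
        simp only [Pi.smul_apply, smul_eq_mul, RingHom.id_apply]
        split_ifs
        · simp
        · rw [mul_left_comm c, mul_sum _ _ c]
          congr 1
          exact sum_congr rfl fun t _ => by ring }
  let T : (G → ℂ) →ₗ[ℂ] (G → ℂ) := LinearMap.funLeft ℂ ℂ φ
  set W : Submodule ℂ (G → ℂ) := ⨆ i, H22.ProjBasis.regSpan p (b i)
  have hord : ∀ s : G, orderOf (φ s) = orderOf s := fun s => MulEquiv.orderOf_eq φ s
  -- the image of `P`
  have hPmem : ∀ f, P f ∈ W := by
    intro f
    have he : P f = ∑ i, ∑ ψ ∈ H22.blockFinset (b i),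
        ((Nat.card G : ℂ)⁻¹ * ∑ t ∈ R, conj ((ψ : G → ℂ) t) * f t) •
          pRegularPart p (ψ : G → ℂ) := by
      funext s
      simp only [P, LinearMap.coe_mk, AddHom.coe_mk, Finset.sum_apply, Pi.smul_apply, smul_eq_mul]
      by_cases hs : p ∣ orderOf s
      · simp [hs, H22.pRegularPart_of_dvd _ hs]
      · simp only [if_neg hs, H22.pRegularPart_of_not_dvd _ hs, K, mul_sum, sum_mul]
        rw [sum_comm]
        refine sum_congr rfl fun i _ => ?_
        rw [sum_comm]
        exact sum_congr rfl fun ψ _ => sum_congr rfl fun t _ => by ring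
    rw [he]
    exact Submodule.sum_mem _ fun i _ => Submodule.sum_mem _ fun ψ hψ => Submodule.smul_mem _ _
      (Submodule.mem_iSup_of_mem i (Submodule.subset_span ⟨ψ, H22.mem_blockFinset.1 hψ, rfl⟩))
  -- `P` fixes `W`
  have hPfix : ∀ f ∈ W, P f = f := by
    suffices h : W ≤ LinearMap.eqLocus P LinearMap.id from fun f hf => h hf
    refine iSup_le fun i => Submodule.span_le.2 ?_
    rintro _ ⟨χ, hχ, rfl⟩
    show P (pRegularPart p (χ : G → ℂ)) = pRegularPart p (χ : G → ℂ)
    funext s
    simp only [P, LinearMap.coe_mk, AddHom.coe_mk]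
    by_cases hs : p ∣ orderOf s
    · rw [if_pos hs, H22.pRegularPart_of_dvd _ hs]
    rw [if_neg hs, ← H22.sum_Delta_mul (H22.weakOrth_of_block hM (hb i)) hχ s]
    have hstep : (Nat.card G : ℂ)⁻¹ * ∑ t ∈ R, K s t * pRegularPart p (χ : G → ℂ) t =
        ∑ j, ∑ ψ ∈ H22.blockFinset (b j), H22.Delta p χ ψ * (ψ : G → ℂ) s := by
      have hD : ∀ ψ : IrrCharacter G, H22.Delta p χ ψ = (Nat.card G : ℂ)⁻¹ *
          ∑ t ∈ R, pRegularPart p (χ : G → ℂ) t * conj ((ψ : G → ℂ) t) := fun ψ => by
        rw [H22.Delta, H12.classInner_def]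
        congr 1
        refine (sum_subset (subset_univ _) fun t _ ht => ?_).symm
        rw [H22.pRegularPart_of_dvd _ (by simpa [R] using ht), zero_mul]
      simp only [hD, K, mul_sum, sum_mul]
      rw [sum_comm]
      refine sum_congr rfl fun j _ => ?_
      rw [sum_comm]
      exact sum_congr rfl fun ψ _ => sum_congr rfl fun t _ => by ring
    rw [hstep, sum_eq_single i ?_ (by simp)]
    intro j _ hji
    refine sum_eq_zero fun ψ hψ => ?_
    rw [H22.Delta, H19.RegSpan.classInner_regular_eq_zero hM (hb i) hχ, zero_mul]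
    exact fun h => hji (hinj (H20.block_eq_of_mem (hb j) (hb i) (H22.mem_blockFinset.1 hψ) h))
  -- `P` commutes with `T`
  have hPT : ∀ f, P (T f) = T (P f) := by
    intro f
    funext s
    show (if p ∣ orderOf s then 0 else (Nat.card G : ℂ)⁻¹ * ∑ t ∈ R, K s t * f (φ t)) =
      if p ∣ orderOf (φ s) then 0 else (Nat.card G : ℂ)⁻¹ * ∑ t ∈ R, K (φ s) t * f t
    rw [hord]
    split_ifs with hs
    · rfl
    congr 1
    refine sum_equiv φ.toEquiv (fun t => by simp [R, hord]) fun t ht => ?_
    show K s t * f (φ t) = K (φ s) (φ t) * f (φ t)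
    have h := hK s t hs (by simpa [R] using ht)
    show K s t * _ = _
    rw [show K (φ s) (φ t) = K s t from h]
  have hTW : ∀ f ∈ W, T f ∈ W := fun f hf => by
    rw [← hPfix f hf, ← hPT]; exact hPmem _
  let L : (G → ℂ) →ₗ[ℂ] (G → ℂ) := T.comp P
  have hLW : ∀ f, L f ∈ W := fun f => hTW _ (hPmem f)
  -- the trace as a sum
  have htr : LinearMap.trace ℂ (G → ℂ) L = (Nat.card G : ℂ)⁻¹ * ∑ t ∈ R, K (φ t) t := by
    rw [LinearMap.trace_eq_matrix_trace ℂ (Pi.basisFun ℂ G), Matrix.trace, mul_sum]
    simp only [Matrix.diag_apply, LinearMap.toMatrix_apply, Pi.basisFun_repr, Pi.basisFun_apply]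
    rw [← sum_subset (subset_univ R) (fun t _ ht => ?_)]
    · refine sum_congr rfl fun t ht => ?_
      show (if p ∣ orderOf (φ t) then 0 else
        (Nat.card G : ℂ)⁻¹ * ∑ w ∈ R, K (φ t) w * (Pi.single t (1 : ℂ) : G → ℂ) w) = _
      rw [hord, if_neg (by simpa [R] using ht), sum_eq_single t (fun w _ hw => by simp [hw])
        (fun h => absurd ht h), Pi.single_eq_same, mul_one]
    · show (if p ∣ orderOf (φ t) then 0 else _) = (0 : ℂ)
      rw [hord, if_pos (by simpa [R] using ht)]
  -- the permutation basis of `W`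
  set S : Set (G → ℂ) := H22.ProjBasis.projSet G M ∩ (W : Set (G → ℂ))
  have hspan : Submodule.span ℂ S = W := by
    refine le_antisymm (Submodule.span_le.2 Set.inter_subset_right) (iSup_le fun i => ?_)
    rw [← H22.ProjBasis.span_inter_regSpan hM (hb i)]
    exact Submodule.span_mono (Set.inter_subset_inter_right _
      (SetLike.coe_subset_coe.2 (le_iSup (fun i => H22.ProjBasis.regSpan p (b i)) i)))
  have hli : LinearIndependent ℂ (Subtype.val : S → (G → ℂ)) :=
    LinearIndepOn.mono (s := H22.ProjBasis.projSet G M) (v := id)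
      (H22.ProjBasis.linearIndependent_projSet hM) Set.inter_subset_left
  haveI : Fintype S := hli.setFinite.fintype
  let bas : Module.Basis S ℂ W :=
    (Module.Basis.span hli).map (LinearEquiv.ofEq _ _ (by rw [Subtype.range_coe, hspan]))
  have hbas : ∀ i : S, ((bas i : W) : G → ℂ) = i.1 := fun i => by
    simp [bas]
  let L' : W →ₗ[ℂ] W := L.restrict fun f _ => hLW f
  obtain ⟨n, hn⟩ := trace_of_perm_basis bas L' (fun i => by
    refine ⟨⟨T i.1, H22.ProjBasis.projSet_comp φ i.2.1, hTW _ i.2.2⟩, Subtype.ext ?_⟩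
    rw [hbas]
    show T (P ((bas i : W) : G → ℂ)) = _
    rw [hbas, hPfix _ i.2.2])
  refine ⟨n, ?_⟩
  have h := LinearMap.trace_restrict_eq_of_forall_mem W L hLW
  rw [hn, htr] at h
  rw [h, ← mul_assoc, mul_inv_cancel₀ (H12.card_ne_zero' (G := G)), one_mul]

open Classical in
/-- Elements grouped by their `p`-part. -/
theorem sum_by_pPart (f : G → ℂ) :
    ∑ g : G, f g = ∑ u ∈ univ.filter (fun u : G => ∃ j : ℕ, orderOf u = p ^ j),
      ∑ t ∈ univ.filter (fun t : Subgroup.centralizer ({u} : Set G) => ¬ p ∣ orderOf t),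
        f (u * (t : G)) := by
  classical
  rw [← sum_fiberwise_of_maps_to (g := H20.pPart p) (t := univ.filter
    (fun u : G => ∃ j : ℕ, orderOf u = p ^ j)) fun g _ => by
      simpa using H20.exists_orderOf_pPart (p := p) g]
  refine sum_congr rfl fun u hu => ?_
  symm
  refine sum_bij (fun (t : Subgroup.centralizer ({u} : Set G)) _ => u * (t : G))
    (fun t ht => ?_) (fun a _ b _ h => Subtype.ext (mul_left_cancel h)) (fun g hg => ?_)
    fun _ _ => rfl
  · simp only [mem_filter, mem_univ, true_and] at ht hu ⊢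
    exact H20.centralizer_le_of_pPart u t hu ht
  · simp only [mem_filter, mem_univ, true_and] at hg
    have hc : H20.qPart p g ∈ Subgroup.centralizer ({u} : Set G) := by
      rw [Subgroup.mem_centralizer_singleton_iff, ← hg]
      exact (H20.commute_pPart_qPart g).eq.symm
    refine ⟨⟨_, hc⟩, ?_, ?_⟩
    · simp only [mem_filter, mem_univ, true_and, ← Subgroup.orderOf_coe]
      exact H20.not_dvd_orderOf_qPart g
    · show u * H20.qPart p g = g
      rw [← hg, H20.pPart_mul_qPart]

/-- The block is stable under a Galois automorphism fixing the `p'`-roots of unity. -/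
theorem mem_of_eq_on_regular (hM : IsPModular p M) {B : Set (IrrCharacter G)} (hB : IsPBlock M B)
    {χ ψ : IrrCharacter G} (hχ : χ ∈ B)
    (h : ∀ g : G, ¬ p ∣ orderOf g → (ψ : G → ℂ) g = (χ : G → ℂ) g) : ψ ∈ B := by
  classical
  by_contra hψ
  have h1 := H20.omega_eIdem B ψ
  have h2 := H20.omega_eIdem B χ
  rw [if_neg hψ] at h1
  rw [if_pos hχ] at h2
  have hsum : ∑ g : G, (H20.eIdem B).coeff g * (ψ : G → ℂ) g =
      ∑ g : G, (H20.eIdem B).coeff g * (χ : G → ℂ) g := by
    refine sum_congr rfl fun g _ => ?_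
    by_cases hg : p ∣ orderOf g
    · have h0 : (H20.eIdem B).coeff g = 0 := by
        show blockCoeff B g = 0
        have hw := H22.weakOrth_of_block hM hB 1 g (by rw [orderOf_one]; exact hM.1.not_dvd_one) hg
        rw [H20.blockCoeff_eq_sum, ← sum_filter]
        exact mul_eq_zero_of_right _ hw
      rw [h0, zero_mul, zero_mul]
    · rw [h g hg]
  rw [H20.omega, hsum, h 1 (by rw [orderOf_one]; exact hM.1.not_dvd_one)] at h1
  rw [H20.omega, h1] at h2
  exact zero_ne_one h2

theorem blockRank_le_fixed (hM : IsPModular p M) {B : Set (IrrCharacter G)} (hB : IsPBlock M B)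
    {k : ℕ} (hk : Nat.Coprime k (Nat.card G))
    (hk1 : k ≡ 1 [MOD Nat.card G / p ^ (Nat.card G).factorization p]) :
    blockRank p B ≤
      Nat.card {χ : IrrCharacter G // χ ∈ B ∧ ∀ g : G, (χ : G → ℂ) (g ^ k) = (χ : G → ℂ) g} := by
  classical
  have hreg : ∀ t : G, ¬ p ∣ orderOf t → t ^ k = t := by
    intro t ht
    have hd : orderOf t ∣ Nat.card G / p ^ (Nat.card G).factorization p := by
      have h1 : Nat.Coprime (orderOf t) (p ^ (Nat.card G).factorization p) :=
        ((hp.out.coprime_iff_not_dvd.2 ht).symm).pow_right _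
      refine h1.dvd_of_dvd_mul_left ?_
      rw [Nat.mul_div_cancel' (Nat.ordProj_dvd _ _)]
      exact orderOf_dvd_natCard t
    conv_rhs => rw [← pow_one t]
    exact pow_eq_pow_iff_modEq.2 (hk1.of_dvd hd)
  -- the action on the block
  let σ : IrrCharacter G → IrrCharacter G := fun χ => ⟨_, H25.isIrrCharacter_comp_pow χ.2 hk⟩
  have hσB : ∀ χ ∈ H22.blockFinset B, σ χ ∈ H22.blockFinset B := fun χ hχ => by
    rw [H22.mem_blockFinset] at hχ ⊢
    exact mem_of_eq_on_regular hM hB hχ fun g hg => congrArg _ (hreg g hg)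
  have hσinj : Function.Injective σ := fun χ ψ h => Subtype.ext (funext fun g => by
    obtain ⟨g', rfl⟩ := (powCoprime hk.symm).surjective g
    exact congrFun (congrArg Subtype.val h) g')
  have hσperm : ∀ F : IrrCharacter G → ℂ,
      ∑ χ ∈ H22.blockFinset B, F (σ χ) = ∑ χ ∈ H22.blockFinset B, F χ := by
    intro F
    have him : (H22.blockFinset B).image σ = H22.blockFinset B :=
      eq_of_subset_of_card_le (image_subset_iff.2 hσB) (by rw [card_image_of_injective _ hσinj])
    conv_rhs => rw [← him, sum_image fun a _ b _ h => hσinj h]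
  set N := Nat.card {χ : IrrCharacter G // χ ∈ B ∧ ∀ g : G, (χ : G → ℂ) (g ^ k) = (χ : G → ℂ) g}
  -- the number of fixed characters as a trace
  have hcount : (Nat.card G : ℂ) * N =
      ∑ g : G, ∑ χ ∈ H22.blockFinset B, (χ : G → ℂ) (g ^ k) * conj ((χ : G → ℂ) g) := by
    have h1 : ∀ χ : IrrCharacter G, ∑ g : G, (χ : G → ℂ) (g ^ k) * conj ((χ : G → ℂ) g) =
        (Nat.card G : ℂ) * if σ χ = χ then 1 else 0 := fun χ => by
      have h2 : classInner ((σ χ : IrrCharacter G) : G → ℂ) (χ : G → ℂ) =
          if σ χ = χ then 1 else 0 := by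
        split_ifs with h
        · rw [h, H12.classInner_irr_self]
        · exact H12.classInner_irr_ne h
      rw [← h2, H12.classInner_def, ← mul_assoc,
        mul_inv_cancel₀ (H12.card_ne_zero' (G := G)), one_mul]
    rw [sum_comm]
    simp only [h1, ← mul_sum, sum_boole]
    congr 2
    rw [show N = _ from Nat.subtype_card _ (p := fun χ : IrrCharacter G =>
      χ ∈ B ∧ ∀ g : G, (χ : G → ℂ) (g ^ k) = (χ : G → ℂ) g) fun χ => ?_]
    simp only [mem_filter, H22.mem_blockFinset]
    exact and_congr_right fun _ => ⟨fun h g => congrFun (congrArg Subtype.val h) g,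
      fun h => Subtype.ext (funext h)⟩
  rw [sum_by_pPart (p := p)] at hcount
  -- each section is non-negative
  have hsec : ∀ u : G, (∃ j : ℕ, orderOf u = p ^ j) → ∃ n : ℕ,
      ∑ t ∈ univ.filter (fun t : Subgroup.centralizer ({u} : Set G) => ¬ p ∣ orderOf t),
        ∑ χ ∈ H22.blockFinset B, (χ : G → ℂ) ((u * (t : G)) ^ k) *
          conj ((χ : G → ℂ) (u * (t : G))) =
      (Nat.card (Subgroup.centralizer ({u} : Set G)) : ℂ) * n := by
    intro u hu
    have hpow : ∀ t : Subgroup.centralizer ({u} : Set G), ¬ p ∣ orderOf t →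
        (u * (t : G)) ^ k = u ^ k * (t : G) := fun t ht => by
      rw [(show Commute u (t : G) from t.2 u rfl).mul_pow, hreg t (by rwa [Subgroup.orderOf_coe])]
    have huk : orderOf (u ^ k) = orderOf u :=
      Nat.Coprime.orderOf_pow ((hk.coprime_dvd_right (orderOf_dvd_natCard u)).symm)
    by_cases hconj : IsConj u (u ^ k)
    swap
    · refine ⟨0, ?_⟩
      rw [Nat.cast_zero, mul_zero]
      refine sum_eq_zero fun t ht => ?_
      simp only [mem_filter, mem_univ, true_and] at ht
      have hpu : H20.pPart p (u * (t : G)) = u := H20.centralizer_le_of_pPart u t hu ht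
      have hpuk : H20.pPart p (u ^ k * (t : G)) = u ^ k := by
        have hc : (t : G) ∈ Subgroup.centralizer ({u ^ k} : Set G) := by
          rw [Subgroup.mem_centralizer_singleton_iff]
          exact ((show Commute u (t : G) from t.2 u rfl).pow_left k).eq.symm
        exact H20.centralizer_le_of_pPart (u ^ k) ⟨(t : G), hc⟩
          (by rwa [huk]) (by rw [← Subgroup.orderOf_coe] at ht ⊢; exact ht)
      have h := H20.block_orthogonality hM (g := u ^ k * (t : G)) (h := u * (t : G))
        (by rw [hpu, hpuk]; exact fun h => hconj h.symm) hB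
      rw [hpow t ht]
      rw [H22.finsum_mem_block] at h
      refine Eq.trans ?_ h
      simp only [H12.irr_inv]
    obtain ⟨x, hx⟩ := isConj_iff.1 hconj
    haveI : Fintype {b : Set (IrrCharacter ↥(Subgroup.centralizer ({u} : Set G))) //
      IsInducedBlock M (Subgroup.centralizer ({u} : Set G)) b B} := Fintype.ofFinite _
    have hmap : ∀ t : Subgroup.centralizer ({u} : Set G),
        x⁻¹ * (t : G) * x ∈ Subgroup.centralizer ({u} : Set G) := fun t => by
      rw [Subgroup.mem_centralizer_singleton_iff]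
      have h1 : Commute (t : G) (u ^ k) := ((show Commute u (t : G) from t.2 u rfl).pow_left k).symm
      rw [← hx] at h1
      have h2 := h1.eq
      calc x⁻¹ * (t : G) * x * u = x⁻¹ * ((t : G) * (x * u * x⁻¹)) * x := by group
        _ = x⁻¹ * (x * u * x⁻¹ * (t : G)) * x := by rw [h2]
        _ = u * (x⁻¹ * (t : G) * x) := by group
    let φ₀ : Subgroup.centralizer ({u} : Set G) →* Subgroup.centralizer ({u} : Set G) :=
      { toFun := fun t => ⟨x⁻¹ * (t : G) * x, hmap t⟩
        map_one' := Subtype.ext (by simp)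
        map_mul' := fun a b => Subtype.ext (by simp [mul_assoc]) }
    have hbij : Function.Bijective φ₀ := Finite.injective_iff_bijective.1 fun a b h =>
      Subtype.ext (mul_left_cancel (mul_right_cancel (congrArg Subtype.val h :
        x⁻¹ * (a : G) * x = x⁻¹ * (b : G) * x)))
    let φ := MulEquiv.ofBijective φ₀ hbij
    have hval : ∀ t : Subgroup.centralizer ({u} : Set G), ¬ p ∣ orderOf t → ∀ χ : IrrCharacter G,
        (χ : G → ℂ) (u * (φ t : G)) = ((σ χ : IrrCharacter G) : G → ℂ) (u * (t : G)) := by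
      intro t ht χ
      show (χ : G → ℂ) (u * (x⁻¹ * (t : G) * x)) = (χ : G → ℂ) ((u * (t : G)) ^ k)
      rw [hpow t ht, ← hx, ← H12.irr_isClassFunction χ (u * (x⁻¹ * (t : G) * x)) x]
      congr 1
      group
    have hsect := fun (s t : Subgroup.centralizer ({u} : Set G)) hs ht =>
      (H22.Sub.section_orth hM hB hu s t hs ht).symm
    obtain ⟨n, hn⟩ := trace_nonneg (G := Subgroup.centralizer ({u} : Set G)) hM
      (fun i : {b : Set (IrrCharacter ↥(Subgroup.centralizer ({u} : Set G))) //
        IsInducedBlock M (Subgroup.centralizer ({u} : Set G)) b B} => i.1)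
      (fun i => i.2.1) Subtype.val_injective φ (fun s t hs ht => by
        rw [hsect (φ s) (φ t) (by rwa [MulEquiv.orderOf_eq]) (by rwa [MulEquiv.orderOf_eq]),
          hsect s t hs ht]
        simp only [hval s hs, hval t ht]
        exact hσperm fun χ => (χ : G → ℂ) (u * (s : G)) * conj ((χ : G → ℂ) (u * (t : G))))
    refine ⟨n, ?_⟩
    rw [← hn]
    refine sum_congr rfl fun t ht => ?_
    simp only [mem_filter, mem_univ, true_and] at ht
    rw [hsect (φ t) t (by rwa [MulEquiv.orderOf_eq]) ht]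
    simp only [hval t ht]
    rfl
  choose! n hn using hsec
  rw [sum_congr rfl fun u hu => hn u (mem_filter.1 hu).2] at hcount
  -- the regular part gives the rank
  have h1mem : (1 : G) ∈ univ.filter (fun u : G => ∃ j : ℕ, orderOf u = p ^ j) :=
    mem_filter.2 ⟨mem_univ _, 0, by simp⟩
  have hone : (Nat.card (Subgroup.centralizer ({(1 : G)} : Set G)) : ℂ) * n 1 =
      (Nat.card G : ℂ) * blockRank p B := by
    rw [← hn 1 ⟨0, by simp⟩, ← H19.RegSpan.sum_classInner_eq_rank hM hB, H22.finsum_mem_block,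
      sum_comm, mul_sum]
    refine sum_congr rfl fun χ _ => ?_
    rw [H12.classInner_def, ← mul_assoc, mul_inv_cancel₀ (H12.card_ne_zero' (G := G)), one_mul]
    rw [← sum_subset (subset_univ (univ.filter fun g : G => ¬ p ∣ orderOf g)) fun g _ hg => by
      rw [H22.pRegularPart_of_dvd _ (by simpa using hg), zero_mul]]
    refine sum_bij (fun (t : Subgroup.centralizer ({(1 : G)} : Set G)) _ => (t : G)) (fun t ht => ?_)
      (fun a _ b _ h => Subtype.ext h) (fun g hg => ?_) fun t ht => ?_
    · simpa using ht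
    · refine ⟨⟨g, by simp [Subgroup.mem_centralizer_singleton_iff]⟩, ?_, rfl⟩
      simpa using hg
    · have ht' : ¬ p ∣ orderOf (t : G) := by simpa using ht
      simp only [one_mul, hreg _ ht', H22.pRegularPart_of_not_dvd _ ht']
  rw [← add_sum_erase _ _ h1mem, hone] at hcount
  have hnat : (Nat.card G) * N = Nat.card G * blockRank p B +
      ∑ u ∈ (univ.filter (fun u : G => ∃ j : ℕ, orderOf u = p ^ j)).erase 1,
        Nat.card (Subgroup.centralizer ({u} : Set G)) * n u := by
    exact_mod_cast hcount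
  show blockRank p B ≤ N
  have hle : Nat.card G * blockRank p B ≤ Nat.card G * N := by omega
  exact Nat.le_of_mul_le_mul_left hle Nat.card_pos

/-- A single exponent generates all Galois automorphisms fixing the `p'`-roots of unity. -/
theorem exists_generator (hodd : p ≠ 2) {n : ℕ} (hn : n ≠ 0) :
    ∃ k₀ : ℕ, Nat.Coprime k₀ n ∧ k₀ ≡ 1 [MOD n / p ^ n.factorization p] ∧
      ∀ k : ℕ, Nat.Coprime k n → k ≡ 1 [MOD n / p ^ n.factorization p] →
        ∃ i : ℕ, k ≡ k₀ ^ i [MOD n] := by
  set P := p ^ n.factorization p with hP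
  set m := n / P
  have hnm : P * m = n := Nat.mul_div_cancel' (Nat.ordProj_dvd _ _)
  have hcop : Nat.Coprime P m := (Nat.coprime_ordCompl hp.out hn).pow_left _
  haveI : NeZero P := ⟨pow_ne_zero _ hp.out.ne_zero⟩
  haveI : IsCyclic (ZMod P)ˣ := ZMod.isCyclic_units_of_prime_pow p hp.out hodd _
  obtain ⟨g, hg⟩ := IsCyclic.exists_monoid_generator (α := (ZMod P)ˣ)
  obtain ⟨k₀, h1, h2⟩ := Nat.chineseRemainder hcop ((g : ZMod P).val) 1
  have hk₀ : Nat.Coprime k₀ n := by
    rw [← hnm]
    refine Nat.Coprime.mul_right ?_ ?_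
    · rw [← ZMod.isUnit_iff_coprime, (ZMod.natCast_eq_natCast_iff _ _ _).2 h1, ZMod.natCast_zmod_val]
      exact g.isUnit
    · rw [Nat.coprime_iff_gcd_eq_one]
      rw [Nat.ModEq.gcd_eq h2, Nat.gcd_one_left]
  refine ⟨k₀, hk₀, h2, fun k hk hk1 => ?_⟩
  have hu : IsUnit (k : ZMod P) :=
    (ZMod.isUnit_iff_coprime _ _).2 (hk.coprime_dvd_right ⟨m, hnm.symm⟩)
  obtain ⟨i, hi⟩ := Submonoid.mem_powers_iff _ _ |>.1 (hg hu.unit)
  refine ⟨i, ?_⟩
  rw [← hnm, ← Nat.modEq_and_modEq_iff_modEq_mul hcop]
  refine ⟨?_, hk1.trans ?_⟩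
  · rw [← ZMod.natCast_eq_natCast_iff, Nat.cast_pow, (ZMod.natCast_eq_natCast_iff _ _ _).2 h1,
      ZMod.natCast_zmod_val, ← Units.val_pow_eq_pow_val, hi, IsUnit.unit_spec]
  · simpa using (h2.pow i).symm

end H22.PRat
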