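import Cfsg.Agent.H22.DihSetup

/-!
# Fused reflections exclude solvability and a centre of even order

If the central involution of a dihedral or semidihedral 2-subgroup is conjugate to the
reflections, the group is not solvable and the involution is not central.
-/

set_option autoImplicit false
set_option linter.unusedSectionVars false
set_option linter.style.haveILetI false

open Cfsg
open scoped commutatorElement

namespace H22.Tame

universe u

/-- A nontrivial element conjugate to elements generating a commutator equal to it. -/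
theorem not_isSolvable_of_commutator {G : Type u} [Group G] {z s t : G} (hz : z ≠ 1)
    (hs : ∀ N : Subgroup G, N.Normal → z ∈ N → s ∈ N)
    (ht : ∀ N : Subgroup G, N.Normal → z ∈ N → t ∈ N) (hst : z = ⁅t, s⁆) :
    ¬ Group.IsSolvable G := by
  intro hsol
  obtain ⟨n, hn⟩ := hsol.solvable
  have hmem : ∀ i : ℕ, z ∈ derivedSeries G i := by
    intro i
    induction i with
    | zero => simp
    | succ i ih =>
      rw [derivedSeries_succ, hst]
      exact Subgroup.commutator_mem_commutator (ht _ (derivedSeries_normal G i) ih)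
        (hs _ (derivedSeries_normal G i) ih)
  exact hz (Subgroup.mem_bot.1 (hn ▸ hmem n))

variable {G : Type u} [Group G] [Fintype G] {M : Ideal AlgInt} [M.IsPrime]
  [CharP (H20.k M) 2] [IsAlgClosed (H20.k M)] {B : Set (IrrCharacter G)}

/-- The centre has odd order when no central involution lies in the defect group. -/
theorem odd_center (hM : IsPModular 2 M) (hB : IsPBlock M B) {D : Subgroup G}
    (hD : IsDefectGroup 2 M B D)
    (h : ∀ t ∈ D, orderOf t = 2 → t ∉ Subgroup.center G) :
    Odd (Nat.card (Subgroup.center G)) := by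
  classical
  haveI : Fact (Nat.Prime 2) := ⟨Nat.prime_two⟩
  rw [← Nat.not_even_iff_odd, even_iff_two_dvd]
  intro hdvd
  obtain ⟨t, ht⟩ := exists_prime_orderOf_dvd_card' 2 hdvd
  haveI : (Subgroup.zpowers (t : G)).Normal := ⟨fun a ha g => by
    obtain ⟨k, rfl⟩ := Subgroup.mem_zpowers_iff.1 ha
    rw [Subgroup.mem_center_iff.1 (zpow_mem t.2 k) g, mul_inv_cancel_right]
    exact Subgroup.zpow_mem_zpowers _ k⟩
  have hto : orderOf (t : G) = 2 := by rw [Subgroup.orderOf_coe]; exact ht
  refine h t ?_ hto t.2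
  exact H20.normal_le_defectGroup hM hB (Q := Subgroup.zpowers (t : G))
    (IsPGroup.of_card (n := 1) (by rw [Nat.card_zpowers, hto, pow_one])) hD (Subgroup.mem_zpowers _)

variable {D : Subgroup G} {f0 : MonoidAlgebra (H20.k M) G} {r s : G} {m : ℕ}

/-- A 2-block with dihedral defect group and rank three. -/
theorem dih_rank_three (h : H12.DihPairs.Dih M B D f0 r s m) (hD : IsDefectGroup 2 M B D)
    (hl : blockRank 2 B = 3) :
    Odd (Nat.card (Subgroup.center G)) ∧ ¬ Group.IsSolvable G := by
  classical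
  obtain ⟨hk, -, -, -, -⟩ := H22.DihBlock.invariants h
  have hm := h.hm
  have hk' : Nat.card B ≤ blockRank 2 B + 2 ^ (m - 1) := by omega
  set z := r ^ 2 ^ (m - 1) with hz
  have hzord : orderOf z = 2 := h.orderOf_centre
  have hz1 : z ≠ 1 := fun e => by rw [e, orderOf_one] at hzord; norm_num at hzord
  have hsr2 : s * r * (s * r) = 1 := by
    calc s * r * (s * r) = (s * r * s⁻¹) * (s * s) * r := by group
      _ = 1 := by rw [h.sr, h.s2, mul_one, inv_mul_cancel]
  have hfus : ∀ u ∈ D, u * u = 1 → u ≠ 1 → IsConj z u := by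
    intro u hu hu2 hu1
    obtain ⟨b, hb, -⟩ := H22.DihBlock.exists_sub h hu
    obtain ⟨g, -, -, hg, -⟩ := H22.DihBlock.exists_rotation_invol h hk' hu2 hu1 hb
    exact (isConj_iff.2 ⟨g, hg⟩).symm
  have hs : IsConj z s := hfus s h.sD h.s2 fun e => h.snot (e ▸ one_mem _)
  have hsr : IsConj z (s * r) := hfus _ (mul_mem h.sD h.rD) hsr2 fun e =>
    h.snot (by rw [eq_inv_of_mul_eq_one_left e]; exact inv_mem (Subgroup.mem_zpowers r))
  have hnorm : ∀ N : Subgroup G, N.Normal → ∀ {a b : G}, IsConj a b → a ∈ N → b ∈ N := by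
    intro N hN a b hab ha
    obtain ⟨g, rfl⟩ := isConj_iff.1 hab
    exact hN.conj_mem a ha g
  refine ⟨odd_center h.hM h.hB hD fun t ht ht2 htc => ?_, ?_⟩
  · have ht2' : t * t = 1 := by rw [← pow_two, ← ht2, pow_orderOf_eq_one]
    have hconj := hfus t ht ht2' fun e => by rw [e, orderOf_one] at ht2; norm_num at ht2
    obtain ⟨g, hg⟩ := isConj_iff.1 hconj.symm
    rw [Subgroup.mem_center_iff.1 htc g, mul_inv_cancel_right] at hg
    obtain ⟨g', hg'⟩ := isConj_iff.1 hs
    rw [← hg, Subgroup.mem_center_iff.1 htc g', mul_inv_cancel_right] at hg'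
    refine h.snot ?_
    rw [← hg', hg]
    exact Subgroup.npow_mem_zpowers r _
  · have h2 : 2 ^ (m - 2) + 2 ^ (m - 2) = 2 ^ (m - 1) := by
      rw [← two_mul, ← pow_succ']; congr 1; omega
    refine not_isSolvable_of_commutator (s := s) (t := r ^ 2 ^ (m - 2)) hz1
      (fun N hN hzN => hnorm N hN hs hzN) (fun N hN hzN => ?_) ?_
    · refine pow_mem ?_ _
      have h1 := mul_mem (inv_mem (hnorm N hN hs hzN)) (hnorm N hN hsr hzN)
      rwa [inv_mul_cancel_left] at h1
    · rw [commutatorElement_def, hz, ← h2, pow_add,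
        show r ^ 2 ^ (m - 2) * s * (r ^ 2 ^ (m - 2))⁻¹ * s⁻¹ =
          r ^ 2 ^ (m - 2) * (s * (r ^ 2 ^ (m - 2))⁻¹ * s⁻¹) by group,
        h.s_conj (inv_mem (Subgroup.npow_mem_zpowers r _)), inv_inv]

end H22.Tame
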