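import Mathlib
import Cfsg.Agent.H20.FirstMain
import Cfsg.Agent.H20.DefectApps

/-!
In the special linear group over a field of characteristic `p`, a nontrivial defect group of a
`p`-block is a Sylow `p`-subgroup.

If `D` is a nontrivial defect group and `W` its space of fixed vectors, the subgroup of elements
fixing `W` and `V / W` pointwise lies in `D`, so a `p`-regular element centralizing `D` is scalar.
-/

set_option autoImplicit false

open Cfsg Matrix

namespace H22.SLDefect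

variable {n : ℕ} {F : Type*} [Field F]

local notation "𝔾" => Matrix.SpecialLinearGroup (Fin n) F

theorem mv_mul (a b : 𝔾) (v : Fin n → F) : (a * b).1 *ᵥ v = a.1 *ᵥ (b.1 *ᵥ v) :=
  (mulVec_mulVec v a.1 b.1).symm

theorem mv_one (v : Fin n → F) : (1 : 𝔾).1 *ᵥ v = v := one_mulVec v

theorem mv_cancel (a : 𝔾) (v : Fin n → F) : a.1 *ᵥ ((a⁻¹ : 𝔾).1 *ᵥ v) = v := by
  rw [← mv_mul, mul_inv_cancel, mv_one]

/-- The vectors fixed by `D`. -/
def fixSpace (D : Subgroup 𝔾) : Submodule F (Fin n → F) where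
  carrier := {v | ∀ d ∈ D, d.1 *ᵥ v = v}
  add_mem' {a b} ha hb d hd := by rw [mulVec_add, ha d hd, hb d hd]
  zero_mem' d _ := mulVec_zero _
  smul_mem' c v hv d hd := by rw [mulVec_smul, hv d hd]

/-- The elements that fix `W` and the quotient by `W` pointwise. -/
def radical (W : Submodule F (Fin n → F)) : Subgroup 𝔾 where
  carrier := {g | (∀ w ∈ W, g.1 *ᵥ w = w) ∧
    ∀ v, g.1 *ᵥ v - v ∈ W}
  one_mem' := ⟨fun w _ => mv_one w, fun v => by rw [mv_one, sub_self]; exact W.zero_mem⟩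
  mul_mem' {a b} ha hb := by
    refine ⟨fun w hw => ?_, fun v => ?_⟩
    · rw [mv_mul, hb.1 w hw, ha.1 w hw]
    · rw [mv_mul]
      have h := W.add_mem (ha.2 (b.1 *ᵥ v)) (hb.2 v)
      rwa [sub_add_sub_cancel] at h
  inv_mem' {a} ha := by
    have key : ∀ v, a.1 *ᵥ ((a⁻¹ : 𝔾).1 *ᵥ v) = v := mv_cancel a
    have h2 : ∀ v, (a⁻¹ : 𝔾).1 *ᵥ v - v ∈ W := fun v => by
      have h := W.neg_mem (ha.2 ((a⁻¹ : 𝔾).1 *ᵥ v))
      rwa [key, neg_sub] at h
    refine ⟨fun w hw => ?_, h2⟩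
    have hmem := h2 w
    have hw' : (a⁻¹ : 𝔾).1 *ᵥ w ∈ W := by
      simpa using W.add_mem hmem hw
    have h := key w
    rw [ha.1 _ hw'] at h
    exact h

theorem pow_mulVec {x : Matrix (Fin n) (Fin n) F} {W : Submodule F (Fin n → F)}
    (h1 : ∀ w ∈ W, x *ᵥ w = w) (h2 : ∀ v, x *ᵥ v - v ∈ W) (k : ℕ) (v : Fin n → F) :
    (x ^ k) *ᵥ v = v + k • (x *ᵥ v - v) := by
  induction k with
  | zero => simp
  | succ k ih =>
    rw [pow_succ', ← mulVec_mulVec, ih, mulVec_add,
      h1 _ (nsmul_mem (h2 v) k), succ_nsmul]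
    abel

theorem pow_p_eq_one {p : ℕ} [CharP F p] {x : Matrix (Fin n) (Fin n) F}
    {W : Submodule F (Fin n → F)} (h1 : ∀ w ∈ W, x *ᵥ w = w) (h2 : ∀ v, x *ᵥ v - v ∈ W) :
    x ^ p = 1 := by
  refine Matrix.ext_of_mulVec_single fun j => ?_
  rw [pow_mulVec h1 h2, one_mulVec]
  ext i
  simp [nsmul_eq_mul]

theorem isPGroup_radical (p : ℕ) [CharP F p] (W : Submodule F (Fin n → F)) :
    IsPGroup p (radical W : Subgroup 𝔾) := fun x => ⟨1, Subtype.ext (Subtype.ext (by
  rw [pow_one, SubmonoidClass.coe_pow]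
  exact (Matrix.SpecialLinearGroup.coe_pow (x : 𝔾) p).trans (pow_p_eq_one x.2.1 x.2.2)))⟩

theorem normalizer_le (D : Subgroup 𝔾) :
    Subgroup.normalizer (D : Set 𝔾) ≤
      Subgroup.normalizer ((radical (fixSpace D) : Subgroup 𝔾) : Set 𝔾) := by
  have hW : ∀ g ∈ Subgroup.normalizer (D : Set 𝔾), ∀ w ∈ fixSpace D,
      g.1 *ᵥ w ∈ fixSpace D := by
    intro g hg w hw d hd
    have hd' : g⁻¹ * d * g ∈ D := by
      have := (Subgroup.mem_normalizer_iff.1 (inv_mem hg) d).1 hd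
      simpa using this
    rw [← mv_mul, show d * g = g * (g⁻¹ * d * g) by group, mv_mul, hw _ hd']
  have key : ∀ g ∈ Subgroup.normalizer (D : Set 𝔾), ∀ x ∈ (radical (fixSpace D) : Subgroup 𝔾),
      g * x * g⁻¹ ∈ (radical (fixSpace D) : Subgroup 𝔾) := by
    intro g hg x hx
    refine ⟨fun w hw => ?_, fun v => ?_⟩
    · rw [mv_mul, mv_mul, hx.1 _ (hW _ (inv_mem hg) w hw), mv_cancel]
    · have h := hW g hg _ (hx.2 ((g⁻¹ : 𝔾).1 *ᵥ v))
      rw [mulVec_sub, mv_cancel, ← mv_mul, ← mv_mul] at h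
      exact h
  intro g hg
  refine Subgroup.mem_normalizer_iff.2 fun x => ⟨key g hg x, fun h => ?_⟩
  simpa [mul_assoc] using key _ (inv_mem hg) _ h

theorem centralizer_radical {W : Submodule F (Fin n → F)} (hW0 : W ≠ ⊥) (hW1 : W ≠ ⊤) {g : 𝔾}
    (hg : g ∈ Subgroup.centralizer ((radical W : Subgroup 𝔾) : Set 𝔾)) :
    ∃ c : F, c ≠ 0 ∧ (∀ w ∈ W, g.1 *ᵥ w = c • w) ∧
      ∀ v, g.1 *ᵥ v - c • v ∈ W := by
  classical
  set A : Matrix (Fin n) (Fin n) F := g.1 with hA
  have key : ∀ (a : Fin n → F), a ∈ W → ∀ ℓ : (Fin n → F) →ₗ[F] F, (∀ w ∈ W, ℓ w = 0) →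
      ∀ v, ℓ v • (A *ᵥ a) = ℓ (A *ᵥ v) • a := by
    intro a ha ℓ hℓ v
    set φ : Fin n → F := fun j => ℓ (Pi.single j 1)
    have hφ : ∀ u, φ ⬝ᵥ u = ℓ u := by
      intro u
      conv_rhs => rw [pi_eq_sum_univ u, map_sum]
      simp only [dotProduct, map_smul, smul_eq_mul, φ]
      refine Finset.sum_congr rfl fun j _ => ?_
      rw [mul_comm]
      congr 2
      ext i
      simp [Pi.single_apply, eq_comm]
    set X : Matrix (Fin n) (Fin n) F := 1 + vecMulVec a φ with hX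
    have hXu : ∀ u, X *ᵥ u = u + ℓ u • a := by
      intro u
      rw [hX, add_mulVec, one_mulVec]
      congr 1
      ext i
      rw [← hφ]
      simp [mulVec, dotProduct, vecMulVec_apply, Finset.mul_sum, mul_comm, mul_left_comm]
    have hdet : X.det = 1 := by
      rw [hX, vecMulVec_eq Unit, det_one_add_replicateCol_mul_replicateRow, hφ, hℓ a ha, add_zero]
    have hmem : (⟨X, hdet⟩ : 𝔾) ∈ (radical W : Subgroup 𝔾) := by
      refine ⟨fun w hw => ?_, fun u => ?_⟩
      · show X *ᵥ w = w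
        rw [hXu, hℓ w hw, zero_smul, add_zero]
      · show X *ᵥ u - u ∈ W
        rw [hXu, add_sub_cancel_left]
        exact W.smul_mem _ ha
    have hc : X * A = A * X := congrArg Subtype.val (hg _ hmem)
    have h := congrArg (· *ᵥ v) hc
    simp only [← mulVec_mulVec, hXu, mulVec_add, mulVec_smul] at h
    exact (add_left_cancel h).symm
  obtain ⟨v₀, hv₀⟩ : ∃ v, v ∉ W := by
    by_contra h
    push Not at h
    exact hW1 (eq_top_iff.2 fun v _ => h v)
  obtain ⟨a₀, ha₀, ha0⟩ := W.exists_mem_ne_zero_of_ne_bot hW0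
  obtain ⟨ℓ₀, h₀, hℓ₀⟩ := Submodule.exists_dual_map_eq_bot_of_notMem hv₀ inferInstance
  have hℓ₀' : ∀ w ∈ W, ℓ₀ w = 0 := fun w hw => by
    have := Submodule.mem_map_of_mem (f := ℓ₀) hw
    rwa [hℓ₀, Submodule.mem_bot] at this
  set c := ℓ₀ (A *ᵥ v₀) / ℓ₀ v₀ with hc
  have hw : ∀ w ∈ W, A *ᵥ w = c • w := fun w hw => by
    rw [hc, div_eq_inv_mul, mul_smul, ← key w hw ℓ₀ hℓ₀' v₀, smul_smul, inv_mul_cancel₀ h₀,
      one_smul]
  refine ⟨c, fun h => ?_, hw, fun v => ?_⟩
  · have h2 := hw a₀ ha₀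
    rw [h, zero_smul] at h2
    refine ha0 ?_
    have h3 := mv_mul g⁻¹ g a₀
    rwa [inv_mul_cancel, mv_one, h2, mulVec_zero] at h3
  · by_contra hv
    obtain ⟨ℓ, hne, hℓ⟩ := Submodule.exists_dual_map_eq_bot_of_notMem hv inferInstance
    refine hne ?_
    have hℓ' : ∀ w ∈ W, ℓ w = 0 := fun w hw => by
      have := Submodule.mem_map_of_mem (f := ℓ) hw
      rwa [hℓ, Submodule.mem_bot] at this
    have h2 := key a₀ ha₀ ℓ hℓ' v
    rw [hw a₀ ha₀, smul_smul] at h2
    have h3 := smul_left_injective F ha0 h2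
    rw [map_sub, map_smul, smul_eq_mul, ← h3, mul_comm, sub_self]

variable [Fintype F]

theorem fixSpace_ne_bot {p : ℕ} [Fact p.Prime] [CharP F p] (hn : 0 < n) {D : Subgroup 𝔾}
    (hD : IsPGroup p D) : fixSpace D ≠ ⊥ := by
  classical
  let : MulAction D (Fin n → F) :=
    { smul := fun d v => (d : 𝔾).1 *ᵥ v
      one_smul := fun v => mv_one v
      mul_smul := fun a b v => mv_mul _ _ v }
  intro h
  have hp : p ∣ Nat.card (Fin n → F) := by
    obtain ⟨k, -, hk⟩ := FiniteField.card F p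
    rw [Nat.card_eq_fintype_card, Fintype.card_fun, hk, ← pow_mul]
    exact dvd_pow_self p (by simp [hn.ne'])
  obtain ⟨v, hv, hne⟩ := hD.exists_fixed_point_of_prime_dvd_card_of_fixed_point (Fin n → F) hp
    (a := 0) (fun d => mulVec_zero _)
  have hmem : v ∈ fixSpace D := fun d hd => hv ⟨d, hd⟩
  rw [h, Submodule.mem_bot] at hmem
  exact hne hmem.symm

/-- A nontrivial defect group is a Sylow subgroup. -/
theorem card_eq_of_ne_bot {p : ℕ} [Fact p.Prime] [CharP F p] (hn : 0 < n) {M : Ideal AlgInt}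
    [M.IsPrime] (hM : IsPModular p M) {B : Set (IrrCharacter 𝔾)} (hB : IsPBlock M B)
    {D : Subgroup 𝔾} (hD : IsDefectGroup p M B D) (hD1 : D ≠ ⊥) :
    Nat.card D = p ^ (Nat.card 𝔾).factorization p := by
  classical
  haveI := Fintype.ofFinite 𝔾
  have hDp : IsPGroup p D := H20.IsDefectGroup.isPGroup hD
  set W := fixSpace D with hW
  have hW0 : W ≠ ⊥ := fixSpace_ne_bot hn hDp
  have hW1 : W ≠ ⊤ := by
    intro h
    refine hD1 (eq_bot_iff.2 fun d hd => Subgroup.mem_bot.2 (Subtype.ext ?_))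
    refine Matrix.ext_of_mulVec_single fun j => ?_
    show d.1 *ᵥ Pi.single j 1 = (1 : 𝔾).1 *ᵥ Pi.single j 1
    rw [mv_one]
    exact (show Pi.single j 1 ∈ W from h ▸ Submodule.mem_top) d hd
  -- the radical lies in `D`
  set N := Subgroup.normalizer (D : Set 𝔾) with hN
  set R : Subgroup 𝔾 := radical W
  have hNR : N ≤ Subgroup.normalizer (R : Set 𝔾) := normalizer_le D
  have hDN : D ≤ N := Subgroup.le_normalizer
  set P := R ⊔ D
  have hP : IsPGroup p P :=
    IsPGroup.to_sup_of_normal_left' (isPGroup_radical p W) hDp (hDN.trans hNR)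
  haveI : Fintype N := Fintype.ofFinite _
  obtain ⟨b, hb, hbD, -⟩ := H20.first_main_exists hM hDp hB hD
  have hconj : ∀ x ∈ N, ∀ d ∈ P, x * d * x⁻¹ ∈ P := by
    intro x hx d hd
    have hle : P ≤ P.comap (MulAut.conj x).toMonoidHom := sup_le
      (fun r hr => Subgroup.mem_comap.2 (Subgroup.mem_sup_left
        ((Subgroup.mem_normalizer_iff.1 (hNR hx) r).1 hr)))
      (fun r hr => Subgroup.mem_comap.2 (Subgroup.mem_sup_right
        ((Subgroup.mem_normalizer_iff.1 hx r).1 hr)))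
    exact hle hd
  have hPN : N ≤ Subgroup.normalizer (P : Set 𝔾) := fun x hx =>
    Subgroup.mem_normalizer_iff.2 fun d => ⟨hconj x hx d, fun h => by
      simpa [mul_assoc] using hconj x⁻¹ (inv_mem hx) _ h⟩
  haveI : (P.subgroupOf N).Normal := Subgroup.normal_subgroupOf_of_le_normalizer hPN
  have hQ : P ⊓ N ≤ D := fun x hx =>
    Subgroup.mem_subgroupOf.1 (H20.normal_le_defectGroup hM hb
      (Q := P.subgroupOf N) (hP.comap_subtype) hbD
      (x := ⟨x, hx.2⟩) (Subgroup.mem_subgroupOf.2 hx.1))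
  have hPD : P ≤ D := by
    by_contra hle
    haveI : Group.IsNilpotent P := hP.isNilpotent
    have hlt : D.subgroupOf P < ⊤ := lt_top_iff_ne_top.2 fun h => hle fun x hx =>
      Subgroup.mem_subgroupOf.1 (h ▸ Subgroup.mem_top (⟨x, hx⟩ : P))
    obtain ⟨x, hx, hxD⟩ := SetLike.exists_of_lt
      (Group.normalizerCondition_of_isNilpotent (D.subgroupOf P) hlt)
    refine hxD (Subgroup.mem_subgroupOf.2 (hQ ⟨x.2, Subgroup.mem_normalizer_iff.2 fun d => ?_⟩))
    have hDP : D ≤ P := le_sup_right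
    constructor
    · intro hd
      exact Subgroup.mem_subgroupOf.1 ((Subgroup.mem_normalizer_iff.1 hx ⟨d, hDP hd⟩).1
        (Subgroup.mem_subgroupOf.2 hd))
    · intro hd
      have hdP : d ∈ P := by
        have := mul_mem (mul_mem (inv_mem x.2) (hDP hd)) x.2
        simpa [mul_assoc] using this
      exact Subgroup.mem_subgroupOf.1 ((Subgroup.mem_normalizer_iff.1 hx ⟨d, hdP⟩).2
        (Subgroup.mem_subgroupOf.2 hd))
  have hRD : R ≤ D := le_sup_left.trans hPD
  -- a defect class is central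
  obtain ⟨g, hg, hS⟩ := id hD
  have hgC : g ∈ Subgroup.centralizer (D : Set 𝔾) := H20.IsSylC.mem_centralizer hS
  have hreg : ¬ p ∣ orderOf g :=
    H20.regular_of_coeff_ne_zero hM hB ((H20.isDefectClass_iff hB g).1 hg).1
  obtain ⟨c, hc, hc1, hc2⟩ := centralizer_radical hW0 hW1
    (Subgroup.centralizer_le (SetLike.coe_subset_coe.2 hRD) hgC)
  have hcen : ∀ x : 𝔾, x * g = g * x := by
    have hgp : g.1 ^ p = c ^ p • (1 : Matrix (Fin n) (Fin n) F) := by
      have h := pow_p_eq_one (p := p) (W := W) (x := c⁻¹ • g.1)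
        (fun w hw => by rw [smul_mulVec, hc1 w hw, inv_smul_smul₀ hc])
        (fun v => by
          have := W.smul_mem c⁻¹ (hc2 v)
          rwa [smul_sub, inv_smul_smul₀ hc, ← smul_mulVec] at this)
      rw [smul_pow] at h
      rw [← h, smul_smul, inv_pow, mul_inv_cancel₀ (pow_ne_zero _ hc), one_smul]
    obtain ⟨e, he⟩ : ∃ e : ℕ, (g ^ p) ^ e = g :=
      exists_pow_eq_self_of_coprime (((Fact.out : p.Prime).coprime_iff_not_dvd).2 hreg)
    intro x
    rw [← he]
    refine Subtype.ext ?_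
    simp only [Matrix.SpecialLinearGroup.coe_mul, Matrix.SpecialLinearGroup.coe_pow]
    rw [hgp, smul_pow, one_pow, mul_smul_comm, smul_mul_assoc, mul_one, one_mul]
  rw [H20.IsSylC.card hS]
  have htop : Subgroup.centralizer ({g} : Set 𝔾) = ⊤ :=
    eq_top_iff.2 fun x _ => Subgroup.mem_centralizer_singleton_iff.2 (hcen x)
  rw [htop, Subgroup.card_top]

/-- In defining characteristic every block has defect zero or full defect. -/
theorem defect_zero_or_full {p : ℕ} [Fact p.Prime] [CharP F p] (hn : 0 < n) {M : Ideal AlgInt}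
    (hM : IsPModular p M) (B : Set (IrrCharacter 𝔾)) (hB : IsPBlock M B) :
    blockDefect p B = 0 ∨ blockDefect p B = (Nat.card 𝔾).factorization p := by
  classical
  haveI := H20.isPrime_of_modular hM
  haveI := Fintype.ofFinite 𝔾
  obtain ⟨D, hD⟩ := H20.exists_defectGroup hM hB
  have hc := H20.card_defectGroup hM hB hD
  by_cases hD1 : D = ⊥
  · left
    subst hD1
    rw [Subgroup.card_bot] at hc
    exact ((Nat.pow_eq_one).1 hc.symm).resolve_left (Fact.out : p.Prime).one_lt.ne'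
  · right
    rw [card_eq_of_ne_bot hn hM hB hD hD1] at hc
    exact (Nat.pow_right_injective (Fact.out : p.Prime).two_le hc).symm

end H22.SLDefect
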