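import Mathlib
import Cfsg.Agent.H37.Sylow
import Cfsg.Agent.H40.Bruhat
import Cfsg.Agent.H22.TauSum

/-!
Monomial elements of `SL_n(F)` and their intersections with the unitriangular group.
-/

set_option autoImplicit false
set_option linter.unusedSectionVars false

open Matrix Finset

namespace H22.SLMono

/-! ### Pairs kept in order by a permutation -/

section Perm

variable {n : ℕ}

/-- Pairs `a < b` that `σ⁻¹` keeps in order. -/
def asc (σ : Equiv.Perm (Fin n)) : Finset (Fin n × Fin n) :=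
  univ.filter fun x => x.1 < x.2 ∧ σ.symm x.1 < σ.symm x.2

theorem mem_asc {σ : Equiv.Perm (Fin n)} {x : Fin n × Fin n} :
    x ∈ asc σ ↔ x.1 < x.2 ∧ σ.symm x.1 < σ.symm x.2 := by simp [asc]

theorem swap_lt_swap {i j a b : Fin n} (hij : (i : ℕ) + 1 = j) (hab : a < b)
    (h : ¬ (a = i ∧ b = j)) : Equiv.swap i j a < Equiv.swap i j b := by
  rw [Equiv.swap_apply_def, Equiv.swap_apply_def]
  simp only [Fin.lt_def, Fin.ext_iff] at *
  split_ifs <;> omega

theorem card_asc_mul_swap (σ : Equiv.Perm (Fin n)) {i j : Fin n} (hij : (i : ℕ) + 1 = j)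
    (hd : σ j < σ i) : (asc (σ * Equiv.swap i j)).card = (asc σ).card + 1 := by
  have hne : (σ j, σ i) ∉ asc σ := by
    simp only [mem_asc, Equiv.symm_apply_apply, Fin.lt_def]
    omega
  have hlt : i < j := by rw [Fin.lt_def]; omega
  rw [← card_insert_of_notMem hne]
  congr 1
  ext ⟨a, b⟩
  have hsymm : ∀ c, (σ * Equiv.swap i j).symm c = Equiv.swap i j (σ.symm c) := fun c => by
    simp [Equiv.Perm.mul_def]
  simp only [mem_asc, mem_insert, hsymm, Prod.mk.injEq]
  constructor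
  · rintro ⟨hab, h⟩
    by_cases hc : σ.symm a < σ.symm b
    · exact Or.inr ⟨hab, hc⟩
    · have hc' : σ.symm b < σ.symm a :=
        lt_of_le_of_ne (not_lt.1 hc) fun e => hab.ne (σ.symm.injective e).symm
      left
      by_contra hne'
      refine lt_irrefl _ (h.trans (swap_lt_swap hij hc' fun e => hne' ?_))
      exact ⟨by rw [← e.2, Equiv.apply_symm_apply], by rw [← e.1, Equiv.apply_symm_apply]⟩
  · rintro (⟨rfl, rfl⟩ | ⟨hab, h⟩)
    · simp [hd, hlt]
    · refine ⟨hab, swap_lt_swap hij h fun e => ?_⟩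
      rw [← σ.apply_symm_apply a, ← σ.apply_symm_apply b, e.1, e.2] at hab
      exact lt_asymm hab hd

theorem card_asc_inv (σ : Equiv.Perm (Fin n)) : (asc σ⁻¹).card = (asc σ).card := by
  refine card_bij (fun x _ => (σ x.1, σ x.2)) (fun x hx => ?_) (fun x _ y _ h => ?_) fun y hy => ?_
  · simp only [mem_asc, Equiv.Perm.inv_def, Equiv.symm_symm] at hx
    simpa [mem_asc] using And.intro hx.2 hx.1
  · simpa [Prod.ext_iff] using h
  · refine ⟨(σ.symm y.1, σ.symm y.2), ?_, by simp⟩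
    rw [mem_asc] at hy
    simpa [mem_asc, Equiv.Perm.inv_def] using And.intro hy.2 hy.1

theorem card_asc_swap_mul (σ : Equiv.Perm (Fin n)) {i j : Fin n} (hij : (i : ℕ) + 1 = j)
    (hd : σ.symm j < σ.symm i) : (asc (Equiv.swap i j * σ)).card = (asc σ).card + 1 := by
  rw [← card_asc_inv (Equiv.swap i j * σ), _root_.mul_inv_rev, Equiv.swap_inv,
    card_asc_mul_swap σ⁻¹ hij hd, card_asc_inv]

theorem asc_rev : asc (Fin.revPerm : Equiv.Perm (Fin n)) = ∅ := by
  ext x
  simp only [mem_asc, Fin.revPerm_symm, Fin.revPerm_apply, Fin.rev_lt_rev, notMem_empty, iff_false]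
  exact fun h => lt_asymm h.1 h.2

theorem eq_rev_of_asc {σ : Equiv.Perm (Fin n)} (h : asc σ = ∅) : σ = Fin.revPerm := by
  have ha : StrictMono fun c => Fin.rev (σ.symm c) := by
    intro a b hab
    refine Fin.rev_lt_rev.2 (lt_of_le_of_ne (not_lt.1 fun hc => ?_)
      fun e => hab.ne (σ.symm.injective e).symm)
    have hm : (a, b) ∈ asc σ := mem_asc.2 ⟨hab, hc⟩
    rw [h] at hm
    exact notMem_empty _ hm
  refine Equiv.ext fun c => ?_
  have h2 : Fin.rev (σ.symm (σ c)) = σ c := by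
    have := (StrictMono.range_inj ha strictMono_id).1 (by
      rw [Set.range_id]
      exact Set.range_eq_univ.2 (Fin.rev_surjective.comp σ.symm.surjective))
    exact congrFun this (σ c)
  rw [← h2]
  simp

end Perm

variable {n : ℕ} {F : Type*} [Field F]

local notation "𝔾" => Matrix.SpecialLinearGroup (Fin n) F

/-! ### Monomial elements -/

/-- `g` is monomial with permutation `σ` and entries `d`. -/
def HasData (g : 𝔾) (σ : Equiv.Perm (Fin n)) (d : Fin n → F) : Prop :=
  ∀ a b, g.1 a b = if a = σ b then d b else 0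

theorem HasData.eq {g h : 𝔾} {σ : Equiv.Perm (Fin n)} {d : Fin n → F} (hg : HasData g σ d)
    (hh : HasData h σ d) : g = h :=
  Subtype.ext (Matrix.ext fun a b => by rw [hg, hh])

theorem HasData.congr {g : 𝔾} {σ : Equiv.Perm (Fin n)} {d e : Fin n → F} (hg : HasData g σ d)
    (h : ∀ b, d b = e b) : HasData g σ e := fun a b => by rw [hg, h]

theorem hasData_one : HasData (1 : 𝔾) 1 fun _ => 1 := fun a b => by
  show (1 : Matrix (Fin n) (Fin n) F) a b = _
  rw [Matrix.one_apply]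
  exact if_congr (by simp) rfl rfl

theorem HasData.mul {g h : 𝔾} {σ τ : Equiv.Perm (Fin n)} {d e : Fin n → F} (hg : HasData g σ d)
    (hh : HasData h τ e) : HasData (g * h) (σ * τ) fun b => d (τ b) * e b := fun a b => by
  show (g.1 * h.1) a b = _
  rw [Matrix.mul_apply, sum_eq_single (τ b) (fun c _ hc => by rw [hh c b, if_neg hc, mul_zero])
    (fun hc => absurd (mem_univ _) hc), hh _ b, if_pos rfl, hg, ite_mul, zero_mul]
  rfl

theorem HasData.ne_zero {g : 𝔾} {σ : Equiv.Perm (Fin n)} {d : Fin n → F} (hg : HasData g σ d)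
    (b : Fin n) : d b ≠ 0 := fun h => by
  have hcol : ∀ a, g.1 a b = 0 := fun a => by rw [hg, h, ite_self]
  have := det_eq_zero_of_column_eq_zero b hcol
  rw [g.2] at this
  exact one_ne_zero this

theorem HasData.inv {g : 𝔾} {σ : Equiv.Perm (Fin n)} {d : Fin n → F} (hg : HasData g σ d) :
    HasData g⁻¹ σ⁻¹ fun b => (d (σ⁻¹ b))⁻¹ := by
  have key : g.1 * Matrix.of (fun a b => if a = σ⁻¹ b then (d (σ⁻¹ b))⁻¹ else 0) = 1 := by
    ext a b
    rw [Matrix.mul_apply, sum_eq_single (σ⁻¹ b) (fun c _ hc => by rw [of_apply, if_neg hc, mul_zero])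
      (fun hc => absurd (mem_univ _) hc), of_apply, if_pos rfl, hg]
    simp only [Equiv.Perm.inv_def, Equiv.apply_symm_apply, Matrix.one_apply]
    split_ifs
    · exact mul_inv_cancel₀ (hg.ne_zero _)
    · exact zero_mul _
  have h2 : (g⁻¹).1 * g.1 = 1 := congrArg Subtype.val (inv_mul_cancel g)
  have e := congrArg ((g⁻¹).1 * ·) key
  simp only [← mul_assoc, h2, one_mul, mul_one] at e
  intro a b
  rw [← e, of_apply]

theorem HasData.perm_unique {g : 𝔾} {σ τ : Equiv.Perm (Fin n)} {d e : Fin n → F}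
    (hg : HasData g σ d) (hh : HasData g τ e) : σ = τ ∧ d = e := by
  have h : ∀ b, σ b = τ b := fun b => by
    by_contra hne
    have h1 := hg (σ b) b
    rw [if_pos rfl, hh (σ b) b, if_neg hne] at h1
    exact hg.ne_zero b h1.symm
  refine ⟨Equiv.ext h, funext fun b => ?_⟩
  have h1 := hg (σ b) b
  rw [if_pos rfl, hh (σ b) b, if_pos (h b)] at h1
  exact h1.symm

/-- Conjugation of a matrix by a monomial element. -/
theorem HasData.conj_apply {g : 𝔾} {σ : Equiv.Perm (Fin n)} {d : Fin n → F} (hg : HasData g σ d)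
    (u : 𝔾) (a b : Fin n) : (g⁻¹ * u * g).1 a b = (d a)⁻¹ * u.1 (σ a) (σ b) * d b := by
  show ((g⁻¹).1 * u.1 * g.1) a b = _
  rw [Matrix.mul_apply, sum_eq_single (σ b) (fun c _ hc => by rw [hg c b, if_neg hc, mul_zero])
    (fun hc => absurd (mem_univ _) hc), hg _ b, if_pos rfl, Matrix.mul_apply,
    sum_eq_single (σ a) (fun c _ hc => by
      rw [hg.inv a c, if_neg (fun e => hc (by rw [e]; simp)), zero_mul])
    (fun hc => absurd (mem_univ _) hc), hg.inv a (σ a)]
  simp

/-! ### The unitriangular group -/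

/-- The unitriangular group. -/
abbrev uni (n : ℕ) (F : Type*) [Field F] : Subgroup (Matrix.SpecialLinearGroup (Fin n) F) :=
  H37.unitriangularSL n F

theorem mem_uni {g : 𝔾} : g ∈ uni n F ↔ (∀ a b, b < a → g.1 a b = 0) ∧ ∀ a, g.1 a a = 1 := by
  constructor
  · intro h
    exact ⟨fun a b hab => h.1 hab, h.2⟩
  · intro h
    exact ⟨fun a b hab => h.1 a b hab, h.2⟩

theorem HasData.conj_mem_uni {g : 𝔾} {σ : Equiv.Perm (Fin n)} {d : Fin n → F}
    (hg : HasData g σ d) {u : 𝔾} (hu : u ∈ uni n F) :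
    g⁻¹ * u * g ∈ uni n F ↔
      ∀ x : Fin n × Fin n, x.1 < x.2 → x ∉ asc σ → u.1 x.1 x.2 = 0 := by
  rw [mem_uni] at hu ⊢
  constructor
  · rintro ⟨h, -⟩ ⟨a, b⟩ hab hns
    have hlt : σ.symm b < σ.symm a := by
      refine lt_of_le_of_ne (not_lt.1 fun hc => hns (mem_asc.2 ⟨hab, hc⟩)) fun e => ?_
      exact hab.ne (σ.symm.injective e).symm
    have h1 := h _ _ hlt
    rw [hg.conj_apply] at h1
    simpa [hg.ne_zero] using h1
  · intro h
    refine ⟨fun a b hab => ?_, fun a => ?_⟩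
    · rw [hg.conj_apply]
      rcases lt_trichotomy (σ a) (σ b) with hc | hc | hc
      · rw [h (σ a, σ b) hc (fun hm => by
          have := (mem_asc.1 hm).2
          simp only [Equiv.symm_apply_apply] at this
          exact lt_asymm this hab)]
        simp
      · exact absurd (σ.injective hc) hab.ne'
      · rw [hu.1 _ _ hc]; simp
    · rw [hg.conj_apply, hu.2, mul_one, inv_mul_cancel₀ (hg.ne_zero a)]

variable [Fintype F]

theorem qn_eq {g : 𝔾} {σ : Equiv.Perm (Fin n)} {d : Fin n → F} (hg : HasData g σ d) :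
    TauSum.qn (uni n F) g = Fintype.card F ^ (asc σ).card := by
  classical
  let e₀ : uni n F ≃ H37.unitriangular n F :=
    { toFun := fun u => ⟨SpecialLinearGroup.toGL u.1, u.2⟩
      invFun := fun u => ⟨⟨u.1.1, by rw [det_of_isUpperTriangular u.2.1]; simp [u.2.2]⟩, u.2⟩
      left_inv := fun u => rfl
      right_inv := fun u => Subtype.ext (Units.ext rfl) }
  let e := e₀.trans (H37.unitriangularEquiv n F)
  have hcond : ∀ u : uni n F, g⁻¹ * (u : 𝔾) * g ∈ uni n F ↔
      ∀ x : {x : Fin n × Fin n // x.1 < x.2}, x.1 ∉ asc σ → e u x = 0 := fun u => by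
    rw [hg.conj_mem_uni u.2]
    exact ⟨fun h x hx => h x.1 x.2 hx, fun h x hx hn => h ⟨x, hx⟩ hn⟩
  rw [TauSum.qn, Nat.card_congr (Equiv.subtypeEquiv e
      (q := fun f => ∀ x : {x : Fin n × Fin n // x.1 < x.2}, x.1 ∉ asc σ → f x = 0) hcond),
    Nat.card_congr (β := asc σ → F)
      { toFun := fun f x => f.1 ⟨x.1, (mem_asc.1 x.2).1⟩
        invFun := fun f => ⟨fun x => if h : x.1 ∈ asc σ then f ⟨x.1, h⟩ else 0,
          fun x hx => dif_neg hx⟩
        left_inv := fun f => by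
          ext x
          simp only
          split_ifs with h
          · rfl
          · exact (f.2 x h).symm
        right_inv := fun f => by
          funext x
          simp }]
  simp [Nat.card_eq_fintype_card]

/-- Every element is `u₁ m u₂` with `m` monomial. -/
theorem exists_monomial (g : 𝔾) : ∃ u ∈ uni n F, ∃ (m : 𝔾), ∃ v ∈ uni n F,
    (∃ σ d, HasData m σ d) ∧ g = u * m * v := by
  classical
  obtain ⟨b₁, b₂, σ, h₁, h₂, he⟩ := H40.exists_bruhat (SpecialLinearGroup.toGL g)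
  set B₁ : Matrix (Fin n) (Fin n) F := b₁.1 with hB₁
  set B₂ : Matrix (Fin n) (Fin n) F := b₂.1 with hB₂
  have hd1 : ∀ a, B₁ a a ≠ 0 := fun a h0 => by
    have h := (Matrix.isUnit_iff_isUnit_det B₁).1 b₁.isUnit
    rw [det_of_isUpperTriangular h₁] at h
    exact h.ne_zero (prod_eq_zero (mem_univ a) h0)
  have hd2 : ∀ a, B₂ a a ≠ 0 := fun a h0 => by
    have h := (Matrix.isUnit_iff_isUnit_det B₂).1 b₂.isUnit
    rw [det_of_isUpperTriangular h₂] at h
    exact h.ne_zero (prod_eq_zero (mem_univ a) h0)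
  let U₁ : Matrix (Fin n) (Fin n) F := B₁ * Matrix.diagonal fun a => (B₁ a a)⁻¹
  let U₂ : Matrix (Fin n) (Fin n) F := (Matrix.diagonal fun a => (B₂ a a)⁻¹) * B₂
  have hU₁ : U₁.BlockTriangular id := h₁.mul (blockTriangular_diagonal _)
  have hU₂ : U₂.BlockTriangular id := (blockTriangular_diagonal _).mul h₂
  have hU₁d : ∀ a, U₁ a a = 1 := fun a => by
    simp [U₁, Matrix.mul_diagonal, hd1 a]
  have hU₂d : ∀ a, U₂ a a = 1 := fun a => by
    simp [U₂, Matrix.diagonal_mul, hd2 a]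
  let u : 𝔾 := ⟨U₁, by rw [det_of_isUpperTriangular hU₁]; simp [hU₁d]⟩
  let v : 𝔾 := ⟨U₂, by rw [det_of_isUpperTriangular hU₂]; simp [hU₂d]⟩
  refine ⟨u, ⟨hU₁, hU₁d⟩, u⁻¹ * g * v⁻¹, v, ⟨hU₂, hU₂d⟩,
    ⟨σ, fun b => B₁ (σ b) (σ b) * B₂ b b, ?_⟩, by group⟩
  let Mm : Matrix (Fin n) (Fin n) F :=
    Matrix.of fun a b => if a = σ b then B₁ (σ b) (σ b) * B₂ b b else 0
  have hM : (Matrix.diagonal fun a => B₁ a a) * H40.permMat F σ *
      (Matrix.diagonal fun a => B₂ a a) = Mm := by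
    ext a b
    simp only [Matrix.mul_diagonal, Matrix.diagonal_mul, H40.permMat, Matrix.of_apply, Mm]
    split_ifs with h <;> simp [h]
  have hg : g.1 = U₁ * Mm * U₂ := by
    have h : g.1 = B₁ * H40.permMat F σ * B₂ := congrArg Units.val he
    have d1 : (Matrix.diagonal fun a => (B₁ a a)⁻¹) * (Matrix.diagonal fun a => B₁ a a) = 1 := by
      simp [hd1]
    have d2 : (Matrix.diagonal fun a => B₂ a a) * (Matrix.diagonal fun a => (B₂ a a)⁻¹) = 1 := by
      simp [hd2]
    have e1 : B₁ = U₁ * Matrix.diagonal (fun a => B₁ a a) := by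
      simp only [U₁, mul_assoc, d1, mul_one]
    have e2 : B₂ = Matrix.diagonal (fun a => B₂ a a) * U₂ := by
      simp only [U₂, ← mul_assoc, d2, one_mul]
    rw [h, ← hM]
    conv_lhs => rw [e1, e2]
    simp only [mul_assoc]
  intro a b
  show ((u⁻¹).1 * g.1 * (v⁻¹).1) a b = _
  have hu : (u⁻¹).1 * U₁ = 1 := congrArg Subtype.val (inv_mul_cancel u)
  have hv : U₂ * (v⁻¹).1 = 1 := congrArg Subtype.val (mul_inv_cancel v)
  rw [hg, show (u⁻¹).1 * (U₁ * Mm * U₂) * (v⁻¹).1 = ((u⁻¹).1 * U₁) * Mm * (U₂ * (v⁻¹).1) by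
    simp only [mul_assoc], hu, hv, one_mul, mul_one]
  rfl

end H22.SLMono
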