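import Mathlib
import Cfsg.Agent.H22.SLMonomial

/-!
The quadratic relation for the coset sums in `SL_n(F)` and their torus invariance.
-/

set_option autoImplicit false
set_option linter.unusedSectionVars false

open Matrix Finset Cfsg

namespace H22.SLStep

open H22.SLMono H22.TauSum

variable {n : ℕ} {F : Type*} [Field F]

local notation "𝔾" => Matrix.SpecialLinearGroup (Fin n) F

variable {i j : Fin n}

/-- The root element `1 + a E_{ij}`. -/
def rt (h : i ≠ j) (a : F) : 𝔾 := Matrix.SpecialLinearGroup.transvection h a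

theorem rt_val (h : i ≠ j) (a : F) : (rt h a : 𝔾).1 = Matrix.transvection i j a := rfl

theorem rt_apply (h : i ≠ j) (a : F) (c d : Fin n) :
    (rt h a : 𝔾).1 c d = (if c = d then 1 else 0) + if c = i ∧ d = j then a else 0 := by
  rw [rt_val, Matrix.transvection, Matrix.add_apply, Matrix.one_apply, Matrix.single_apply]
  congr 1
  exact if_congr (by tauto) rfl rfl

theorem rt_mul (h : i ≠ j) (a b : F) : (rt h a : 𝔾) * rt h b = rt h (a + b) :=
  Subtype.ext (transvection_mul_transvection_same i j h a b)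

theorem rt_zero (h : i ≠ j) : (rt h (0 : F) : 𝔾) = 1 :=
  Subtype.ext (transvection_zero i j)

theorem rt_inv (h : i ≠ j) (a : F) : (rt h a : 𝔾)⁻¹ = rt h (-a) :=
  inv_eq_of_mul_eq_one_right (by rw [rt_mul, add_neg_cancel, rt_zero])

/-- The monomial representative of the transposition `(i j)`. -/
def wel (h : i ≠ j) (t : F) : 𝔾 := rt h t * rt h.symm (-t⁻¹) * rt h t

/-- The entries of `wel`. -/
def wdat (i j : Fin n) (t : F) (b : Fin n) : F := if b = i then -t⁻¹ else if b = j then t else 1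

theorem wel_data (h : i ≠ j) {t : F} (ht : t ≠ 0) :
    HasData (wel h t : 𝔾) (Equiv.swap i j) (wdat i j t) := by
  intro c d
  have hT : (wel h t : 𝔾).1 = Matrix.transvection i j t * Matrix.transvection j i (-t⁻¹) *
      Matrix.transvection i j t := rfl
  have hji := h.symm
  have hone : ∀ a b : Fin n, (Matrix.transvection j i (-t⁻¹) : Matrix (Fin n) (Fin n) F) a b =
      (if a = b then 1 else 0) + if a = j ∧ b = i then -t⁻¹ else 0 := fun a b => rt_apply hji _ a b
  rw [hT]
  by_cases hd : d = j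
  · subst hd
    rw [mul_transvection_apply_same]
    by_cases hc : c = i
    · subst hc
      rw [transvection_mul_apply_same, transvection_mul_apply_same]
      simp [hone, h, hji, wdat, ht]
    · rw [transvection_mul_apply_of_ne i d c d hc, transvection_mul_apply_of_ne i d c i hc]
      by_cases hcd : c = d
      · subst hcd; simp [hone, h, hji, wdat, ht, hc]
      · simp [hone, h, hji, wdat, hc, hcd]
  · rw [mul_transvection_apply_of_ne i j c d hd]
    by_cases hc : c = i
    · subst hc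
      rw [transvection_mul_apply_same]
      by_cases hdi : d = c
      · subst hdi; simp [hone, h, hji, wdat, ht]
      · simp [hone, h, hji, wdat, hd, hdi, Ne.symm hd, Ne.symm hdi, Equiv.swap_apply_def]
    · rw [transvection_mul_apply_of_ne i j c d hc]
      by_cases hdi : d = i
      · subst hdi
        by_cases hcj : c = j
        · subst hcj; simp [hone, h, hji, wdat]
        · simp [hone, h, hji, wdat, hc, hcj]
      · simp [hone, wdat, hd, hdi, hc, Equiv.swap_apply_def]

theorem wdat_ne_zero {t : F} (ht : t ≠ 0) (b : Fin n) : wdat i j t b ≠ 0 := by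
  unfold wdat
  split_ifs <;> simp [ht]

/-- The diagonal element with `c` at `i` and `c⁻¹` at `j`. -/
def hel (h : i ≠ j) (c : F) : 𝔾 := wel h c * wel h (-1)

/-- The entries of `hel`. -/
def hdat (i j : Fin n) (c : F) (b : Fin n) : F := if b = i then c else if b = j then c⁻¹ else 1

theorem hel_data (h : i ≠ j) {c : F} (hc : c ≠ 0) : HasData (hel h c : 𝔾) 1 (hdat i j c) := by
  have h1 := (wel_data h hc).mul (wel_data h (t := (-1 : F)) (by simp))
  rw [Equiv.swap_mul_self] at h1
  refine h1.congr fun b => ?_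
  by_cases hb : b = i
  · subst hb; simp [wdat, hdat, h.symm]
  · by_cases hb' : b = j
    · subst hb'; simp [wdat, hdat, h, h.symm]
    · simp [wdat, hdat, hb, hb', Equiv.swap_apply_of_ne_of_ne]

/-- The unitriangular elements with vanishing `(i, j)` entry. -/
def vsub (hij : (i : ℕ) + 1 = j) : Subgroup 𝔾 where
  carrier := {u | u ∈ uni n F ∧ u.1 i j = 0}
  one_mem' := ⟨one_mem _, by
    show (1 : Matrix (Fin n) (Fin n) F) i j = 0
    exact Matrix.one_apply_ne (by intro e; subst e; omega)⟩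
  mul_mem' {a b} ha hb := by
    refine ⟨mul_mem ha.1 hb.1, ?_⟩
    show (a.1 * b.1) i j = 0
    have hij' : i ≠ j := by intro e; subst e; omega
    rw [Matrix.mul_apply, sum_eq_add_of_mem i j (mem_univ _) (mem_univ _) hij']
    · rw [(mem_uni.1 ha.1).2, hb.2, ha.2, one_mul, zero_add, zero_mul]
    · intro c _ hc
      rcases lt_trichotomy c i with h1 | h1 | h1
      · rw [(mem_uni.1 ha.1).1 _ _ h1, zero_mul]
      · exact absurd h1 hc.1
      · have : j < c := by
          simp only [Fin.lt_def] at *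
          have : (c : ℕ) ≠ j := fun e => hc.2 (Fin.ext e)
          omega
        rw [(mem_uni.1 hb.1).1 _ _ this, mul_zero]
  inv_mem' {a} ha := by
    refine ⟨inv_mem ha.1, ?_⟩
    have hij' : i ≠ j := by intro e; subst e; omega
    have h1 : (a.1 * (a⁻¹).1) i j = 0 := by
      rw [show a.1 * (a⁻¹).1 = 1 from congrArg Subtype.val (mul_inv_cancel a)]
      exact Matrix.one_apply_ne hij'
    rw [Matrix.mul_apply, sum_eq_add_of_mem i j (mem_univ _) (mem_univ _) hij',
      (mem_uni.1 ha.1).2, one_mul, ha.2, zero_mul, add_zero] at h1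
    · exact h1
    · intro c _ hc
      rcases lt_trichotomy c i with h2 | h2 | h2
      · rw [(mem_uni.1 ha.1).1 _ _ h2, zero_mul]
      · exact absurd h2 hc.1
      · have : j < c := by
          simp only [Fin.lt_def] at *
          have : (c : ℕ) ≠ j := fun e => hc.2 (Fin.ext e)
          omega
        rw [(mem_uni.1 (inv_mem ha.1)).1 _ _ this, mul_zero]

theorem mem_vsub {hij : (i : ℕ) + 1 = j} {u : 𝔾} :
    u ∈ vsub hij ↔ u ∈ uni n F ∧ u.1 i j = 0 := Iff.rfl

theorem ne_of_succ (hij : (i : ℕ) + 1 = j) : i ≠ j := by intro e; subst e; omega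

theorem rt_mem_uni (h : i ≠ j) (hlt : i < j) (a : F) : (rt h a : 𝔾) ∈ uni n F :=
  mem_uni.2 ⟨fun c d hcd => by
    rw [rt_apply, if_neg hcd.ne', if_neg (fun e => by rw [e.1, e.2] at hcd; exact lt_asymm hcd hlt),
      add_zero],
    fun c => by
      rw [rt_apply, if_pos rfl, if_neg (fun e => h (e.1.symm.trans e.2)), add_zero]⟩

theorem uni_mul_entry (hij : (i : ℕ) + 1 = j) {a b : 𝔾} (ha : a ∈ uni n F) (hb : b ∈ uni n F) :
    (a * b).1 i j = a.1 i j + b.1 i j := by
  have hij' := ne_of_succ hij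
  show (a.1 * b.1) i j = _
  rw [Matrix.mul_apply, sum_eq_add_of_mem i j (mem_univ _) (mem_univ _) hij',
    (mem_uni.1 ha).2, (mem_uni.1 hb).2, one_mul, mul_one, add_comm]
  intro c _ hc
  rcases lt_trichotomy c i with h2 | h2 | h2
  · rw [(mem_uni.1 ha).1 _ _ h2, zero_mul]
  · exact absurd h2 hc.1
  · have : j < c := by
      simp only [Fin.lt_def] at *
      have : (c : ℕ) ≠ j := fun e => hc.2 (Fin.ext e)
      omega
    rw [(mem_uni.1 hb).1 _ _ this, mul_zero]

theorem rt_conj_vsub (hij : (i : ℕ) + 1 = j) (a : F) {v : 𝔾} (hv : v ∈ vsub hij) :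
    rt (ne_of_succ hij) a * v * (rt (ne_of_succ hij) a)⁻¹ ∈ vsub hij := by
  have hlt : i < j := by rw [Fin.lt_def]; omega
  have hm := rt_mem_uni (ne_of_succ hij) hlt a
  have hm' : (rt (ne_of_succ hij) a : 𝔾)⁻¹ ∈ uni n F := inv_mem hm
  refine ⟨mul_mem (mul_mem hm hv.1) hm', ?_⟩
  rw [uni_mul_entry hij (mul_mem hm hv.1) hm', uni_mul_entry hij hm hv.1, hv.2, rt_inv, rt_apply,
    rt_apply]
  simp [ne_of_succ hij]

theorem exists_split (hij : (i : ℕ) + 1 = j) :
    ∃ e : F × (vsub hij : Subgroup 𝔾) ≃ uni n F,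
      ∀ a v, ((e (a, v) : uni n F) : 𝔾) = rt (ne_of_succ hij) a * v := by
  have hlt : i < j := by rw [Fin.lt_def]; omega
  refine ⟨
    { toFun := fun w => ⟨rt (ne_of_succ hij) w.1 * w.2,
        mul_mem (rt_mem_uni _ hlt _) w.2.2.1⟩
      invFun := fun u => (u.1.1 i j, ⟨(rt (ne_of_succ hij) (u.1.1 i j))⁻¹ * u.1,
        mul_mem (inv_mem (rt_mem_uni _ hlt _)) u.2, by
          rw [uni_mul_entry hij (inv_mem (rt_mem_uni _ hlt _)) u.2, rt_inv, rt_apply]
          simp [ne_of_succ hij]⟩)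
      left_inv := fun w => by
        have h1 : ((rt (ne_of_succ hij) w.1 : 𝔾) * w.2).1 i j = w.1 := by
          rw [uni_mul_entry hij (rt_mem_uni _ hlt _) w.2.2.1, w.2.2.2, rt_apply]
          simp [ne_of_succ hij]
        refine Prod.ext h1 (Subtype.ext ?_)
        show (rt (ne_of_succ hij) (((rt (ne_of_succ hij) w.1 : 𝔾) * w.2).1 i j))⁻¹ * _ = _
        rw [h1, inv_mul_cancel_left]
      right_inv := fun u => Subtype.ext (by simp) }, fun a v => rfl⟩

theorem conj_vsub_of_swap (hij : (i : ℕ) + 1 = j) {m : 𝔾} {d : Fin n → F}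
    (hm : HasData m (Equiv.swap i j) d) {v : 𝔾} (hv : v ∈ vsub hij) :
    m⁻¹ * v * m ∈ vsub hij := by
  have hu := mem_uni.1 hv.1
  refine ⟨(hm.conj_mem_uni hv.1).2 fun x hx hns => ?_, ?_⟩
  · by_cases he : x.1 = i ∧ x.2 = j
    · rw [he.1, he.2]; exact hv.2
    · exfalso
      refine hns (mem_asc.2 ⟨hx, ?_⟩)
      rw [Equiv.symm_swap]
      exact swap_lt_swap hij hx he
  · rw [hm.conj_apply, Equiv.swap_apply_left, Equiv.swap_apply_right,
      hu.1 j i (by rw [Fin.lt_def]; omega)]
    simp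

theorem swap_conj_iff (hij : (i : ℕ) + 1 = j) {m : 𝔾} {d : Fin n → F}
    (hm : HasData m (Equiv.swap i j) d) (v : 𝔾) :
    v ∈ vsub hij ↔ m⁻¹ * v * m ∈ vsub hij := by
  refine ⟨conj_vsub_of_swap hij hm, fun h => ?_⟩
  have hi := hm.inv
  rw [Equiv.swap_inv] at hi
  simpa [mul_assoc] using conj_vsub_of_swap hij hi h

theorem conj_rt_mem (hij : (i : ℕ) + 1 = j) {g : 𝔾} {σ : Equiv.Perm (Fin n)} {d : Fin n → F}
    (hg : HasData g σ d) (hlt : σ.symm i < σ.symm j) (hne : ¬ (σ.symm i = i ∧ σ.symm j = j))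
    (a : F) : g⁻¹ * rt (ne_of_succ hij) a * g ∈ vsub hij := by
  have hlt' : i < j := by rw [Fin.lt_def]; omega
  refine ⟨(hg.conj_mem_uni (rt_mem_uni _ hlt' a)).2 fun x hx hns => ?_, ?_⟩
  · rw [rt_apply, if_neg hx.ne, if_neg, add_zero]
    rintro ⟨h1, h2⟩
    exact hns (mem_asc.2 ⟨hx, by rw [h1, h2]; exact hlt⟩)
  · rw [hg.conj_apply, rt_apply, if_neg (fun e => ne_of_succ hij (σ.injective e)), if_neg, add_zero,
      mul_zero, zero_mul]
    rintro ⟨h1, h2⟩
    exact hne ⟨σ.symm_apply_eq.2 h1.symm, σ.symm_apply_eq.2 h2.symm⟩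

theorem wel_conj_rt (hij : (i : ℕ) + 1 = j) {a : F} (ha : a ≠ 0) :
    (wel (ne_of_succ hij) (1 : F) : 𝔾) * rt (ne_of_succ hij) a * (wel (ne_of_succ hij) 1)⁻¹ =
      rt (ne_of_succ hij) (-a⁻¹) * wel (ne_of_succ hij) a⁻¹ * rt (ne_of_succ hij) (-a⁻¹) := by
  have h := ne_of_succ hij
  have hr : (rt h (-a⁻¹) : 𝔾) * wel h a⁻¹ * rt h (-a⁻¹) = rt h.symm (-a) := by
    simp only [wel, inv_inv, ← mul_assoc, rt_mul, neg_add_cancel, rt_zero, one_mul]
    simp only [mul_assoc, rt_mul, add_neg_cancel, rt_zero, mul_one]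
  rw [hr, mul_inv_eq_iff_eq_mul]
  refine Subtype.ext (Matrix.ext fun c d => ?_)
  have hd := wel_data (F := F) h (one_ne_zero)
  show ((wel h (1 : F) : 𝔾).1 * (rt h a : 𝔾).1) c d = ((rt h.symm (-a) : 𝔾).1 * (wel h 1 : 𝔾).1) c d
  rw [Matrix.mul_apply, Matrix.mul_apply,
    sum_eq_single (Equiv.swap i j c) (fun e _ he => by
      rw [hd c e, if_neg (fun e' => he (by rw [e']; simp)), zero_mul]) (by simp),
    sum_eq_single (Equiv.swap i j d) (fun e _ he => by rw [hd e d, if_neg he, mul_zero]) (by simp),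
    hd, hd, rt_apply, rt_apply]
  simp only [Equiv.swap_apply_self, if_true]
  have e1 : Equiv.swap i j c = d ↔ c = Equiv.swap i j d := by
    constructor <;> intro e
    · rw [← e]; simp
    · rw [e]; simp
  have e2 : (Equiv.swap i j c = i ∧ d = j) ↔ (c = j ∧ Equiv.swap i j d = i) := by
    constructor <;> rintro ⟨p, q⟩
    · exact ⟨by rw [← Equiv.swap_apply_self i j c, p, Equiv.swap_apply_left], by rw [q]; simp⟩
    · exact ⟨by rw [p]; simp, by rw [← Equiv.swap_apply_self i j d, q, Equiv.swap_apply_left]⟩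
  by_cases hA : Equiv.swap i j c = i ∧ d = j
  · obtain ⟨hc, hdj⟩ := hA
    have hc' : c = j := by rw [← Equiv.swap_apply_self i j c, hc, Equiv.swap_apply_left]
    subst hc'
    subst hdj
    simp [wdat, h, h.symm]
  · rw [if_neg hA, if_neg (fun q => hA (e2.2 q)), add_zero, add_zero]
    by_cases hB : Equiv.swap i j c = d
    · rw [if_pos hB, if_pos (e1.1 hB), ← hB]; simp
    · rw [if_neg hB, if_neg (fun q => hB (e1.2 q))]; simp

/-! ### The step -/

/-- `σ` has a double descent at the adjacent pair `i, j`. -/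
structure IsDescent (σ : Equiv.Perm (Fin n)) (i j : Fin n) : Prop where
  adj : (i : ℕ) + 1 = j
  right : σ j < σ i
  left : σ.symm j < σ.symm i
  ne : ¬ (σ i = j ∧ σ j = i)

variable [Fintype F] [DecidableEq F]

theorem step {p : ℕ} [CharP F p] {M : Ideal AlgInt} [M.IsPrime] (hM : IsPModular p M)
    {f : 𝔾 → ℂ} (hf : IsClassFunction 𝔾 f) (hz : ∀ g, MemLocalRing M (zval (uni n F) f g))
    {σ : Equiv.Perm (Fin n)} (hd : IsDescent σ i j) {g : 𝔾} {e : Fin n → F}
    (hg : HasData g (Equiv.swap i j * σ * Equiv.swap i j) e) :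
    MemLocalIdeal M (zval (uni n F) f ((wel (ne_of_succ hd.adj) 1)⁻¹ * g * wel (ne_of_succ hd.adj) 1) -
      ∑ a ∈ univ.erase (0 : F), zval (uni n F) f (g * wel (ne_of_succ hd.adj) a⁻¹)) := by
  classical
  have hij := hd.adj
  have h := ne_of_succ hij
  set s := Equiv.swap i j with hs
  set m := (wel h (1 : F) : 𝔾)⁻¹ * g * wel h 1 with hm
  have hw1 := wel_data (F := F) h one_ne_zero
  have hσs : ∀ x, (s * σ * s).symm x = s (σ.symm (s x)) := fun x => by
    simp [hs, Equiv.Perm.mul_def, Equiv.symm_swap]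
  -- `step_identity`
  let k : F → 𝔾 := fun a => if a = 0 then wel h 1 else wel h a⁻¹
  have hk : ∀ a, ∀ v, v ∈ vsub hij ↔ (k a)⁻¹ * v * k a ∈ vsub hij := fun a v => by
    simp only [k]
    split_ifs with ha
    · exact swap_conj_iff hij hw1 v
    · exact swap_conj_iff hij (wel_data h (inv_ne_zero ha)) v
  have hn : ∀ v, v ∈ vsub hij ↔ (wel h 1 : 𝔾) * v * (wel h 1)⁻¹ ∈ vsub hij := fun v => by
    have := hw1.inv
    rw [Equiv.swap_inv] at this
    simpa using swap_conj_iff hij this v
  have hlt_r : σ j < σ i := hd.right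
  have hC2 : ∀ a, g⁻¹ * rt h a * g ∈ vsub hij := fun a => by
    refine conj_rt_mem hij hg ?_ (fun e => ?_) a
    · rw [hσs, hσs, hs, Equiv.swap_apply_left, Equiv.swap_apply_right]
      refine swap_lt_swap hij hd.left fun q => hd.ne ?_
      exact ⟨by rw [← q.1, Equiv.apply_symm_apply], by rw [← q.2, Equiv.apply_symm_apply]⟩
    · rw [hσs, hσs, hs, Equiv.swap_apply_left, Equiv.swap_apply_right] at e
      have e1 : σ.symm j = j := by
        rw [← Equiv.swap_apply_self i j (σ.symm j), e.1, Equiv.swap_apply_left]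
      have e2 : σ.symm i = i := by
        rw [← Equiv.swap_apply_self i j (σ.symm i), e.2, Equiv.swap_apply_right]
      have := hd.left
      rw [e1, e2, Fin.lt_def] at this
      omega
  have hC1 : ∀ a, g * rt h a * g⁻¹ ∈ vsub hij := fun a => by
    have hgi := hg.inv
    have key := conj_rt_mem hij hgi (d := fun b => (e ((s * σ * s)⁻¹ b))⁻¹) ?_ (fun q => ?_) a
    · simpa using key
    · simp only [Equiv.Perm.inv_def, Equiv.symm_symm, Equiv.Perm.mul_apply, hs,
        Equiv.swap_apply_left, Equiv.swap_apply_right]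
      exact swap_lt_swap hij hd.right fun q => hd.ne ⟨q.2, q.1⟩
    · simp only [Equiv.Perm.inv_def, Equiv.symm_symm, Equiv.Perm.mul_apply, hs,
        Equiv.swap_apply_left, Equiv.swap_apply_right] at q
      have e1 : σ j = j := by
        rw [← Equiv.swap_apply_self i j (σ j), q.1, Equiv.swap_apply_left]
      have e2 : σ i = i := by
        rw [← Equiv.swap_apply_self i j (σ i), q.2, Equiv.swap_apply_right]
      rw [e1, e2, Fin.lt_def] at hlt_r
      omega
  have hid := step_identity (uni n F) (vsub hij) f hf (rt h) (rt_zero h)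
    (fun a v hv => rt_conj_vsub hij a hv) (exists_split hij) (wel h 1) hn k (fun a => -a⁻¹) hk
    (fun a ha => by simp only [k, if_neg ha]; exact wel_conj_rt hij ha) g hC1 hC2
  -- the intersection orders
  have hmd : ∃ d, HasData m σ d := by
    have h3 := (hw1.inv.mul hg).mul hw1
    have e3 : s⁻¹ * (s * σ * s) * s = σ := by simp [hs, mul_assoc]
    rw [e3] at h3
    exact ⟨_, h3⟩
  obtain ⟨dm, hmd⟩ := hmd
  have hk' : ∀ a ∈ univ.erase (0 : F), ∃ d, HasData (g * k a) (s * σ) d := fun a ha => by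
    have h3 := hg.mul (wel_data h (inv_ne_zero (mem_erase.1 ha).1))
    simp only [k, if_neg (mem_erase.1 ha).1]
    have e3 : s * σ * s * s = s * σ := by simp [hs, mul_assoc]
    rw [e3] at h3
    exact ⟨_, h3⟩
  have hA1 : (asc (s * σ)).card = (asc σ).card + 1 := card_asc_swap_mul σ hij hd.left
  have hA2 : (asc (s * σ * s)).card = (asc σ).card + 2 := by
    rw [card_asc_mul_swap (s * σ) hij, hA1]
    simp only [Equiv.Perm.mul_apply]
    exact swap_lt_swap hij hd.right fun q => hd.ne ⟨q.2, q.1⟩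
  set q := Fintype.card F
  set Q : ℂ := (q : ℂ) ^ (asc σ).card with hQ
  have hq0 : (q : ℂ) ≠ 0 := Nat.cast_ne_zero.2 Fintype.card_ne_zero
  have t1 : tau (uni n F) f m = Q * zval (uni n F) f m := by
    rw [tau_eq_mul_zval, qn_eq hmd, Nat.cast_pow]
  have t2 : tau (uni n F) f g = Q * q * q * zval (uni n F) f g := by
    rw [tau_eq_mul_zval, qn_eq hg, hA2, Nat.cast_pow, pow_add]; ring
  have t3 : ∀ a ∈ univ.erase (0 : F), tau (uni n F) f (g * k a) =
      Q * q * zval (uni n F) f (g * k a) := fun a ha => by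
    obtain ⟨d, hd'⟩ := hk' a ha
    rw [tau_eq_mul_zval, qn_eq hd', hA1, Nat.cast_pow, pow_succ]
  rw [sum_congr rfl t3, ← mul_sum, ← hm, t1, t2] at hid
  have key : zval (uni n F) f m - ∑ a ∈ univ.erase (0 : F), zval (uni n F) f (g * k a) =
      zval (uni n F) f g * q := by
    have hne : Q * q ≠ 0 := mul_ne_zero (pow_ne_zero _ hq0) hq0
    refine mul_left_cancel₀ hne ?_
    linear_combination hid
  have hsum : ∑ a ∈ univ.erase (0 : F), zval (uni n F) f (g * wel h a⁻¹) =
      ∑ a ∈ univ.erase (0 : F), zval (uni n F) f (g * k a) :=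
    sum_congr rfl fun a ha => by simp only [k, if_neg (mem_erase.1 ha).1]
  rw [hsum, key]
  refine H20.memIdeal_mul (hz g) ((H20.natCast_memIdeal_iff hM _).2 ?_)
  haveI := Fact.mk hM.1
  obtain ⟨r, -, hr⟩ := FiniteField.card F p
  rw [show q = p ^ (r : ℕ) from hr]
  exact dvd_pow_self p r.pos.ne'

end H22.SLStep
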