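import Mathlib
import Cfsg.Agent.H22.SLStep
import Cfsg.Agent.H20.OrthConv
import Cfsg.Agent.H20.DefectApps

/-!
`SL_n(F)` has at most one character of defect zero in the characteristic of `F`.
-/

set_option autoImplicit false
set_option linter.unusedSectionVars false

open Matrix Finset Cfsg

namespace H22.SLDefectZero

open H22.SLMono H22.TauSum H22.SLStep

variable {n : ℕ} {F : Type*} [Field F]

local notation "𝔾" => Matrix.SpecialLinearGroup (Fin n) F

theorem rev_descent {i j : Fin n} (hij : (i : ℕ) + 1 = j) (hmid : 2 * (i : ℕ) + 2 ≠ n) :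
    IsDescent (Fin.revPerm : Equiv.Perm (Fin n)) i j where
  adj := hij
  right := by
    simp only [Fin.revPerm_apply, Fin.lt_def, Fin.val_rev]
    omega
  left := by
    simp only [Fin.revPerm_symm, Fin.revPerm_apply, Fin.lt_def, Fin.val_rev]
    omega
  ne := fun h => by
    have h1 := congrArg Fin.val h.1
    simp only [Fin.revPerm_apply, Fin.val_rev] at h1
    omega

theorem middle_descent {i₀ i j : Fin n} (h₀ : (i₀ : ℕ) + 1 = i) (hij : (i : ℕ) + 1 = j)
    (hmid : 2 * (i : ℕ) + 2 = n) :
    IsDescent (Equiv.swap i₀ i * (Fin.revPerm : Equiv.Perm (Fin n))) i j := by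
  have hj : j ≠ i₀ := fun e => by subst e; omega
  have hji : j ≠ i := fun e => by subst e; omega
  have hr1 : Fin.rev j = i := Fin.ext (by rw [Fin.val_rev]; omega)
  have hr2 : Fin.rev i = j := Fin.ext (by rw [Fin.val_rev]; omega)
  have hs : ∀ x, (Equiv.swap i₀ i * (Fin.revPerm : Equiv.Perm (Fin n))).symm x =
      Fin.rev (Equiv.swap i₀ i x) := fun x => by
    simp [Equiv.Perm.mul_def, Equiv.symm_swap]
  refine ⟨hij, ?_, ?_, fun h => ?_⟩
  · simp only [Equiv.Perm.mul_apply, Fin.revPerm_apply, hr1, hr2, Equiv.swap_apply_right,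
      Equiv.swap_apply_of_ne_of_ne hj hji, Fin.lt_def]
    omega
  · rw [hs, hs, Equiv.swap_apply_of_ne_of_ne hj hji, Equiv.swap_apply_right, hr1, Fin.lt_def,
      Fin.val_rev]
    omega
  · have h2 := h.2
    simp only [Equiv.Perm.mul_apply, Fin.revPerm_apply, hr1, Equiv.swap_apply_right] at h2
    subst h2
    omega

theorem hel_mul_wel {i j : Fin n} (h : i ≠ j) {c t : F} (hc : c ≠ 0) (ht : t ≠ 0) :
    (hel h c : 𝔾) * wel h t = wel h (c * t) := by
  have h1 := (hel_data h hc).mul (wel_data h ht)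
  rw [one_mul] at h1
  refine (h1.congr fun b => ?_).eq (wel_data h (mul_ne_zero hc ht))
  by_cases hb : b = i
  · subst hb
    simp [wdat, hdat, h.symm, _root_.mul_inv_rev, mul_comm]
  · by_cases hb' : b = j
    · subst hb'; simp [wdat, hdat, h.symm]
    · simp [wdat, hdat, hb, hb', Equiv.swap_apply_of_ne_of_ne]

theorem wel_conj_hel {i j : Fin n} (h : i ≠ j) {c : F} (hc : c ≠ 0) :
    (wel h (1 : F) : 𝔾)⁻¹ * hel h c * wel h 1 = hel h c⁻¹ := by
  rw [mul_assoc, inv_mul_eq_iff_eq_mul]
  have h1 := (hel_data h hc).mul (wel_data h (one_ne_zero (α := F)))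
  have h2 := (wel_data h (one_ne_zero (α := F))).mul (hel_data h (inv_ne_zero hc))
  rw [one_mul] at h1
  rw [mul_one] at h2
  refine (h1.congr fun b => ?_).eq h2
  by_cases hb : b = i
  · subst hb; simp [wdat, hdat, h.symm]
  · by_cases hb' : b = j
    · subst hb'; simp [wdat, hdat, h, h.symm]
    · simp [wdat, hdat, hb, hb', Equiv.swap_apply_of_ne_of_ne]

theorem hel_wel_comm {i₀ i j : Fin n} (h₀ : i₀ ≠ i) (h : i ≠ j) (h' : i₀ ≠ j) {c t : F}
    (hc : c ≠ 0) (ht : t ≠ 0) :
    (wel h₀ t : 𝔾) * hel h c = hel h' c * wel h₀ t := by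
  have h1 := (wel_data h₀ ht).mul (hel_data h hc)
  have h2 := (hel_data h' hc).mul (wel_data h₀ ht)
  rw [mul_one] at h1
  rw [one_mul] at h2
  refine (h1.congr fun b => ?_).eq h2
  by_cases hb : b = i₀
  · subst hb; simp [wdat, hdat, h₀, h₀.symm, h, h', mul_comm]
  · by_cases hb' : b = i
    · subst hb'; simp [wdat, hdat, h₀, h₀.symm, h, h', mul_comm]
    · by_cases hb'' : b = j
      · subst hb''; simp [wdat, hdat, h₀, h₀.symm, h.symm, h'.symm, Equiv.swap_apply_of_ne_of_ne]
      · simp [wdat, hdat, hb, hb', hb'', Equiv.swap_apply_of_ne_of_ne]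

variable [Fintype F] [DecidableEq F] {M : Ideal AlgInt} [M.IsPrime]

theorem cong_symm {x y : ℂ} (h : MemLocalIdeal M (x - y)) : MemLocalIdeal M (y - x) := by
  have e := H20.memIdeal_mul (H20.memRing_neg (H20.memRing_natCast 1)) h
  convert e using 1
  push_cast
  ring

theorem cong_trans {x y z : ℂ} (h : MemLocalIdeal M (x - y)) (h' : MemLocalIdeal M (y - z)) :
    MemLocalIdeal M (x - z) := by
  have e := H20.memIdeal_add h h'
  rwa [sub_add_sub_cancel] at e

variable {p : ℕ} [CharP F p]

theorem inv_first {f : 𝔾 → ℂ} (hM : IsPModular p M) (hf : IsClassFunction 𝔾 f)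
    (hz : ∀ g, MemLocalRing M (zval (uni n F) f g)) {σ : Equiv.Perm (Fin n)} {i j : Fin n}
    (hd : IsDescent σ i j) {m : 𝔾} {d : Fin n → F} (hm : HasData m σ d) {c : F} (hc : c ≠ 0) :
    MemLocalIdeal M (zval (uni n F) f (m * hel (ne_of_succ hd.adj) c) - zval (uni n F) f m) := by
  classical
  have h := ne_of_succ hd.adj
  set w : 𝔾 := wel h 1 with hw
  have hw1 : HasData w (Equiv.swap i j) (wdat i j 1) := wel_data h one_ne_zero
  set g := w * m * w⁻¹ with hg
  obtain ⟨e, he⟩ : ∃ e, HasData g (Equiv.swap i j * σ * Equiv.swap i j) e := by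
    have h1 := (hw1.mul hm).mul hw1.inv
    rw [Equiv.swap_inv] at h1
    exact ⟨_, h1⟩
  have s1 := step hM hf hz hd he
  have he2 : ∃ e, HasData (g * hel h c⁻¹) (Equiv.swap i j * σ * Equiv.swap i j) e := by
    have h1 := he.mul (hel_data h (inv_ne_zero hc))
    rw [mul_one] at h1
    exact ⟨_, h1⟩
  obtain ⟨e2, he2⟩ := he2
  have s2 := step hM hf hz hd he2
  have e1 : w⁻¹ * g * w = m := by rw [hg]; group
  have e2' : w⁻¹ * (g * hel h c⁻¹) * w = m * hel h c := by
    calc w⁻¹ * (g * hel h c⁻¹) * w = m * (w⁻¹ * hel h c⁻¹ * w) := by rw [hg]; group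
      _ = m * hel h c := by rw [hw, wel_conj_hel h (inv_ne_zero hc), inv_inv]
  rw [← hw] at s1 s2
  rw [e1] at s1
  rw [e2'] at s2
  refine cong_trans s2 ?_
  have hsum : ∑ a ∈ univ.erase (0 : F), zval (uni n F) f (g * hel h c⁻¹ * wel h a⁻¹) =
      ∑ a ∈ univ.erase (0 : F), zval (uni n F) f (g * wel h a⁻¹) := by
    refine sum_bij (fun a _ => c * a) (fun a ha => ?_) (fun a _ b _ hab => mul_left_cancel₀ hc hab)
      (fun b hb => ⟨c⁻¹ * b, ?_, by rw [← mul_assoc, mul_inv_cancel₀ hc, one_mul]⟩) fun a ha => ?_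
    · exact mem_erase.2 ⟨mul_ne_zero hc (mem_erase.1 ha).1, mem_univ _⟩
    · exact mem_erase.2 ⟨mul_ne_zero (inv_ne_zero hc) (mem_erase.1 hb).1, mem_univ _⟩
    · rw [mul_assoc, hel_mul_wel h (inv_ne_zero hc) (inv_ne_zero (mem_erase.1 ha).1),
        ← _root_.mul_inv]
  rw [hsum]
  exact cong_symm s1

theorem inv_second {f : 𝔾 → ℂ} (hM : IsPModular p M) (hf : IsClassFunction 𝔾 f)
    (hz : ∀ g, MemLocalRing M (zval (uni n F) f g)) {σ : Equiv.Perm (Fin n)} {i₀ i j : Fin n}
    (hd : IsDescent σ i₀ i) (hd' : IsDescent (Equiv.swap i₀ i * σ) i j)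
    {m : 𝔾} {d : Fin n → F} (hm : HasData m σ d) {c : F} (hc : c ≠ 0) :
    MemLocalIdeal M (zval (uni n F) f (m * hel (ne_of_succ hd'.adj) c) - zval (uni n F) f m) := by
  classical
  have h₀ := ne_of_succ hd.adj
  have h := ne_of_succ hd'.adj
  have h' : i₀ ≠ j := fun e => by
    have := hd.adj; have := hd'.adj; subst e; omega
  set w : 𝔾 := wel h₀ 1 with hw
  have hw1 : HasData w (Equiv.swap i₀ i) (wdat i₀ i 1) := wel_data h₀ one_ne_zero
  set g := w * m * w⁻¹ with hg
  obtain ⟨e, he⟩ : ∃ e, HasData g (Equiv.swap i₀ i * σ * Equiv.swap i₀ i) e := by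
    have h1 := (hw1.mul hm).mul hw1.inv
    rw [Equiv.swap_inv] at h1
    exact ⟨_, h1⟩
  have s1 := step hM hf hz hd he
  obtain ⟨e2, he2⟩ : ∃ e, HasData (g * hel h' c) (Equiv.swap i₀ i * σ * Equiv.swap i₀ i) e := by
    have h1 := he.mul (hel_data h' hc)
    rw [mul_one] at h1
    exact ⟨_, h1⟩
  have s2 := step hM hf hz hd he2
  have e1 : w⁻¹ * g * w = m := by rw [hg]; group
  have e2' : w⁻¹ * (g * hel h' c) * w = m * hel h c := by
    have := hel_wel_comm h₀ h h' hc (one_ne_zero (α := F))
    calc w⁻¹ * (g * hel h' c) * w = m * (w⁻¹ * (hel h' c * w)) := by rw [hg]; group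
      _ = m * hel h c := by rw [hw, ← this, inv_mul_cancel_left]
  rw [← hw] at s1 s2
  rw [e1] at s1
  rw [e2'] at s2
  refine cong_trans s2 (cong_trans ?_ (cong_symm s1))
  rw [← sum_sub_distrib]
  refine sum_induction _ (fun z => MemLocalIdeal M z) (fun _ _ => H20.memIdeal_add)
    H20.memIdeal_zero fun a ha => ?_
  have hne := inv_ne_zero (mem_erase.1 ha).1
  rw [mul_assoc g, ← hel_wel_comm h₀ h h' hc hne, ← mul_assoc]
  have h1 := he.mul (wel_data h₀ hne)
  rw [Equiv.mul_swap_mul_self] at h1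
  exact inv_first hM hf hz hd' h1 hc

theorem const_big {f : 𝔾 → ℂ} (hM : IsPModular p M) (hf : IsClassFunction 𝔾 f)
    (hz : ∀ g, MemLocalRing M (zval (uni n F) f g)) (hn : 3 ≤ n) {m m' : 𝔾} {d d' : Fin n → F}
    (hm : HasData m Fin.revPerm d) (hm' : HasData m' Fin.revPerm d') :
    MemLocalIdeal M (zval (uni n F) f m - zval (uni n F) f m') := by
  classical
  -- invariance under the simple coroots
  have hroot : ∀ (i j : Fin n) (hij : (i : ℕ) + 1 = j) (c : F), c ≠ 0 → ∀ (g : 𝔾) (e : Fin n → F),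
      HasData g Fin.revPerm e →
      MemLocalIdeal M (zval (uni n F) f (g * hel (ne_of_succ hij) c) - zval (uni n F) f g) := by
    intro i j hij c hc g e hg
    by_cases hmid : 2 * (i : ℕ) + 2 = n
    · have h₀ : ((⟨(i : ℕ) - 1, by omega⟩ : Fin n) : ℕ) + 1 = i := by simp only; omega
      exact inv_second hM hf hz (rev_descent h₀ (by simp only; omega))
        (middle_descent h₀ hij hmid) hg hc
    · exact inv_first hM hf hz (rev_descent hij hmid) hg hc
  have key : ∀ r : ℕ, ∀ (T : 𝔾) (e : Fin n → F), HasData T 1 e →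
      (∀ b : Fin n, (b : ℕ) + r + 1 < n → e b = 1) →
      ∀ (g : 𝔾) (eg : Fin n → F), HasData g Fin.revPerm eg →
      MemLocalIdeal M (zval (uni n F) f (g * T) - zval (uni n F) f g) := by
    intro r
    induction r with
    | zero =>
      intro T e hT he g eg hg
      have hT1 : T = 1 := by
        refine (hT.congr fun b => ?_).eq hasData_one
        by_cases hb : (b : ℕ) + 1 < n
        · exact he b (by omega)
        · have hdet : ∏ c, e c = 1 := by
            have hTd : T.1 = Matrix.diagonal e := Matrix.ext fun a c => by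
              rw [hT, Matrix.diagonal_apply]
              by_cases hac : a = c
              · subst hac; simp
              · rw [if_neg hac, if_neg (by simpa using hac)]
            have := T.2
            rwa [hTd, Matrix.det_diagonal] at this
          rw [prod_eq_single b (fun c _ hc => he c (by
            have : (c : ℕ) ≠ b := fun e' => hc (Fin.ext e')
            omega)) (by simp)] at hdet
          exact hdet
      rw [hT1, mul_one, sub_self]
      exact H20.memIdeal_zero
    | succ r ih =>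
      intro T e hT he g eg hg
      by_cases hb : r + 2 ≤ n
      · let i : Fin n := ⟨n - r - 2, by omega⟩
        let j : Fin n := ⟨n - r - 1, by omega⟩
        have hij : (i : ℕ) + 1 = j := by simp only [i, j]; omega
        have hne : e i ≠ 0 := hT.ne_zero i
        have h1 := (hel_data (F := F) (ne_of_succ hij) (inv_ne_zero hne)).mul hT
        rw [one_mul] at h1
        have he' : ∀ b : Fin n, (b : ℕ) + r + 1 < n →
            hdat i j (e i)⁻¹ ((1 : Equiv.Perm (Fin n)) b) * e b = 1 := fun b hb' => by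
          show hdat i j (e i)⁻¹ b * e b = 1
          unfold hdat
          by_cases hbi : b = i
          · subst hbi; simp [hne]
          · have hbj : b ≠ j := fun e' => by subst e'; simp only [j] at hb'; omega
            rw [if_neg hbi, if_neg hbj, one_mul]
            refine he b ?_
            have : (b : ℕ) ≠ n - r - 2 := fun e' => hbi (Fin.ext e')
            omega
        have h2 := hg.mul (hel_data (F := F) (ne_of_succ hij) hne)
        rw [mul_one] at h2
        have e1 : (hel (ne_of_succ hij) (e i) : 𝔾) * hel (ne_of_succ hij) (e i)⁻¹ = 1 := by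
          have h3 := (hel_data (F := F) (ne_of_succ hij) hne).mul
            (hel_data (ne_of_succ hij) (inv_ne_zero hne))
          rw [one_mul] at h3
          refine (h3.congr fun b => ?_).eq hasData_one
          show hdat i j (e i) b * hdat i j (e i)⁻¹ b = 1
          unfold hdat
          split_ifs <;> simp [hne]
        have := ih _ _ h1 he' _ _ h2
        rw [mul_assoc g, ← mul_assoc (hel (ne_of_succ hij) (e i)), e1, one_mul] at this
        exact cong_trans this (hroot i j hij _ hne g eg hg)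
      · exact ih T e hT (fun b hb' => absurd hb' (by omega)) g eg hg
  have h1 := hm'.inv.mul hm
  rw [inv_mul_cancel] at h1
  have := key n (m'⁻¹ * m) _ h1 (fun b hb => absurd hb (by omega)) m' d' hm'
  rwa [mul_inv_cancel_left] at this

/-! ### Two by two matrices -/

theorem quad_rep {α β γ : F} (hα : α ≠ 0) (hdisc : β ^ 2 - 4 * α * γ ≠ 0) :
    ∃ x y : F, α * x ^ 2 + β * x * y + γ * y ^ 2 = 1 := by
  classical
  by_cases h2 : ringChar F = 2
  · obtain ⟨x, hx⟩ := FiniteField.isSquare_of_char_two h2 α⁻¹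
    refine ⟨x, 0, ?_⟩
    rw [sq, ← hx]
    simp [hα]
  · have h2' : (2 : F) ≠ 0 := Ring.two_ne_zero h2
    have h4 : (4 : F) ≠ 0 := by
      rw [show (4 : F) = 2 * 2 by norm_num]; exact mul_ne_zero h2' h2'
    -- complete the square
    have hδ : γ - β ^ 2 / (4 * α) ≠ 0 := by
      intro h0
      apply hdisc
      field_simp at h0
      linear_combination (-1 : F) * h0
    obtain ⟨u, v, huv⟩ := FiniteField.exists_root_sum_quadratic
      (f := Polynomial.C α * Polynomial.X ^ 2)
      (g := Polynomial.C (γ - β ^ 2 / (4 * α)) * Polynomial.X ^ 2 + Polynomial.C (-1 : F))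
      (Polynomial.degree_C_mul_X_pow 2 hα)
      (by
        rw [Polynomial.degree_add_eq_left_of_degree_lt]
        · exact Polynomial.degree_C_mul_X_pow 2 hδ
        · rw [Polynomial.degree_C_mul_X_pow 2 hδ]
          exact lt_of_le_of_lt Polynomial.degree_C_le (by norm_num))
      (FiniteField.odd_card_of_char_ne_two h2)
    simp only [Polynomial.eval_add, Polynomial.eval_mul, Polynomial.eval_C, Polynomial.eval_pow,
      Polynomial.eval_X] at huv
    refine ⟨u - β * v / (2 * α), v, ?_⟩
    field_simp at huv ⊢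
    linear_combination huv

theorem eq_of_trace {G2 : Matrix.SpecialLinearGroup (Fin 2) F → ℂ} {p : ℕ} [Fact p.Prime]
    [CharP F p] (hf : IsClassFunction _ G2) (hv : ∀ g, p ∣ orderOf g → G2 g = 0)
    {A A' : Matrix.SpecialLinearGroup (Fin 2) F} (hA : A.1 1 0 ≠ 0) (hA' : A'.1 1 0 ≠ 0)
    (htr : A.1 0 0 + A.1 1 1 = A'.1 0 0 + A'.1 1 1) : G2 A = G2 A' := by
  classical
  set c := A.1 0 0 + A.1 1 1 with hc
  by_cases hdisc : c ^ 2 - 4 = 0
  · have hsing : ∀ B : Matrix.SpecialLinearGroup (Fin 2) F, B.1 1 0 ≠ 0 →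
        B.1 0 0 + B.1 1 1 = c → G2 B = 0 := by
      intro B hB hBc
      refine hv B ?_
      by_contra hreg
      obtain ⟨e, he1, he2⟩ : ∃ e : F, c = 2 * e ∧ e ^ 2 = 1 := by
        by_cases h2 : (2 : F) = 0
        · refine ⟨1, ?_, one_pow 2⟩
          have h4 : (4 : F) = 0 := by rw [show (4 : F) = 2 * 2 by norm_num, h2, mul_zero]
          rw [h4, sub_zero, sq_eq_zero_iff] at hdisc
          rw [hdisc, h2, zero_mul]
        · refine ⟨c / 2, by field_simp, ?_⟩
          field_simp
          linear_combination hdisc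
      have hne : e ≠ 0 := fun h0 => by rw [h0] at he2; simp at he2
      have hdet := B.2
      rw [Matrix.det_fin_two] at hdet
      set N : Matrix (Fin 2) (Fin 2) F := B.1 - e • 1 with hN
      have hN2 : N ^ 2 = 0 := by
        ext a b
        fin_cases a <;> fin_cases b <;>
          simp [hN, sq, Matrix.mul_apply, Fin.sum_univ_two, Matrix.one_apply] <;>
          first
          | linear_combination (B.1 0 0) * hBc + (B.1 0 0) * he1 - hdet + he2
          | linear_combination (B.1 0 1) * hBc + (B.1 0 1) * he1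
          | linear_combination (B.1 1 0) * hBc + (B.1 1 0) * he1
          | linear_combination (B.1 1 1) * hBc + (B.1 1 1) * he1 - hdet + he2
      have hp2 : 2 ≤ p := (Fact.out : p.Prime).two_le
      have hBp : B.1 ^ p = (e ^ p) • (1 : Matrix (Fin 2) (Fin 2) F) := by
        have hcom : Commute N (e • (1 : Matrix (Fin 2) (Fin 2) F)) :=
          (Commute.one_right N).smul_right e
        rw [show B.1 = N + e • 1 by rw [hN]; abel, add_pow_char_of_commute p hcom,
          pow_eq_zero_of_le hp2 hN2, zero_add, smul_pow, one_pow]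
      obtain ⟨k, hk⟩ := exists_pow_eq_self_of_coprime
        (((Fact.out : p.Prime).coprime_iff_not_dvd).2 hreg)
      apply hB
      have hk' := congrArg Subtype.val hk
      simp only [Matrix.SpecialLinearGroup.coe_pow] at hk'
      rw [← hk', hBp, smul_pow, one_pow]
      simp [Matrix.one_apply]
    rw [hsing A hA rfl, hsing A' hA' htr.symm]
  · have hconj : ∀ B : Matrix.SpecialLinearGroup (Fin 2) F, B.1 1 0 ≠ 0 →
        B.1 0 0 + B.1 1 1 = c →
        G2 B = G2 ⟨!![0, -1; 1, c], by simp [Matrix.det_fin_two]⟩ := by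
      intro B hB hBc
      have hdet := B.2
      rw [Matrix.det_fin_two] at hdet
      obtain ⟨x, y, hxy⟩ := quad_rep (α := B.1 1 0) (β := B.1 1 1 - B.1 0 0) (γ := -B.1 0 1) hB
        (fun h0 => hdisc (by rw [← hBc]; linear_combination h0 + 4 * hdet))
      let P : Matrix.SpecialLinearGroup (Fin 2) F :=
        ⟨!![x, B.1 0 0 * x + B.1 0 1 * y; y, B.1 1 0 * x + B.1 1 1 * y], by
          simp [Matrix.det_fin_two]; linear_combination hxy⟩
      let C : Matrix.SpecialLinearGroup (Fin 2) F :=
        ⟨!![0, -1; 1, c], by simp [Matrix.det_fin_two]⟩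
      have hBP : B * P = P * C := by
        refine Subtype.ext ?_
        show B.1 * P.1 = P.1 * C.1
        ext a b
        fin_cases a <;> fin_cases b <;>
          simp [P, C, Matrix.mul_apply, Fin.sum_univ_two] <;>
          first
          | ring1
          | linear_combination (B.1 0 0 * x + B.1 0 1 * y) * hBc - x * hdet
          | linear_combination (B.1 1 0 * x + B.1 1 1 * y) * hBc - y * hdet
      have : B = P * C * P⁻¹ := by rw [← hBP, mul_inv_cancel_right]
      rw [this]
      exact hf C P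
    rw [hconj A hA rfl, hconj A' hA' htr.symm]

theorem const_two {p : ℕ} [Fact p.Prime] [CharP F p]
    {f2 : Matrix.SpecialLinearGroup (Fin 2) F → ℂ} (hf : IsClassFunction _ f2)
    (hv : ∀ g, p ∣ orderOf g → f2 g = 0) {m m' : Matrix.SpecialLinearGroup (Fin 2) F}
    {d d' : Fin 2 → F} (hm : HasData m Fin.revPerm d) (hm' : HasData m' Fin.revPerm d') :
    zval (uni 2 F) f2 m = zval (uni 2 F) f2 m' := by
  classical
  haveI := Fintype.ofFinite (uni 2 F)
  have hq : ∀ (g : Matrix.SpecialLinearGroup (Fin 2) F) (e : Fin 2 → F),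
      HasData g Fin.revPerm e → qn (uni 2 F) g = 1 := fun g e hg => by
    rw [qn_eq hg, asc_rev, card_empty, pow_zero]
  rw [zval, zval, hq m d hm, hq m' d' hm', tau_eq_sum, tau_eq_sum]
  congr 1
  let X : F → Matrix.SpecialLinearGroup (Fin 2) F := fun a =>
    ⟨!![1, a; 0, 1], by simp [Matrix.det_fin_two]⟩
  let E : uni 2 F ≃ F :=
    { toFun := fun u => u.1.1 0 1
      invFun := fun a => ⟨X a, mem_uni.2 ⟨fun a b hab => by
        fin_cases a <;> fin_cases b <;> simp_all [X], fun a => by fin_cases a <;> simp [X]⟩⟩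
      left_inv := fun u => by
        refine Subtype.ext (Subtype.ext (Matrix.ext fun a b => ?_))
        have hu := mem_uni.1 u.2
        fin_cases a <;> fin_cases b <;> simp [X, hu.2, hu.1 1 0 (by decide)]
      right_inv := fun a => by simp [X] }
  have hd0 : d 0 ≠ 0 := hm.ne_zero 0
  have hd0' : d' 0 ≠ 0 := hm'.ne_zero 0
  refine Fintype.sum_equiv (E.trans ((Equiv.mulRight₀ (d 0 / d' 0)
    (div_ne_zero hd0 hd0')).trans E.symm)) _ _ fun u => ?_
  have hentry : ∀ (v : uni 2 F) (g : Matrix.SpecialLinearGroup (Fin 2) F) (e : Fin 2 → F),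
      HasData g Fin.revPerm e →
      (((v : Matrix.SpecialLinearGroup (Fin 2) F) * g).1 1 0 = e 0) ∧
      ((v : Matrix.SpecialLinearGroup (Fin 2) F) * g).1 0 0 +
        ((v : Matrix.SpecialLinearGroup (Fin 2) F) * g).1 1 1 = E v * e 0 := by
    intro v g e hg
    have hv' := mem_uni.1 v.2
    have h00 := hg 0 0
    have h01 := hg 0 1
    have h10 := hg 1 0
    have h11 := hg 1 1
    simp [Fin.revPerm_apply] at h00 h01 h10 h11
    constructor
    · show (v.1.1 * g.1) 1 0 = _
      simp [Matrix.mul_apply, Fin.sum_univ_two, hv'.2, hv'.1 1 0 (by decide), h10]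
    · show (v.1.1 * g.1) 0 0 + (v.1.1 * g.1) 1 1 = _
      simp [E, Matrix.mul_apply, Fin.sum_univ_two, hv'.2, hv'.1 1 0 (by decide), h00, h01, h10, h11]
  obtain ⟨a1, a2⟩ := hentry u m d hm
  obtain ⟨b1, b2⟩ := hentry ((E.trans ((Equiv.mulRight₀ (d 0 / d' 0)
    (div_ne_zero hd0 hd0')).trans E.symm)) u) m' d' hm'
  refine eq_of_trace hf hv (by rw [a1]; exact hd0) (by rw [b1]; exact hd0') ?_
  rw [a2, b2]
  simp only [Equiv.trans_apply, Equiv.apply_symm_apply, Equiv.mulRight₀_apply]
  field_simp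

/-- There is at most one character of defect zero. -/
theorem defZero_eq [Fact p.Prime] (hn : 2 ≤ n) (hM : IsPModular p M) {χ ψ : IrrCharacter 𝔾}
    (hχ : DefZero p χ) (hψ : DefZero p ψ) : χ = ψ := by
  classical
  refine defZero_unique hM (uni n F) (H37.isPGroup_unitriangularSL p n)
    (H37.not_dvd_index_unitriangularSL p n) (fun φ hφ g g' hg hg' => ?_) hχ hψ
  have hf := H12.irr_isClassFunction φ
  have red : ∀ x : 𝔾, qn (uni n F) x = 1 → ∃ (m : 𝔾) (d : Fin n → F), HasData m Fin.revPerm d ∧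
      zval (uni n F) (φ : 𝔾 → ℂ) x = zval (uni n F) (φ : 𝔾 → ℂ) m := by
    intro x hx
    obtain ⟨u, hu, m, v, hv, ⟨σ, d, hm⟩, rfl⟩ := exists_monomial x
    rw [qn_mul_right _ _ hv, qn_mul_left _ _ hu, qn_eq hm] at hx
    have hσ : σ = Fin.revPerm := by
      refine eq_rev_of_asc (card_eq_zero.1 ?_)
      rcases Nat.eq_zero_or_pos (asc σ).card with h0 | h0
      · exact h0
      · exact absurd hx (one_lt_pow₀ Fintype.one_lt_card h0.ne').ne'
    subst hσ
    exact ⟨m, d, hm, by rw [zval_mul_right _ hf _ hv, zval_mul_left _ _ _ hu]⟩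
  obtain ⟨m, d, hm, e⟩ := red g hg
  obtain ⟨m', d', hm', e'⟩ := red g' hg'
  rw [e, e']
  rcases hn.lt_or_eq with h3 | h2
  · exact const_big hM hf (memRing_zval hM _ hφ) h3 hm hm'
  · subst h2
    rw [const_two hf (fun y hy => ?_) hm hm', sub_self]
    · exact H20.memIdeal_zero
    · refine H20.vanish_of_singleton_block hM ((H20.blockOf_eq_singleton_iff hM φ).1 ?_) hy
      intro hdvd
      have hdd := H12.irr_degree_dvd_card φ
      have h2 := (Nat.factorization_div hdd)
      have h3 := (Fact.out : p.Prime).factorization_pos_of_dvd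
        (Nat.div_pos (Nat.le_of_dvd Nat.card_pos hdd) (H12.irr_degree_pos φ)).ne' hdvd
      rw [h2, Finsupp.tsub_apply] at h3
      unfold DefZero at hφ
      rw [H20.charDegree_eq_degree] at hφ
      omega

end H22.SLDefectZero
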