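import Cfsg.Agent.H13.Clifford
import Cfsg.Agent.H20.Orth
import Cfsg.Agent.H21.Covering
import Cfsg.Agent.H22.CentralInt
import Cfsg.Agent.H22.Divis

/-!
# The principal block and a normal subgroup supplemented by the centralizer of a Sylow subgroup

If `N ⊴ G` has index prime to `p` and `G = N * C_G(P)` for a Sylow `p`-subgroup `P`, then
restriction is a bijection from the principal block of `G` to that of `N` (Alperin, Dade).

Everything takes place in the complex group algebra, graded by the cosets of `N`.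
-/

set_option autoImplicit false
set_option linter.unusedSectionVars false

open Cfsg MonoidAlgebra
open scoped ComplexConjugate

namespace H22

universe u

variable {G : Type u} [Group G] [Fintype G] {N : Subgroup G} [N.Normal] [Fintype N]

/-! ### Generalities -/

/-- The sum of the coefficients. -/
noncomputable def aug (z : MonoidAlgebra ℂ G) : ℂ := ∑ x : G, z.coeff x

/-- The coefficients outside the coset `q` vanish. -/
def InCoset (N : Subgroup G) (q : G ⧸ N) (z : MonoidAlgebra ℂ G) : Prop :=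
  ∀ x : G, (x : G ⧸ N) ≠ q → z.coeff x = 0

/-- The value of a combination supported on `N` at a representation of `N`. -/
noncomputable def evalN {W : Type*} [AddCommGroup W] [Module ℂ W] (ρ : Representation ℂ N W)
    (z : MonoidAlgebra ℂ G) : Module.End ℂ W :=
  ∑ n : N, z.coeff (n : G) • ρ n

/-- The scalar by which a central combination on `N` acts on a constituent `θ`. -/
noncomputable def omegaN (θ : N → ℂ) (z : MonoidAlgebra ℂ G) : ℂ :=
  (∑ n : N, z.coeff (n : G) * θ n) / θ 1

theorem aug_mul (a b : MonoidAlgebra ℂ G) : aug (a * b) = aug a * aug b := by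
  simp only [aug, H20.coeff_mul_group]
  rw [Finset.sum_mul, Finset.sum_comm]
  refine Finset.sum_congr rfl fun x _ => ?_
  rw [Finset.mul_sum]
  refine Fintype.sum_equiv (Equiv.mulLeft x⁻¹) _ _ fun c => ?_
  simp

omit [Fintype G] [Fintype N] in
theorem InCoset.eq_zero {q : G ⧸ N} {z : MonoidAlgebra ℂ G} (h : InCoset N q z) {x : G}
    (hx : (x : G ⧸ N) ≠ q) : z.coeff x = 0 := h x hx

omit [Fintype N] in
theorem InCoset.mul {q r : G ⧸ N} {a b : MonoidAlgebra ℂ G} (ha : InCoset N q a)
    (hb : InCoset N r b) : InCoset N (q * r) (a * b) := by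
  intro c hc
  rw [H20.coeff_mul_group]
  refine Finset.sum_eq_zero fun x _ => ?_
  by_cases hx : (x : G ⧸ N) = q
  · rw [hb.eq_zero, mul_zero]
    intro h
    apply hc
    rw [← hx, ← h, ← QuotientGroup.mk_mul, mul_inv_cancel_left]
  · rw [ha.eq_zero hx, zero_mul]

theorem sum_subtype_of_inCoset_one {z : MonoidAlgebra ℂ G} (h : InCoset N 1 z) {A : Type*}
    [AddCommMonoid A] (f : G → ℂ → A) (hf : ∀ x, f x 0 = 0) :
    ∑ x : G, f x (z.coeff x) = ∑ n : N, f (n : G) (z.coeff (n : G)) := by
  classical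
  rw [← Finset.sum_subset (Finset.subset_univ (Finset.univ.filter (· ∈ N))) fun x _ hx => ?_,
    Finset.sum_subtype (p := (· ∈ N)) _ (by simp)]
  rw [h.eq_zero, hf]
  intro h1
  exact hx (by simpa using (QuotientGroup.eq_one_iff x).1 h1)

theorem aug_eq_sum_subtype {z : MonoidAlgebra ℂ G} (h : InCoset N 1 z) :
    aug z = ∑ n : N, z.coeff (n : G) :=
  sum_subtype_of_inCoset_one h (fun _ c => c) fun _ => rfl

theorem evalN_mul {W : Type*} [AddCommGroup W] [Module ℂ W] (ρ : Representation ℂ N W)
    {a : MonoidAlgebra ℂ G} (ha : InCoset N 1 a) (b : MonoidAlgebra ℂ G) :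
    evalN ρ (a * b) = evalN ρ a * evalN ρ b := by
  have hc : ∀ n : N, (a * b).coeff (n : G) =
      ∑ m : N, a.coeff (m : G) * b.coeff ((m⁻¹ * n : N) : G) := fun n => by
    rw [H20.coeff_mul_group, sum_subtype_of_inCoset_one ha
      (fun x c => c * b.coeff (x⁻¹ * (n : G))) fun x => zero_mul _]
    simp
  simp only [evalN, hc, Finset.sum_smul]
  rw [Finset.sum_mul, Finset.sum_comm]
  refine Finset.sum_congr rfl fun m _ => ?_
  simp only [Finset.mul_sum, smul_mul_smul_comm, ← map_mul]
  refine Fintype.sum_equiv (Equiv.mulLeft m⁻¹) _ _ fun n => ?_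
  simp

theorem evalN_single {W : Type*} [AddCommGroup W] [Module ℂ W] (ρ : Representation ℂ N W) (n : N) :
    evalN ρ (MonoidAlgebra.single (n : G) (1 : ℂ)) = ρ n := by
  classical
  rw [evalN, Finset.sum_eq_single n]
  · simp
  · intro m _ hm
    rw [MonoidAlgebra.coeff_single, Finsupp.single_eq_of_ne, zero_smul]
    simpa using hm
  · simp

omit [Fintype G] [Fintype N] in
theorem isClassFunction_coeff {z : MonoidAlgebra ℂ G} (hz : H20.IsInv N z) :
    IsClassFunction N (fun n : N => z.coeff (n : G)) := fun n m => by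
  simpa using hz (n : G) (m : G) m.2

theorem evalN_eq_omegaN {W : Type*} [AddCommGroup W] [Module ℂ W] [FiniteDimensional ℂ W]
    (ρ : Representation ℂ N W) [ρ.IsIrreducible] {z : MonoidAlgebra ℂ G} (hz : H20.IsInv N z) :
    evalN ρ z = omegaN ρ.character z • (1 : Module.End ℂ W) := by
  rw [omegaN, Representation.char_one]
  exact H12.avgOp_eq_smul ρ (isClassFunction_coeff hz)

theorem isInv_single_mul {z : MonoidAlgebra ℂ G} (hz : H20.IsInv N z) {n : G} (hn : n ∈ N) :
    MonoidAlgebra.single n (1 : ℂ) * z = z * MonoidAlgebra.single n (1 : ℂ) := by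
  classical
  ext x
  rw [H20.coeff_mul_group, H20.coeff_mul_group, Finset.sum_eq_single n, Finset.sum_eq_single (x * n⁻¹)]
  · simp only [MonoidAlgebra.coeff_single, mul_inv_rev, inv_inv]
    rw [Finsupp.single_eq_same, mul_assoc, inv_mul_cancel, mul_one, Finsupp.single_eq_same,
      one_mul, mul_one, ← hz (n⁻¹ * x) n hn]
    congr 1
    group
  · intro y _ hy
    rw [MonoidAlgebra.coeff_single, Finsupp.single_eq_of_ne, mul_zero]
    intro h
    exact hy (by rw [← h]; group)
  · simp
  · intro y _ hy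
    rw [MonoidAlgebra.coeff_single, Finsupp.single_eq_of_ne hy, zero_mul]
  · simp

/-- If every constituent of a representation is annihilated by a class function, then so is the
representation. -/
theorem avgOp_eq_zero_of_constituents {K : Type u} [Group K] [Fintype K] {f : K → ℂ}
    (hf : IsClassFunction K f) (n : ℕ) :
    ∀ (V : Type) [AddCommGroup V] [Module ℂ V] [FiniteDimensional ℂ V]
      (ρ : Representation ℂ K V), Module.finrank ℂ V = n →
      (∀ φ : IrrCharacter K, classInner ρ.character (φ : K → ℂ) ≠ 0 →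
        ∑ g : K, f g * (φ : K → ℂ) g = 0) → H12.avgOp ρ f = 0 := by
  induction n using Nat.strong_induction_on with
  | _ n ih =>
    intro V _ _ _ ρ hn h0
    by_cases hirr : ρ.IsIrreducible
    · rw [H12.avgOp_eq_smul ρ hf]
      have h1 := h0 (H12.irrOf ρ)
        (by
          have := H12.classInner_irr_self (H12.irrOf ρ)
          simp only [H12.irrOf] at this ⊢
          rw [this]; exact one_ne_zero)
      simp only [H12.irrOf] at h1
      simp [h1]
    rcases subsingleton_or_nontrivial V with hV | hV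
    · exact Subsingleton.elim _ _
    obtain ⟨a, b, hab, hla, hlb⟩ := H12.exists_proper_decomp ρ hirr
    have hchar := H12.character_eq_add_of_isCompl ρ a b hab
    have hsub : ∀ φ : IrrCharacter K,
        classInner a.toRepresentation.character (φ : K → ℂ) ≠ 0 ∨
          classInner b.toRepresentation.character (φ : K → ℂ) ≠ 0 →
        classInner ρ.character (φ : K → ℂ) ≠ 0 := by
      intro φ hφ
      obtain ⟨i, hi⟩ := H12.IsCharacter.classInner_nat
        (H12.isCharacter_character a.toRepresentation) (H12.isCharacter_irr φ)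
      obtain ⟨j, hj⟩ := H12.IsCharacter.classInner_nat
        (H12.isCharacter_character b.toRepresentation) (H12.isCharacter_irr φ)
      rw [hi, hj] at hφ
      rw [hchar, H12.classInner_add_left, hi, hj]
      rw [← Nat.cast_add, Nat.cast_ne_zero]
      rcases hφ with h | h <;> simp only [ne_eq, Nat.cast_eq_zero] at h <;> omega
    have key : ∀ (s : Subrepresentation ρ), H12.avgOp s.toRepresentation f = 0 →
        ∀ x ∈ s.toSubmodule, H12.avgOp ρ f x = 0 := by
      intro s hs x hx
      have h := congrArg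
        (fun T : Module.End ℂ s.toSubmodule => ((T ⟨x, hx⟩ : s.toSubmodule) : V)) hs
      simpa [H12.avgOp_apply, Subrepresentation.toRepresentation, LinearMap.restrict_apply] using h
    have ha := key a (ih _ (hn ▸ hla) _ a.toRepresentation rfl
      fun φ hφ => h0 φ (hsub φ (Or.inl hφ)))
    have hb := key b (ih _ (hn ▸ hlb) _ b.toRepresentation rfl
      fun φ hφ => h0 φ (hsub φ (Or.inr hφ)))
    apply LinearMap.ext
    intro v
    have hv : v ∈ a.toSubmodule ⊔ b.toSubmodule := by rw [hab.sup_eq_top]; trivial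
    obtain ⟨x, hx, y, hy, rfl⟩ := Submodule.mem_sup.1 hv
    simp [map_add, ha x hx, hb y hy]

/-! ### Normalised class sums of `N` -/

open Classical in
/-- The average of the `N`-conjugates of `c`. -/
noncomputable def nAvg (N : Subgroup G) (c : G) : MonoidAlgebra ℂ G :=
  H20.ofFun fun x => if ∃ n ∈ N, n * c * n⁻¹ = x then
    ((Finset.univ.filter fun y : G => ∃ n ∈ N, n * c * n⁻¹ = y).card : ℂ)⁻¹ else 0

omit [Fintype N] in
theorem isInv_nAvg (c : G) : H20.IsInv N (nAvg N c) := by
  classical
  intro g h hh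
  simp only [nAvg, H20.coeff_ofFun]
  refine if_congr ⟨?_, ?_⟩ rfl rfl
  · rintro ⟨n, hn, hx⟩
    refine ⟨h⁻¹ * n, N.mul_mem (N.inv_mem hh) hn, ?_⟩
    calc h⁻¹ * n * c * (h⁻¹ * n)⁻¹ = h⁻¹ * (n * c * n⁻¹) * h := by group
      _ = g := by rw [hx]; group
  · rintro ⟨n, hn, rfl⟩
    exact ⟨h * n, N.mul_mem hh hn, by group⟩

omit [Fintype N] in
theorem inCoset_nAvg (c : G) : InCoset N (c : G ⧸ N) (nAvg N c) := by
  classical
  intro x hx
  simp only [nAvg, H20.coeff_ofFun]
  rw [if_neg]
  rintro ⟨n, hn, rfl⟩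
  exact hx (by
    rw [QuotientGroup.mk_mul, QuotientGroup.mk_mul, QuotientGroup.mk_inv,
      (QuotientGroup.eq_one_iff n).2 hn]
    simp)

omit [Fintype N] in
theorem aug_nAvg (c : G) : aug (nAvg N c) = 1 := by
  classical
  simp only [aug, nAvg, H20.coeff_ofFun, ← Finset.sum_filter, Finset.sum_const, nsmul_eq_mul]
  refine mul_inv_cancel₀ ?_
  rw [Nat.cast_ne_zero]
  exact (Finset.card_pos.2 ⟨c, Finset.mem_filter.2
    ⟨Finset.mem_univ _, 1, N.one_mem, by group⟩⟩).ne'

omit [Fintype N] in
open Classical in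
/-- If `P ≤ C(c) ∩ N` has index in `N` prime to `p`, then so is the number of `N`-conjugates. -/
theorem not_dvd_card_orbit {p : ℕ} {c : G} {P : Subgroup G}
    (hP : P ≤ Subgroup.centralizer ({c} : Set G)) (hi : ¬ p ∣ P.relIndex N) :
    ¬ p ∣ (Finset.univ.filter fun y : G => ∃ n ∈ N, n * c * n⁻¹ = y).card := by
  intro hdvd
  apply hi
  set C := (Subgroup.centralizer ({c} : Set G)).subgroupOf N
  have hcard : (Finset.univ.filter fun y : G => ∃ n ∈ N, n * c * n⁻¹ = y).card = C.index := by
    rw [← Fintype.card_subtype, ← Nat.card_eq_fintype_card, Subgroup.index]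
    refine (Nat.card_eq_of_bijective (fun q : N ⧸ C => Quotient.liftOn' q
      (fun n : N => (⟨(n : G) * c * (n : G)⁻¹, (n : G), n.2, rfl⟩ :
        {y : G // ∃ n ∈ N, n * c * n⁻¹ = y})) ?_) ⟨?_, ?_⟩).symm
    · intro n m h
      rw [QuotientGroup.leftRel_apply, Subgroup.mem_subgroupOf,
        Subgroup.mem_centralizer_singleton_iff] at h
      apply Subtype.ext
      show (n : G) * c * (n : G)⁻¹ = (m : G) * c * (m : G)⁻¹
      push_cast at h
      calc (n : G) * c * (n : G)⁻¹ =
            (n : G) * (c * ((n : G)⁻¹ * (m : G))) * (m : G)⁻¹ := by group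
        _ = (n : G) * (((n : G)⁻¹ * (m : G)) * c) * (m : G)⁻¹ := by rw [h]
        _ = (m : G) * c * (m : G)⁻¹ := by group
    · intro a b
      induction a using QuotientGroup.induction_on with
      | _ n =>
        induction b using QuotientGroup.induction_on with
        | _ m =>
          intro h
          have h' : (n : G) * c * (n : G)⁻¹ = (m : G) * c * (m : G)⁻¹ := congrArg Subtype.val h
          rw [QuotientGroup.eq, Subgroup.mem_subgroupOf, Subgroup.mem_centralizer_singleton_iff]
          push_cast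
          calc ((n : G)⁻¹ * (m : G)) * c
              = (n : G)⁻¹ * ((m : G) * c * (m : G)⁻¹) * (m : G) := by group
            _ = (n : G)⁻¹ * ((n : G) * c * (n : G)⁻¹) * (m : G) := by rw [h']
            _ = c * ((n : G)⁻¹ * (m : G)) := by group
    · rintro ⟨y, n, hn, rfl⟩
      exact ⟨(⟨n, hn⟩ : N), rfl⟩
  rw [hcard] at hdvd
  exact hdvd.trans (Subgroup.relIndex_dvd_of_le_left N hP)

open Classical in
/-- The part of `z` on the coset `q`. -/
noncomputable def part (N : Subgroup G) (q : G ⧸ N) (z : MonoidAlgebra ℂ G) : MonoidAlgebra ℂ G :=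
  H20.ofFun fun x => if (x : G ⧸ N) = q then z.coeff x else 0

omit [Fintype N] in
theorem inCoset_part (q : G ⧸ N) (z : MonoidAlgebra ℂ G) : InCoset N q (part N q z) := by
  intro x hx
  simp [part, hx]

omit [Fintype N] in
theorem isInv_part (q : G ⧸ N) {z : MonoidAlgebra ℂ G} (hz : H20.IsCl z) :
    H20.IsInv N (part N q z) := by
  intro g h hh
  have : ((h * g * h⁻¹ : G) : G ⧸ N) = (g : G ⧸ N) := by
    rw [QuotientGroup.mk_mul, QuotientGroup.mk_mul, QuotientGroup.mk_inv,
      (QuotientGroup.eq_one_iff h).2 hh]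
    simp
  simp only [part, H20.coeff_ofFun]
  rw [this, hz g h]

omit [Fintype N] in
theorem sum_part_mul_part [Fintype (G ⧸ N)] (a b : MonoidAlgebra ℂ G) (r : G ⧸ N) :
    ∑ s : G ⧸ N, part N s a * part N (s⁻¹ * r) b = part N r (a * b) := by
  classical
  ext x
  simp only [MonoidAlgebra.coeff_sum, Finsupp.coe_finset_sum, Finset.sum_apply,
    H20.coeff_mul_group, part, H20.coeff_ofFun]
  rw [Finset.sum_comm]
  by_cases hx : (x : G ⧸ N) = r
  · rw [if_pos hx]
    refine Finset.sum_congr rfl fun y _ => ?_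
    rw [Finset.sum_eq_single (y : G ⧸ N)]
    · rw [if_pos rfl, if_pos]
      rw [QuotientGroup.mk_mul, QuotientGroup.mk_inv, hx]
    · intro s _ hs
      rw [if_neg (Ne.symm hs), zero_mul]
    · simp
  · rw [if_neg hx]
    refine Finset.sum_eq_zero fun y _ => Finset.sum_eq_zero fun s _ => ?_
    by_cases hy : (y : G ⧸ N) = s
    · rw [if_neg (c := ((y⁻¹ * x : G) : G ⧸ N) = s⁻¹ * r), mul_zero]
      rw [QuotientGroup.mk_mul, QuotientGroup.mk_inv, hy]
      exact fun h => hx (mul_left_cancel h)
    · rw [if_neg hy, zero_mul]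

/-! ### Integrality and congruence of `omegaN` -/

variable {p : ℕ} [hp : Fact p.Prime] {M : Ideal AlgInt} [hMp : M.IsPrime]

/-- All coefficients are local integers. -/
def IntCoeff (M : Ideal AlgInt) (z : MonoidAlgebra ℂ G) : Prop :=
  ∀ x, MemLocalRing M (z.coeff x)

theorem IntCoeff.mul {a b : MonoidAlgebra ℂ G} (ha : IntCoeff M a) (hb : IntCoeff M b) :
    IntCoeff M (a * b) := fun c => by
  rw [H20.coeff_mul_group]
  exact H20.memRing_sum _ _ fun x _ => H20.memRing_mul (ha x) (hb _)

theorem IntCoeff.memRing_aug {a : MonoidAlgebra ℂ G} (ha : IntCoeff M a) :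
    MemLocalRing M (aug a) :=
  H20.memRing_sum _ _ fun x _ => ha x

theorem intCoeff_part {z : MonoidAlgebra ℂ G} (hz : IntCoeff M z) (q : G ⧸ N) :
    IntCoeff M (part N q z) := fun x => by
  classical
  simp only [part, H20.coeff_ofFun]
  split
  · exact hz x
  · exact H20.memRing_of_isIntegral isIntegral_zero

theorem intCoeff_nAvg (hM : IsPModular p M) {c : G} {P : Subgroup G}
    (hP : P ≤ Subgroup.centralizer ({c} : Set G)) (hi : ¬ p ∣ P.relIndex N) :
    IntCoeff M (nAvg N c) := fun x => by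
  classical
  simp only [nAvg, H20.coeff_ofFun]
  split
  · exact H20.inv_natCast_memRing hM (not_dvd_card_orbit hP hi)
  · exact H20.memRing_of_isIntegral isIntegral_zero

/-- A member of the principal block of `N` evaluates central combinations like the augmentation. -/
theorem omegaN_congr {z : MonoidAlgebra ℂ G} (hint : IntCoeff M z) (hz : H20.IsInv N z)
    (h1 : InCoset N 1 z) {θ : IrrCharacter N} (hθ : θ ∈ principalBlock M N) :
    MemLocalRing M (omegaN (θ : N → ℂ) z) ∧
      MemLocalIdeal M (omegaN (θ : N → ℂ) z - aug z) := by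
  classical
  have : Fintype (ConjClasses N) := Fintype.ofFinite _
  have hcl := isClassFunction_coeff hz
  have e1 : omegaN (θ : N → ℂ) z =
      ∑ C : ConjClasses N, z.coeff (C.out : G) * centralChar (θ : N → ℂ) C.out := by
    rw [omegaN, sum_eq_sum_classes (fun n : N => z.coeff (n : G) * (θ : N → ℂ) n)
      (fun g h => by simp only [hcl g h, H12.irr_isClassFunction θ g h]), Finset.sum_div]
    refine Finset.sum_congr rfl fun C _ => ?_
    rw [centralChar]; ring
  have e2 : aug z = ∑ C : ConjClasses N,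
      z.coeff (C.out : G) * ((Subgroup.centralizer ({C.out} : Set N)).index : ℂ) := by
    rw [aug_eq_sum_subtype h1, sum_eq_sum_classes (fun n : N => z.coeff (n : G)) hcl]
    exact Finset.sum_congr rfl fun C _ => mul_comm _ _
  refine ⟨?_, ?_⟩
  · rw [e1]
    exact H20.memRing_sum _ _ fun C _ => H20.memRing_mul (hint _) (H20.memRing_centralChar θ _)
  · rw [e1, e2, ← Finset.sum_sub_distrib]
    refine Finset.sum_induction _ (MemLocalIdeal M) (fun _ _ => H20.memIdeal_add) H20.memIdeal_zero
      fun C _ => ?_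
    rw [← mul_sub]
    refine H20.memIdeal_mul (hint _) ?_
    have h := H20.memIdeal_mul (H20.memRing_neg (H20.memRing_natCast 1)) (hθ C.out)
    convert h using 1
    simp [centralChar]

theorem omegaN_not_memIdeal {z : MonoidAlgebra ℂ G} (hint : IntCoeff M z) (hz : H20.IsInv N z)
    (h1 : InCoset N 1 z) (haug : aug z = 1) {θ : IrrCharacter N} (hθ : θ ∈ principalBlock M N) :
    ¬ MemLocalIdeal M (omegaN (θ : N → ℂ) z) := by
  intro h
  apply H20.not_memIdeal_one (M := M)
  have h2 := (omegaN_congr hint hz h1 hθ).2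
  rw [haug] at h2
  have := H20.memIdeal_add h (H20.memIdeal_mul (H20.memRing_neg (H20.memRing_natCast 1)) h2)
  convert this using 1
  push_cast
  ring

/-! ### The supplement -/

/-- Hypotheses of the Alperin-Dade theorem. -/
structure IsSupplemented (p : ℕ) (N P : Subgroup G) : Prop where
  notDvd : ¬ p ∣ P.relIndex N
  rep : ∀ g : G, ∃ c : G, (c : G ⧸ N) = (g : G ⧸ N) ∧ P ≤ Subgroup.centralizer ({c} : Set G)
  index : ¬ p ∣ N.index
  notDvd' : ¬ p ∣ P.index

/-- A member of the principal block of `N` is invariant in `G`. -/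
theorem twist_eq_self (hM : IsPModular p M) {P : Subgroup G} (h : IsSupplemented p N P)
    {θ : IrrCharacter N} (hθ : θ ∈ principalBlock M N) (g : G) :
    H13.twist N g (θ : N → ℂ) = (θ : N → ℂ) := by
  classical
  obtain ⟨c, hc, hcP⟩ := h.rep g
  have hg : g * c⁻¹ ∈ N := by
    rw [← QuotientGroup.eq_one_iff, QuotientGroup.mk_mul, QuotientGroup.mk_inv, hc, mul_inv_cancel]
  -- it is enough to treat `c`
  suffices hcinv : H13.twist N c (θ : N → ℂ) = (θ : N → ℂ) by
    funext n
    rw [H13.twist_apply]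
    have e : (⟨g * n * g⁻¹, (inferInstance : N.Normal).conj_mem n n.2 g⟩ : N) =
        ⟨g * c⁻¹, hg⟩ * ⟨c * n * c⁻¹, (inferInstance : N.Normal).conj_mem n n.2 c⟩ *
          (⟨g * c⁻¹, hg⟩ : N)⁻¹ := by
      apply Subtype.ext
      push_cast
      group
    rw [e, H12.irr_isClassFunction θ]
    exact congrFun hcinv n
  obtain ⟨m, ρ, hρ, hρθ⟩ := θ.2
  have := hρ
  have hcP' : P ≤ Subgroup.centralizer ({c⁻¹} : Set G) := fun x hx => by
    rw [Subgroup.mem_centralizer_singleton_iff]
    exact (show Commute x c from Subgroup.mem_centralizer_singleton_iff.1 (hcP hx)).inv_right.eq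
  set u := nAvg N c * MonoidAlgebra.single c⁻¹ (1 : ℂ) with hu
  set u' := MonoidAlgebra.single c (1 : ℂ) * nAvg N c⁻¹ with hu'
  have hu1 : InCoset N 1 u := by
    have h1 : InCoset N ((c⁻¹ : G) : G ⧸ N) (MonoidAlgebra.single c⁻¹ (1 : ℂ)) := fun x hx => by
      rw [MonoidAlgebra.coeff_single, Finsupp.single_eq_of_ne]
      exact fun h => hx (by rw [h])
    have := (inCoset_nAvg (N := N) c).mul h1
    rwa [← QuotientGroup.mk_mul, mul_inv_cancel, QuotientGroup.mk_one] at this
  have hprod : u * u' = nAvg N c * nAvg N c⁻¹ := by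
    rw [hu, hu', mul_assoc, ← mul_assoc (MonoidAlgebra.single c⁻¹ (1 : ℂ)), single_mul_single,
      inv_mul_cancel, mul_one, ← MonoidAlgebra.one_def, one_mul]
  have hzc : InCoset N 1 (nAvg N c * nAvg N c⁻¹) := by
    have := (inCoset_nAvg (N := N) c).mul (inCoset_nAvg (N := N) c⁻¹)
    rwa [← QuotientGroup.mk_mul, mul_inv_cancel, QuotientGroup.mk_one] at this
  have hne : evalN ρ u ≠ 0 := by
    intro h0
    have h1 := evalN_mul ρ hu1 u'
    rw [h0, zero_mul, hprod, evalN_eq_omegaN ρ ((isInv_nAvg c).mul (isInv_nAvg c⁻¹))] at h1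
    have := H12.nontrivial_of_isIrreducible ρ
    rcases smul_eq_zero.1 h1 with h2 | h2
    · refine omegaN_not_memIdeal (M := M)
        ((intCoeff_nAvg hM hcP h.notDvd).mul (intCoeff_nAvg hM hcP' h.notDvd))
        ((isInv_nAvg c).mul (isInv_nAvg c⁻¹)) hzc (by rw [aug_mul, aug_nAvg, aug_nAvg, one_mul])
        hθ ?_
      rw [← hρθ, h2]
      exact H20.memIdeal_zero
    · exact one_ne_zero h2
  have hcomm : ∀ n : N, ρ n * evalN ρ u =
      evalN ρ u * ρ ⟨c * n * c⁻¹, (inferInstance : N.Normal).conj_mem n n.2 c⟩ := by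
    intro n
    have h1 : InCoset N 1 (MonoidAlgebra.single (n : G) (1 : ℂ)) := fun x hx => by
      rw [MonoidAlgebra.coeff_single, Finsupp.single_eq_of_ne]
      exact fun h => hx (by rw [h, (QuotientGroup.eq_one_iff (n : G)).2 n.2])
    rw [← evalN_single (G := G) ρ n, ← evalN_single (G := G) ρ, ← evalN_mul ρ h1,
      ← evalN_mul ρ hu1]
    congr 1
    rw [hu, ← mul_assoc, isInv_single_mul (isInv_nAvg c) n.2, mul_assoc, mul_assoc,
      single_mul_single, single_mul_single]
    congr 2
    show (n : G) * c⁻¹ = c⁻¹ * (c * n * c⁻¹)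
    group
  set U := evalN ρ u
  have hinj : Function.Injective U := by
    rw [← LinearMap.ker_eq_bot]
    let S : Subrepresentation ρ := ⟨LinearMap.ker U, fun m v hv => by
      rw [LinearMap.mem_ker] at hv ⊢
      have hmem : c⁻¹ * (m : G) * c ∈ N := by
        simpa using (inferInstance : N.Normal).conj_mem m m.2 c⁻¹
      have hm := hcomm ⟨c⁻¹ * m * c, hmem⟩
      have e : (⟨c * (c⁻¹ * m * c) * c⁻¹,
          (inferInstance : N.Normal).conj_mem _ hmem c⟩ : N) = m := Subtype.ext (by group)
      rw [e] at hm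
      have h2 := LinearMap.congr_fun hm v
      simp only [Module.End.mul_apply] at h2
      rw [← h2, hv, map_zero]⟩
    rcases eq_bot_or_eq_top S with hS | hS
    · exact congrArg Subrepresentation.toSubmodule hS
    · exfalso
      apply hne
      have : LinearMap.ker U = ⊤ := congrArg Subrepresentation.toSubmodule hS
      exact LinearMap.ker_eq_top.1 this
  let e := LinearEquiv.ofBijective U ⟨hinj, LinearMap.surjective_of_injective hinj⟩
  funext n
  rw [H13.twist_apply, ← hρθ]
  show LinearMap.trace ℂ _ (ρ _) = LinearMap.trace ℂ _ (ρ n)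
  rw [← LinearMap.trace_conj' (ρ ⟨c * n * c⁻¹, _⟩) e]
  congr 1
  apply LinearMap.ext
  intro v
  obtain ⟨w, rfl⟩ := e.surjective v
  rw [LinearEquiv.conj_apply_apply, LinearEquiv.symm_apply_apply]
  exact (LinearMap.congr_fun (hcomm n) w).symm

/-- An invariant character restricts to a multiple. -/
theorem res_eq_nat_mul {θ : IrrCharacter N}
    (hinv : ∀ g : G, H13.twist N g (θ : N → ℂ) = (θ : N → ℂ)) {χ : IrrCharacter G}
    (hne : classInner (fun n : N => (χ : G → ℂ) n) (θ : N → ℂ) ≠ 0) :
    ∃ k : ℕ, classInner (fun n : N => (χ : G → ℂ) n) (θ : N → ℂ) = k ∧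
      ∀ n : N, (χ : G → ℂ) n = (k : ℂ) * (θ : N → ℂ) n := by
  classical
  obtain ⟨k, hk⟩ := H12.IsCharacter.classInner_nat (H12.IsCharacter.res (H12.isCharacter_irr χ) N)
    (H12.isCharacter_irr θ)
  refine ⟨k, hk, fun n => ?_⟩
  have h := congrFun (H13.clifford_res N χ.2 θ.2 hne {θ} fun ψ => by
    simp only [Finset.mem_singleton, hinv]
    exact ⟨fun h => ⟨1, by rw [h]⟩, fun ⟨_, h⟩ => Subtype.ext h.symm⟩) n
  rw [h, hk]
  simp

theorem exists_over (θ : IrrCharacter N) :
    ∃ χ : IrrCharacter G, classInner (fun n : N => (χ : G → ℂ) n) (θ : N → ℂ) ≠ 0 := by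
  classical
  by_contra hne
  push Not at hne
  have h1 : ∀ χ : IrrCharacter G, ∑ n : N, (χ : G → ℂ) n * conj ((θ : N → ℂ) n) = 0 := fun χ => by
    rw [H12.sum_mul_conj_eq_card_mul (fun n : N => (χ : G → ℂ) n) (θ : N → ℂ), hne χ, mul_zero]
  have h2 : ∑ χ : IrrCharacter G, (χ : G → ℂ) 1 *
      ∑ n : N, (χ : G → ℂ) n * conj ((θ : N → ℂ) n) = 0 :=
    Finset.sum_eq_zero fun χ _ => by rw [h1, mul_zero]
  simp only [Finset.mul_sum, ← mul_assoc] at h2
  rw [Finset.sum_comm] at h2
  simp only [← Finset.sum_mul, H12.regular_eq_sum] at h2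
  rw [Finset.sum_eq_single (1 : N) (fun n _ hn => by
    rw [if_neg (fun h => hn (Subtype.ext (by simpa using h))), zero_mul]) (by simp)] at h2
  simp only [Subgroup.coe_one, if_true, H12.irr_apply_one, Complex.conj_natCast] at h2
  rcases mul_eq_zero.1 h2 with h | h
  · exact H12.card_ne_zero' h
  · exact (H12.irr_degree_pos θ).ne' (Nat.cast_eq_zero.1 h)

/-- A member of the principal block of `G` trivial on `N` is trivial. -/
theorem eq_one_of_trivial_on (hM : IsPModular p M) {P : Subgroup G} (h : IsSupplemented p N P)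
    {χ : IrrCharacter G} (hχ : χ ∈ principalBlock M G)
    (htriv : ∀ n : N, (χ : G → ℂ) n = (χ : G → ℂ) 1) : χ = H12.oneIrr G := by
  classical
  by_contra hne
  have hsum : ∑ x : G, (χ : G → ℂ) x = 0 := by
    have := H12.sum_mul_conj_eq_card_mul (χ : G → ℂ) (H12.oneIrr G : G → ℂ)
    rw [H12.classInner_irr_ne hne, mul_zero] at this
    simpa [H12.oneIrr_apply] using this
  choose c hc hcP using h.rep
  let cq : G ⧸ N → G := fun q => c q.out
  have hcq : ∀ q : G ⧸ N, (cq q : G ⧸ N) = q := fun q => by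
    simp only [cq, hc]
    exact QuotientGroup.out_eq' q
  have hval : ∀ x : G, (χ : G → ℂ) x = (χ : G → ℂ) (cq x) := by
    intro x
    have hn : x * (cq x)⁻¹ ∈ N := by
      rw [← QuotientGroup.eq_one_iff, QuotientGroup.mk_mul, QuotientGroup.mk_inv, hcq,
        mul_inv_cancel]
    obtain ⟨m, ρ, hρ, hρχ⟩ := χ.2
    have hid : ρ (x * (cq x)⁻¹) = LinearMap.id := (H12.character_eq_finrank_iff ρ _).1 (by
      have := htriv ⟨_, hn⟩
      rw [← hρχ, Representation.char_one] at this
      exact this)
    rw [← hρχ]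
    show LinearMap.trace ℂ _ (ρ x) = LinearMap.trace ℂ _ (ρ (cq x))
    congr 1
    calc ρ x = ρ (x * (cq x)⁻¹) * ρ (cq x) := by rw [← map_mul, inv_mul_cancel_right]
      _ = ρ (cq x) := by rw [hid]; rfl
  have hone : ∀ q : G ⧸ N, MemLocalIdeal M ((χ : G → ℂ) (cq q) / (χ : G → ℂ) 1 - 1) := by
    intro q
    set i := (Subgroup.centralizer ({cq q} : Set G)).index
    have hi : ¬ p ∣ i := fun hd =>
      h.notDvd' (hd.trans (Subgroup.index_dvd_of_le (hcP q.out)))
    have h1 := hχ (cq q)
    rw [centralChar, centralChar, div_one, mul_one] at h1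
    have h2 := H20.memIdeal_mul (H20.memRing_neg (H20.inv_natCast_memRing hM hi)) h1
    convert h2 using 1
    have hi0 : (i : ℂ) ≠ 0 := by exact_mod_cast Subgroup.index_ne_zero_of_finite
    field_simp [H12.irr_apply_one_ne_zero χ]
    ring
  have hQ : MemLocalIdeal M (∑ q : G ⧸ N, ((χ : G → ℂ) (cq q) / (χ : G → ℂ) 1 - 1)) :=
    Finset.sum_induction _ (MemLocalIdeal M) (fun _ _ => H20.memIdeal_add) H20.memIdeal_zero
      fun q _ => hone q
  have hsum' : ∑ q : G ⧸ N, (χ : G → ℂ) (cq q) = 0 := by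
    rw [← Finset.sum_fiberwise Finset.univ (fun x : G => (x : G ⧸ N))] at hsum
    have hfib : ∀ q : G ⧸ N,
        ∑ x ∈ Finset.univ.filter (fun x : G => (x : G ⧸ N) = q), (χ : G → ℂ) x =
          (Nat.card N : ℂ) * (χ : G → ℂ) (cq q) := by
      intro q
      rw [Finset.sum_eq_card_nsmul fun x hx => by
        rw [hval x, (Finset.mem_filter.1 hx).2], nsmul_eq_mul]
      congr 2
      rw [← Fintype.card_subtype, ← Nat.card_eq_fintype_card]
      exact Nat.card_congr
        { toFun := fun x => ⟨(cq q)⁻¹ * x.1, QuotientGroup.eq.1 ((hcq q).trans x.2.symm)⟩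
          invFun := fun n => ⟨cq q * n, by
            rw [QuotientGroup.mk_mul, (QuotientGroup.eq_one_iff (n : G)).2 n.2, mul_one, hcq]⟩
          left_inv := fun x => Subtype.ext (by simp)
          right_inv := fun n => Subtype.ext (by simp) }
    simp only [hfib, ← Finset.mul_sum] at hsum
    exact (mul_eq_zero.1 hsum).resolve_left (by exact_mod_cast Nat.card_pos.ne')
  rw [Finset.sum_sub_distrib, ← Finset.sum_div, hsum', zero_div, zero_sub, Finset.sum_const,
    Finset.card_univ, nsmul_one, ← Nat.card_eq_fintype_card] at hQ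
  have h3 := H20.memIdeal_mul (H20.memRing_neg (H20.memRing_natCast 1)) hQ
  rw [Nat.cast_one, neg_mul_neg, one_mul, H20.natCast_memIdeal_iff hM] at h3
  exact h.index h3

/-- The coset sums of the principal block idempotent. -/
theorem aug_part_eIdem (hM : IsPModular p M) {P : Subgroup G} (h : IsSupplemented p N P)
    (q : G ⧸ N) :
    aug (part N q (H20.eIdem (principalBlock M G))) = (N.index : ℂ)⁻¹ := by
  classical
  obtain ⟨g, rfl⟩ := QuotientGroup.mk_surjective q
  set B := principalBlock M G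
  have hre : aug (part N (g : G ⧸ N) (H20.eIdem B)) = ∑ n : N, blockCoeff B (g * n) := by
    simp only [aug, part, H20.coeff_ofFun, H20.eIdem, ← Finset.sum_filter]
    refine Finset.sum_bij' (fun x hx => ⟨g⁻¹ * x,
      QuotientGroup.eq.1 (Finset.mem_filter.1 hx).2.symm⟩) (fun n _ => g * (n : G)) ?_ ?_ ?_ ?_ ?_
    · exact fun x hx => Finset.mem_univ _
    · intro n _
      simp only [Finset.mem_filter, Finset.mem_univ, true_and]
      rw [QuotientGroup.mk_mul, (QuotientGroup.eq_one_iff (n : G)).2 n.2, mul_one]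
    · intro x _; simp
    · intro n _; apply Subtype.ext; simp
    · intro x _; simp
  have hterm : ∀ χ : IrrCharacter G, χ ∈ B →
      ∑ n : N, conj ((χ : G → ℂ) (g * n)) =
        if χ = H12.oneIrr G then (Nat.card N : ℂ) else 0 := by
    intro χ hχ
    split_ifs with h1
    · subst h1; simp [H12.oneIrr_apply]
    · rw [← map_sum, ← map_zero conj]
      congr 1
      obtain ⟨m, ρ, hρ, hρχ⟩ := χ.2
      have hzero : H12.avgOp (ρ.comp N.subtype) (fun _ => (1 : ℂ)) = 0 := by
        refine avgOp_eq_zero_of_constituents (fun _ _ => rfl) _ _ _ rfl fun φ hφ => ?_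
        by_cases hφ1 : φ = H12.oneIrr N
        · exfalso
          subst hφ1
          apply h1
          have hφ' : classInner (fun n : N => (χ : G → ℂ) n) (H12.oneIrr N : N → ℂ) ≠ 0 := by
            rw [← hρχ]; exact hφ
          obtain ⟨k, -, hk⟩ := res_eq_nat_mul (fun g => rfl) hφ'
          refine eq_one_of_trivial_on hM h hχ fun n => ?_
          have e1 := hk 1
          simp only [Subgroup.coe_one, H12.oneIrr_apply, mul_one] at e1
          rw [hk n, H12.oneIrr_apply, mul_one, ← e1]
        · have := H12.sum_mul_conj_eq_card_mul (φ : N → ℂ) (H12.oneIrr N : N → ℂ)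
          rw [H12.classInner_irr_ne hφ1, mul_zero] at this
          simpa [H12.oneIrr_apply] using this
      have h2 := congrArg (fun T : Module.End ℂ (Fin m → ℂ) => LinearMap.trace ℂ _ (ρ g * T)) hzero
      simp only [mul_zero, map_zero, H12.avgOp, Finset.mul_sum, map_sum, one_smul] at h2
      rw [← h2, ← hρχ]
      refine Finset.sum_congr rfl fun n _ => ?_
      show LinearMap.trace ℂ _ (ρ (g * n)) = LinearMap.trace ℂ _ (ρ g * ρ (n : G))
      rw [map_mul]
  rw [hre]
  simp only [H20.blockCoeff_eq_sum, ← Finset.mul_sum]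
  rw [Finset.sum_comm]
  have : ∀ χ : IrrCharacter G,
      ∑ n : N, (if χ ∈ B then (χ : G → ℂ) 1 * conj ((χ : G → ℂ) (g * n)) else 0) =
        if χ = H12.oneIrr G then (Nat.card N : ℂ) else 0 := by
    intro χ
    by_cases hχ : χ ∈ B
    · simp only [if_pos hχ, ← Finset.mul_sum, hterm χ hχ]
      split_ifs with h1
      · subst h1; simp [H12.oneIrr_apply]
      · simp
    · simp only [if_neg hχ, Finset.sum_const_zero]
      rw [if_neg]
      rintro rfl
      exact hχ (H20.mem_blockOf_self (H12.oneIrr G))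
  rw [Finset.sum_congr rfl fun χ _ => this χ, Finset.sum_ite_eq', if_pos (Finset.mem_univ _),
    ← N.card_mul_index]
  have : (Nat.card N : ℂ) ≠ 0 := by exact_mod_cast Nat.card_pos.ne'
  push_cast
  field_simp

/-- **Key computation**: the block multiplicities over `θ` square-sum to one. -/
theorem index_mul_omegaN_part_one (hM : IsPModular p M) {P : Subgroup G}
    (h : IsSupplemented p N P) {θ : IrrCharacter N} (hθ : θ ∈ principalBlock M N) :
    (N.index : ℂ) * omegaN (θ : N → ℂ) (part N 1 (H20.eIdem (principalBlock M G))) = 1 := by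
  classical
  set B := principalBlock M G
  have hB : IsPBlock M B := H20.isPBlock_principalBlock
  set e := H20.eIdem B
  have he : IntCoeff M e := fun x => by
    simp only [e, H20.eIdem, H20.coeff_ofFun]; exact H20.memRing_blockCoeff hB x
  have heinv := H20.isCl_eIdem B
  choose c hc hcP using h.rep
  let cq : G ⧸ N → G := fun q => c q.out
  have hcq : ∀ q : G ⧸ N, (cq q : G ⧸ N) = q := fun q => by
    simp only [cq, hc]
    exact QuotientGroup.out_eq' q
  have hcqP : ∀ q, P ≤ Subgroup.centralizer ({cq q} : Set G) := fun q => hcP _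
  have hcqP' : ∀ q, P ≤ Subgroup.centralizer ({(cq q)⁻¹} : Set G) := fun q x hx => by
    rw [Subgroup.mem_centralizer_singleton_iff]
    exact (show Commute x (cq q) from
      Subgroup.mem_centralizer_singleton_iff.1 (hcqP q hx)).inv_right.eq
  let s : G ⧸ N → MonoidAlgebra ℂ G := fun q => nAvg N (cq q)
  let s' : G ⧸ N → MonoidAlgebra ℂ G := fun q => nAvg N (cq q)⁻¹
  have hs : ∀ q, InCoset N q (s q) := fun q => by simpa [s, hcq q] using inCoset_nAvg (N := N) (cq q)
  have hs' : ∀ q, InCoset N q⁻¹ (s' q) := fun q => by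
    simpa [s', hcq q] using inCoset_nAvg (N := N) (cq q)⁻¹
  have hIs : ∀ q, IntCoeff M (s q) := fun q => intCoeff_nAvg hM (hcqP q) h.notDvd
  have hIs' : ∀ q, IntCoeff M (s' q) := fun q => intCoeff_nAvg hM (hcqP' q) h.notDvd
  let η : G ⧸ N → ℂ := fun q => omegaN (θ : N → ℂ) (s q * s' q)
  have hη1 : ∀ q, InCoset N 1 (s q * s' q) := fun q => by
    simpa using (hs q).mul (hs' q)
  have hηI : ∀ q, H20.IsInv N (s q * s' q) := fun q => (isInv_nAvg _).mul (isInv_nAvg _)
  have hηn : ∀ q, ¬ MemLocalIdeal M (η q) := fun q =>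
    omegaN_not_memIdeal ((hIs q).mul (hIs' q)) (hηI q) (hη1 q)
      (by simp [s, s', aug_mul, aug_nAvg]) hθ
  have hηR : ∀ q, MemLocalRing M (η q) := fun q =>
    (omegaN_congr ((hIs q).mul (hIs' q)) (hηI q) (hη1 q) hθ).1
  have hη0 : ∀ q, η q ≠ 0 := fun q => (H20.inv_memRing (hηR q) (hηn q)).1
  let Z : G ⧸ N → G ⧸ N → MonoidAlgebra ℂ G := fun q q' => s' q * part N (q * q'⁻¹) e * s q'
  have hZ1 : ∀ q q', InCoset N 1 (Z q q') := fun q q' => by
    have := ((hs' q).mul (inCoset_part (q * q'⁻¹) e)).mul (hs q')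
    simpa [Z, mul_assoc] using this
  have hZI : ∀ q q', H20.IsInv N (Z q q') := fun q q' =>
    ((isInv_nAvg _).mul (isInv_part _ heinv)).mul (isInv_nAvg _)
  have hZint : ∀ q q', IntCoeff M (Z q q') := fun q q' =>
    ((hIs' q).mul (intCoeff_part he _)).mul (hIs q')
  -- a representation over `θ`
  obtain ⟨χ, hover⟩ := exists_over (G := G) θ
  obtain ⟨k, -, hres⟩ := res_eq_nat_mul (twist_eq_self hM h hθ) hover
  obtain ⟨m, σ, hσ, hσχ⟩ := χ.2
  have := hσ
  have := H12.nontrivial_of_isIrreducible σ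
  let F := σ.asAlgebraHom
  let σN : Representation ℂ N (Fin m → ℂ) := σ.comp N.subtype
  have hscal : ∀ z : MonoidAlgebra ℂ G, InCoset N 1 z → H20.IsInv N z →
      F z = omegaN (θ : N → ℂ) z • (1 : Module.End ℂ (Fin m → ℂ)) := by
    intro z hz1 hz
    set w := omegaN (θ : N → ℂ) z
    have e1 : F z = H12.avgOp σN (fun n : N => z.coeff (n : G)) := by
      simp only [F, H20.asAlgebraHom_eq_avgOp, H12.avgOp]
      exact sum_subtype_of_inCoset_one hz1 (fun x c => c • σ x) fun x => zero_smul _ _
    let f' : N → ℂ := fun n => z.coeff (n : G) - if n = 1 then w else 0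
    have hf' : IsClassFunction N f' := fun a b => by
      have h1 : b * a * b⁻¹ = 1 ↔ a = 1 := conj_eq_one_iff
      simp only [f', isClassFunction_coeff hz a b, h1]
    have hz0 : H12.avgOp σN f' = 0 := by
      refine avgOp_eq_zero_of_constituents hf' _ _ _ rfl fun φ hφ => ?_
      have hφθ : φ = θ := by
        by_contra hne
        apply hφ
        have e2 : σN.character = (k : ℂ) • (θ : N → ℂ) := by
          funext n
          simp only [Pi.smul_apply, smul_eq_mul, ← hres n, ← hσχ]
          rfl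
        rw [e2, H12.classInner_smul_left, H12.classInner_irr_ne (Ne.symm hne), mul_zero]
      subst hφθ
      simp only [f', sub_mul, ite_mul, zero_mul, Finset.sum_sub_distrib, Finset.sum_ite_eq',
        Finset.mem_univ, if_true, w, omegaN]
      rw [div_mul_cancel₀ _ (H12.irr_apply_one_ne_zero _), sub_self]
    rw [e1]
    rw [H12.avgOp] at hz0 ⊢
    have e3 : ∑ x : N, (if x = 1 then w else 0) • σN x = w • (1 : Module.End ℂ (Fin m → ℂ)) := by
      simp [ite_smul]
    rw [← e3, ← sub_eq_zero, ← Finset.sum_sub_distrib]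
    refine Eq.trans (Finset.sum_congr rfl fun x _ => ?_) hz0
    exact (sub_smul (z.coeff (x : G)) (if x = 1 then w else 0) (σN x)).symm
  have hss : ∀ q, F (s q) * F (s' q) = η q • (1 : Module.End ℂ (Fin m → ℂ)) := fun q => by
    rw [← map_mul]; exact hscal _ (hη1 q) (hηI q)
  have hss' : ∀ q, F (s' q) * F (s q) = η q • (1 : Module.End ℂ (Fin m → ℂ)) := fun q => by
    have h1 : (η q)⁻¹ • F (s q) * F (s' q) = 1 := by
      rw [smul_mul_assoc, hss, smul_smul, inv_mul_cancel₀ (hη0 q), one_smul]
    rw [mul_eq_one_comm, mul_smul_comm] at h1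
    rw [← h1, smul_smul, mul_inv_cancel₀ (hη0 q), one_smul]
  let X : Matrix (G ⧸ N) (G ⧸ N) ℂ := fun q q' => omegaN (θ : N → ℂ) (Z q q') * (η q')⁻¹
  have hee : e * e = e := H20.eIdem_mul_self B
  have hXX : ∀ q q'', ∑ q' : G ⧸ N, X q q' * X q' q'' = X q q'' := by
    intro q q''
    have key : (∑ q' : G ⧸ N, X q q' * X q' q'') • (1 : Module.End ℂ (Fin m → ℂ)) =
        X q q'' • (1 : Module.End ℂ (Fin m → ℂ)) := by
      have e1 : ∀ q', (X q q' * X q' q'') • (1 : Module.End ℂ (Fin m → ℂ)) = (η q'')⁻¹ •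
          (F (s' q) * F (part N (q * q'⁻¹) e * part N (q' * q''⁻¹) e) * F (s q'')) := by
        intro q'
        have h1 : (omegaN (θ : N → ℂ) (Z q q') • (1 : Module.End ℂ (Fin m → ℂ))) *
            (omegaN (θ : N → ℂ) (Z q' q'') • (1 : Module.End ℂ (Fin m → ℂ))) =
            η q' • (F (s' q) * F (part N (q * q'⁻¹) e * part N (q' * q''⁻¹) e) * F (s q'')) := by
          rw [← hscal _ (hZ1 q q') (hZI q q'), ← hscal _ (hZ1 q' q'') (hZI q' q'')]
          simp only [Z, map_mul]
          calc F (s' q) * F (part N (q * q'⁻¹) e) * F (s q') *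
                (F (s' q') * F (part N (q' * q''⁻¹) e) * F (s q''))
              = F (s' q) * F (part N (q * q'⁻¹) e) * (F (s q') * F (s' q')) *
                  F (part N (q' * q''⁻¹) e) * F (s q'') := by simp only [mul_assoc]
            _ = _ := by rw [hss]; simp [mul_assoc]
        rw [smul_mul_smul_comm, one_mul] at h1
        have h2 := congrArg (fun T => ((η q')⁻¹ * (η q'')⁻¹) • T) h1
        simp only [smul_smul] at h2
        convert h2 using 1
        · congr 1
          simp only [X]
          ring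
        · congr 1
          field_simp [hη0 q']
      rw [Finset.sum_smul, Finset.sum_congr rfl fun q' _ => e1 q', ← Finset.smul_sum,
        ← Finset.sum_mul, ← Finset.mul_sum, ← map_sum]
      have e2 : ∑ q' : G ⧸ N, part N (q * q'⁻¹) e * part N (q' * q''⁻¹) e =
          part N (q * q''⁻¹) e := by
        conv_rhs => rw [← hee, ← sum_part_mul_part]
        refine Fintype.sum_equiv ((Equiv.inv _).trans (Equiv.mulLeft q)) _ _ fun q' => ?_
        simp [mul_assoc]
      rw [e2, ← map_mul, ← map_mul, hscal _ (hZ1 q q'') (hZI q q''), smul_smul]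
      congr 1
      simp only [X]
      ring
    exact smul_left_injective ℂ (one_ne_zero (α := Module.End ℂ (Fin m → ℂ))) key
  have hXdiag : ∀ q, X q q = omegaN (θ : N → ℂ) (part N 1 e) := by
    intro q
    have h1 := hscal _ (hZ1 q q) (hZI q q)
    simp only [Z, mul_inv_cancel, map_mul] at h1
    rw [hscal _ (inCoset_part 1 e) (isInv_part _ heinv), mul_smul_comm, mul_one, smul_mul_assoc,
      hss', smul_smul] at h1
    have h2 := smul_left_injective ℂ (one_ne_zero (α := Module.End ℂ (Fin m → ℂ))) h1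
    simp only [X, Z, mul_inv_cancel]
    rw [← h2]
    field_simp [hη0 q]
  -- entries are local integers congruent to `1 / |G : N|`
  have hXR : ∀ q q', MemLocalRing M (X q q') := fun q q' => H20.memRing_mul
    (omegaN_congr (hZint q q') (hZI q q') (hZ1 q q') hθ).1 (H20.inv_memRing (hηR q') (hηn q')).2
  have hXcong : ∀ q q', MemLocalIdeal M (X q q' - (N.index : ℂ)⁻¹) := by
    intro q q'
    have hZa : aug (Z q q') = (N.index : ℂ)⁻¹ := by
      simp only [Z, s, s', aug_mul, aug_nAvg, one_mul, mul_one]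
      exact aug_part_eIdem hM h _
    have h1 := (omegaN_congr (hZint q q') (hZI q q') (hZ1 q q') hθ).2
    rw [hZa] at h1
    have h2 := (omegaN_congr ((hIs q').mul (hIs' q')) (hηI q') (hη1 q') hθ).2
    simp only [s, s', aug_mul, aug_nAvg, mul_one] at h2
    have h3 := H20.memIdeal_mul (H20.inv_memRing (hηR q') (hηn q')).2
      (H20.memIdeal_add h1 (H20.memIdeal_mul
        (H20.memRing_neg (H20.inv_natCast_memRing hM h.index)) h2))
    convert h3 using 1
    simp only [X, η, s, s']
    have := hη0 q'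
    simp only [η, s, s'] at this
    field_simp
    ring
  let A : Matrix (G ⧸ N) (G ⧸ N) (H20.O M) := Matrix.of fun q q' => ⟨X q q', hXR q q'⟩
  let Y : Matrix (G ⧸ N) (G ⧸ N) (H20.O M) :=
    Matrix.of fun _ _ => ⟨(N.index : ℂ)⁻¹, H20.inv_natCast_memRing hM h.index⟩
  have hA : A ^ (1 + 1) = A := by
    ext q q''
    rw [pow_two, Matrix.mul_apply]
    simp only [A, Matrix.of_apply, AddSubmonoidClass.coe_finsetSum, Subring.coe_mul]
    exact hXX q q''
  have hidx0 : (N.index : ℂ) ≠ 0 := by exact_mod_cast Subgroup.index_ne_zero_of_finite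
  have hY : Y ^ (1 + 1) = Y := by
    ext q q''
    rw [pow_two, Matrix.mul_apply]
    simp only [Y, Matrix.of_apply, AddSubmonoidClass.coe_finsetSum, Subring.coe_mul,
      Finset.sum_const, Finset.card_univ, ← Nat.card_eq_fintype_card, nsmul_eq_mul,
      ← Subgroup.index_eq_card, Subring.coe_natCast]
    field_simp
  have htr := congrArg Subtype.val (H20.trace_eq_of_map_eq hM (m := 1) hp.out.not_dvd_one hA hY (by
    ext q q'
    simp only [A, Y, Matrix.map_apply, Matrix.of_apply]
    rw [H20.red_eq_red_iff]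
    exact hXcong q q'))
  simp only [Matrix.trace, Matrix.diag, A, Y, Matrix.of_apply, AddSubmonoidClass.coe_finsetSum,
    hXdiag, Finset.sum_const, Finset.card_univ, ← Nat.card_eq_fintype_card, nsmul_eq_mul,
    ← Subgroup.index_eq_card, Subring.coe_mul, Subring.coe_natCast,
    mul_inv_cancel₀ hidx0] at htr
  exact htr

/-- Restriction is a bijection between the principal blocks. -/
theorem principalBlock_res_bijection (hM : IsPModular p M) {P : Subgroup G}
    (h : IsSupplemented p N P) :
    (∀ χ ∈ principalBlock M G, ∃ θ ∈ principalBlock M ↥N,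
        ∀ n : N, (χ : G → ℂ) n = (θ : N → ℂ) n) ∧
      ∀ θ ∈ principalBlock M ↥N, ∃! χ : IrrCharacter G, χ ∈ principalBlock M G ∧
        ∀ n : N, (χ : G → ℂ) n = (θ : N → ℂ) n := by
  classical
  set B := principalBlock M G
  have hB : IsPBlock M B := H20.isPBlock_principalBlock
  -- for each `θ` the multiplicities of the members of `B` square-sum to one
  have key : ∀ θ ∈ principalBlock M ↥N, ∃ χ : IrrCharacter G, χ ∈ B ∧
      (∀ n : N, (χ : G → ℂ) n = (θ : N → ℂ) n) ∧ ∀ χ' ∈ B,
        classInner (fun n : N => (χ' : G → ℂ) n) (θ : N → ℂ) ≠ 0 → χ' = χ := by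
    intro θ hθ
    have hk := index_mul_omegaN_part_one (M := M) hM h hθ
    choose k hk1 using fun χ : IrrCharacter G => H12.IsCharacter.classInner_nat
      (H12.IsCharacter.res (H12.isCharacter_irr χ) N) (H12.isCharacter_irr θ)
    have hres : ∀ χ : IrrCharacter G, k χ ≠ 0 →
        ∀ n : N, (χ : G → ℂ) n = (k χ : ℂ) * (θ : N → ℂ) n := by
      intro χ hne n
      obtain ⟨j, hj, hj'⟩ := res_eq_nat_mul (twist_eq_self hM h hθ)
        (show classInner (fun n : N => (χ : G → ℂ) n) (θ : N → ℂ) ≠ 0 by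
          rw [hk1]; exact_mod_cast hne)
      rw [hk1] at hj
      rw [hj' n, Nat.cast_inj.1 hj]
    have homega : omegaN (θ : N → ℂ) (part N 1 (H20.eIdem B)) =
        (N.index : ℂ)⁻¹ * ∑ χ : IrrCharacter G, if χ ∈ B then ((k χ ^ 2 : ℕ) : ℂ) else 0 := by
      have e1 : ∀ n : N, (part N 1 (H20.eIdem B)).coeff (n : G) = blockCoeff B (n : G) := fun n => by
        simp [part, H20.eIdem, (QuotientGroup.eq_one_iff (n : G)).2 n.2]
      have e2 : ∀ χ : IrrCharacter G, ∑ n : N,
          (if χ ∈ B then (χ : G → ℂ) 1 * conj ((χ : G → ℂ) n) else 0) * (θ : N → ℂ) n =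
          if χ ∈ B then (θ : N → ℂ) 1 * (Nat.card N : ℂ) * ((k χ ^ 2 : ℕ) : ℂ) else 0 := by
        intro χ
        by_cases hχ : χ ∈ B
        · simp only [if_pos hχ]
          have e3 := congrArg conj
            (H12.sum_mul_conj_eq_card_mul (fun n : N => (χ : G → ℂ) n) (θ : N → ℂ))
          rw [hk1] at e3
          simp only [map_sum, map_mul, Complex.conj_conj, Complex.conj_natCast] at e3
          simp only [mul_assoc, ← Finset.mul_sum]
          rw [e3]
          by_cases hz : k χ = 0
          · simp [hz]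
          · have h1 := hres χ hz 1
            simp only [Subgroup.coe_one] at h1
            rw [h1]; push_cast; ring
        · simp [if_neg hχ]
      rw [omegaN]
      simp only [e1, H20.blockCoeff_eq_sum, mul_assoc, Finset.sum_mul]
      rw [← Finset.mul_sum, Finset.sum_comm, Finset.sum_congr rfl fun χ _ => e2 χ, ← N.card_mul_index]
      have hN : (Nat.card N : ℂ) ≠ 0 := by exact_mod_cast Nat.card_pos.ne'
      have ht := H12.irr_apply_one_ne_zero θ
      push_cast
      simp only [Finset.mul_sum, Finset.sum_div]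
      refine Finset.sum_congr rfl fun χ _ => ?_
      split_ifs
      · field_simp
      · simp
    rw [homega, ← mul_assoc, mul_inv_cancel₀ (by exact_mod_cast Subgroup.index_ne_zero_of_finite),
      one_mul, ← Finset.sum_filter] at hk
    have hsum : ∑ χ ∈ Finset.univ.filter (· ∈ B), k χ ^ 2 = 1 := by exact_mod_cast hk
    obtain ⟨χ, hχ, hkχ⟩ := Finset.exists_ne_zero_of_sum_ne_zero (by rw [hsum]; exact one_ne_zero)
    have hχB : χ ∈ B := (Finset.mem_filter.1 hχ).2
    rw [← Finset.add_sum_erase _ _ hχ] at hsum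
    have h1 : k χ ^ 2 = 1 ∧
        ∑ x ∈ (Finset.univ.filter (· ∈ B)).erase χ, k x ^ 2 = 0 := by omega
    have hk1' : k χ = 1 := (Nat.pow_eq_one.1 h1.1).resolve_right two_ne_zero
    refine ⟨χ, hχB, fun n => ?_, fun χ' hχ' hne => ?_⟩
    · rw [hres χ (by omega) n, hk1']; simp
    · by_contra hne'
      have := (Finset.sum_eq_zero_iff.1 h1.2) χ'
        (Finset.mem_erase.2 ⟨hne', Finset.mem_filter.2 ⟨Finset.mem_univ _, hχ'⟩⟩)
      rw [hk1] at hne
      exact hne (by simp [pow_eq_zero_iff two_ne_zero |>.1 this])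
  refine ⟨fun χ hχ => ?_, fun θ hθ => ?_⟩
  · obtain ⟨θ, hθ⟩ := H21.exists_constituent N χ
    have hone : classInner (fun n : N => (H12.oneIrr G : G → ℂ) n) (H12.oneIrr N : N → ℂ) ≠ 0 := by
      rw [show (fun n : N => (H12.oneIrr G : G → ℂ) n) = (H12.oneIrr N : N → ℂ) from
        funext fun n => rfl, H12.classInner_irr_self]
      exact one_ne_zero
    obtain ⟨g, hg⟩ := H21.covered_conj N hB (H20.isPBlock_principalBlock (G := N))
      (H12.oneIrr G) (H20.mem_blockOf_self (H12.oneIrr G)) (H12.oneIrr N)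
      (H20.mem_blockOf_self (H12.oneIrr N)) hone χ hχ θ hθ
    have hinv := twist_eq_self (M := M) hM h hg g⁻¹
    have hθN : θ ∈ principalBlock M ↥N := by
      have : H21.conjChar N g θ = θ := by
        conv_rhs => rw [← H21.conjChar_inv_cancel N g θ]
        refine Subtype.ext (funext fun n => ?_)
        rw [H21.conjChar_apply N g⁻¹]
        exact (congrFun hinv n).symm
      rwa [← this]
    obtain ⟨χ₀, -, hres, huniq⟩ := key θ hθN
    exact ⟨θ, hθN, fun n => by rw [huniq χ hχ hθ]; exact hres n⟩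
  · obtain ⟨χ, hχ, hres, huniq⟩ := key θ hθ
    refine ⟨χ, ⟨hχ, hres⟩, fun χ' ⟨hχ', hres'⟩ => huniq χ' hχ' ?_⟩
    rw [show (fun n : N => (χ' : G → ℂ) n) = (θ : N → ℂ) from funext hres',
      H12.classInner_irr_self]
    exact one_ne_zero

end H22
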